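import Cfsg.Agent.ESixDegree.Arith

/-!
# No degree just below `q (q¹² + 1)(q¹⁰ + 1)(q⁶ + 1)` (generated)

For `1 ≤ D ≤ 8` and a prime power `q ≥ 3` the number `q (q¹² + 1)(q¹⁰ + 1)(q⁶ + 1) - D` does not divide
the product of `q ^ 149` with the `q ^ d - 1` over the degrees `d` of `E₈`.
-/

set_option autoImplicit false
set_option maxRecDepth 100000
set_option maxHeartbeats 1000000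

namespace CfsgLib.EEightDegree

open CfsgLib.ESixDegree (kill gcd_pow_dvd)

/-- The claimed minimal degree. -/
def tgt (q : ℕ) : ℕ := q * (q ^ 12 + 1) * (q ^ 10 + 1) * (q ^ 6 + 1)

/-- The part of the order prime to the characteristic. -/
def degProd (q : ℕ) : ℕ :=
  (q ^ 2 - 1) * (q ^ 8 - 1) * (q ^ 12 - 1) * (q ^ 14 - 1) * (q ^ 18 - 1) * (q ^ 20 - 1) * (q ^ 24 - 1) *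
    (q ^ 30 - 1)

/-- A multiple of every possible degree. -/
def bigN (q : ℕ) : ℕ := q ^ 149 * degProd q

theorem killMid {k z L : ℤ} (a b : ℤ) (h : a * k + b * z = L) (n : ℕ) {A B : ℤ}
    (hd : k ∣ A * (z ^ n * B)) : k ∣ (A * L ^ n) * B := by
  rw [show A * L ^ n * B = L ^ n * (A * B) by ring]
  exact kill a b h n _ (by rwa [show z ^ n * (A * B) = A * (z ^ n * B) by ring])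

theorem degProd_eq (x : ℤ) : (x ^ 2 - 1) * (x ^ 8 - 1) * (x ^ 12 - 1) * (x ^ 14 - 1) * (x ^ 18 - 1) *
    (x ^ 20 - 1) * (x ^ 24 - 1) * (x ^ 30 - 1) =
    (-1 + x) ^ 8 * ((1 + x) ^ 8 * ((1 + x + x ^ 2) ^ 4 * ((1 + x ^ 2) ^ 4 * ((1 + x + x ^ 2 + x ^ 3 + x ^ 4) ^ 2 * ((1 - x + x ^ 2) ^ 4 * ((1 + x + x ^ 2 + x ^ 3 + x ^ 4 + x ^ 5 + x ^ 6) ^ 1 * ((1 + x ^ 4) ^ 2 * ((1 + x ^ 3 + x ^ 6) ^ 1 * ((1 - x + x ^ 2 - x ^ 3 + x ^ 4) ^ 2 * ((1 - x ^ 2 + x ^ 4) ^ 2 * ((1 - x + x ^ 2 - x ^ 3 + x ^ 4 - x ^ 5 + x ^ 6) ^ 1 * ((1 - x + x ^ 3 - x ^ 4 + x ^ 5 - x ^ 7 + x ^ 8) ^ 1 * ((1 - x ^ 3 + x ^ 6) ^ 1 * ((1 - x ^ 2 + x ^ 4 - x ^ 6 + x ^ 8) ^ 1 * ((1 - x ^ 4 + x ^ 8) ^ 1 * ((1 + x - x ^ 3 - x ^ 4 - x ^ 5 + x ^ 7 + x ^ 8) ^ 1 * (1)))))))))))))))))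 := by
  ring

theorem bound_1 (x : ℤ) (hx : 256 ≤ x)
    (h : (-1 + x + x ^ 7 + x ^ 11 + x ^ 13 + x ^ 17 + x ^ 19 + x ^ 23 + x ^ 29) ∣
      1 * ((-1 + x) ^ 8 * ((1 + x) ^ 8 * ((1 + x + x ^ 2) ^ 4 * ((1 + x ^ 2) ^ 4 * ((1 + x + x ^ 2 + x ^ 3 + x ^ 4) ^ 2 * ((1 - x + x ^ 2) ^ 4 * ((1 + x + x ^ 2 + x ^ 3 + x ^ 4 + x ^ 5 + x ^ 6) ^ 1 * ((1 + x ^ 4) ^ 2 * ((1 + x ^ 3 + x ^ 6) ^ 1 * ((1 - x + x ^ 2 - x ^ 3 + x ^ 4) ^ 2 * ((1 - x ^ 2 + x ^ 4) ^ 2 * ((1 - x + x ^ 2 - x ^ 3 + x ^ 4 - x ^ 5 + x ^ 6) ^ 1 * ((1 - x + x ^ 3 - x ^ 4 + x ^ 5 - x ^ 7 + x ^ 8) ^ 1 * ((1 - x ^ 3 + x ^ 6) ^ 1 * ((1 - x ^ 2 + x ^ 4 - x ^ 6 + x ^ 8) ^ 1 * ((1 - x ^ 4 + x ^ 8) ^ 1 * ((1 + x - x ^ 3 - x ^ 4 - x ^ 5 + x ^ 7 + x ^ 8) ^ 1 * (1))))))))))))))))))) :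 False := by
  replace h := (Dvd.intro (1 - x + x ^ 3 - x ^ 4 + x ^ 5 - x ^ 7 + x ^ 8) (by ring) : (-1 + x ^ 3 + x ^ 5 + x ^ 7 + x ^ 9 + x ^ 11 + x ^ 13 - x ^ 16 + x ^ 19 + x ^ 20 + x ^ 21) ∣ (-1 + x + x ^ 7 + x ^ 11 + x ^ 13 + x ^ 17 + x ^ 19 + x ^ 23 + x ^ 29)).trans h
  replace h := killMid (1) (-8 - 8 * x - 8 * x ^ 2 - 7 * x ^ 3 - 7 * x ^ 4 - 6 * x ^ 5 - 6 * x ^ 6 - 5 * x ^ 7 - 5 * x ^ 8 - 4 * x ^ 9 - 4 * x ^ 10 - 3 * x ^ 11 - 3 * x ^ 12 - 2 * x ^ 13 - 2 * x ^ 14 - 2 * x ^ 15 - 3 * x ^ 16 - 3 * x ^ 17 - 3 * x ^ 18 - 2 * x ^ 19 - x ^ 20) (k := -1 + x ^ 3 + x ^ 5 + x ^ 7 + x ^ 9 + x ^ 11 + x ^ 13 - x ^ 16 + x ^ 19 + x ^ 20 + x ^ 21) (z := -1 + x) (L := 7) (by ring) 8 h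
  replace h := killMid (-1) (8 - 8 * x + 8 * x ^ 2 - 7 * x ^ 3 + 7 * x ^ 4 - 6 * x ^ 5 + 6 * x ^ 6 - 5 * x ^ 7 + 5 * x ^ 8 - 4 * x ^ 9 + 4 * x ^ 10 - 3 * x ^ 11 + 3 * x ^ 12 - 2 * x ^ 13 + 2 * x ^ 14 - 2 * x ^ 15 + x ^ 16 - x ^ 17 + x ^ 18 + x ^ 20) (k := -1 + x ^ 3 + x ^ 5 + x ^ 7 + x ^ 9 + x ^ 11 + x ^ 13 - x ^ 16 + x ^ 19 + x ^ 20 + x ^ 21) (z := 1 + x) (L := 9) (by ring) 8 h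
  replace h := killMid (x) (1 - x ^ 2 + x ^ 3 - x ^ 4 - x ^ 8 + x ^ 9 - x ^ 10 - x ^ 14 + x ^ 15 - x ^ 20) (k := -1 + x ^ 3 + x ^ 5 + x ^ 7 + x ^ 9 + x ^ 11 + x ^ 13 - x ^ 16 + x ^ 19 + x ^ 20 + x ^ 21) (z := 1 + x + x ^ 2) (L := 1) (by ring) 4 h
  replace h := killMid (-1) (x ^ 3 + x ^ 7 + x ^ 11 - x ^ 16 + x ^ 18 + x ^ 19) (k := -1 + x ^ 3 + x ^ 5 + x ^ 7 + x ^ 9 + x ^ 11 + x ^ 13 - x ^ 16 + x ^ 19 + x ^ 20 + x ^ 21) (z := 1 + x ^ 2) (L := 1) (by ring) 4 h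
  replace h := killMid (-1 - x ^ 3) (x ^ 5 + x ^ 10 + x ^ 20) (k := -1 + x ^ 3 + x ^ 5 + x ^ 7 + x ^ 9 + x ^ 11 + x ^ 13 - x ^ 16 + x ^ 19 + x ^ 20 + x ^ 21) (z := 1 + x + x ^ 2 + x ^ 3 + x ^ 4) (L := 1) (by ring) 2 h
  replace h := killMid (-x) (3 + 2 * x - x ^ 2 - 3 * x ^ 3 - x ^ 4 + 2 * x ^ 5 + 4 * x ^ 6 + 2 * x ^ 7 - x ^ 8 - 3 * x ^ 9 - x ^ 10 + 2 * x ^ 11 + 4 * x ^ 12 + 2 * x ^ 13 - x ^ 14 - 3 * x ^ 15 - 2 * x ^ 16 + 2 * x ^ 18 + 2 * x ^ 19 + x ^ 20) (k := -1 + x ^ 3 + x ^ 5 + x ^ 7 + x ^ 9 + x ^ 11 + x ^ 13 - x ^ 16 + x ^ 19 + x ^ 20 + x ^ 21) (z := 1 - x + x ^ 2) (L := 3) (by ring) 4 h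
  replace h := killMid (1 + 2 * x + 3 * x ^ 2 - 3 * x ^ 3 + 5 * x ^ 4 - x ^ 5) (8 - 6 * x + x ^ 2 - 7 * x ^ 3 + 7 * x ^ 4 - 8 * x ^ 5 + 6 * x ^ 6 - 2 * x ^ 7 + 5 * x ^ 8 - 10 * x ^ 9 + 4 * x ^ 10 - 4 * x ^ 11 + 3 * x ^ 12 - 5 * x ^ 13 + 9 * x ^ 14 - 5 * x ^ 15 + 3 * x ^ 16 - 4 * x ^ 17 + 3 * x ^ 18 - 5 * x ^ 19 + x ^ 20) (k := -1 + x ^ 3 + x ^ 5 + x ^ 7 + x ^ 9 + x ^ 11 + x ^ 13 - x ^ 16 + x ^ 19 + x ^ 20 + x ^ 21) (z := 1 + x + x ^ 2 + x ^ 3 + x ^ 4 + x ^ 5 + x ^ 6) (L := 7) (by ring) 1 h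
  replace h := killMid (-3 + 2 * x - 2 * x ^ 3) (-2 + 2 * x + x ^ 3 + x ^ 5 + 2 * x ^ 7 + 2 * x ^ 9 + x ^ 11 + x ^ 13 - x ^ 15 - x ^ 16 + x ^ 17 + 2 * x ^ 19 + 2 * x ^ 20) (k := -1 + x ^ 3 + x ^ 5 + x ^ 7 + x ^ 9 + x ^ 11 + x ^ 13 - x ^ 16 + x ^ 19 + x ^ 20 + x ^ 21) (z := 1 + x ^ 4) (L := 1) (by ring) 2 h
  replace h := killMid (-12 - 3 * x + 4 * x ^ 2 - 11 * x ^ 3 + 2 * x ^ 4 - 9 * x ^ 5) (7 - 3 * x + 4 * x ^ 2 - 6 * x ^ 3 + 8 * x ^ 4 - 5 * x ^ 5 + 13 * x ^ 6 + x ^ 7 + 24 * x ^ 8 - x ^ 9 + 14 * x ^ 10 - 13 * x ^ 11 + 11 * x ^ 12 - 9 * x ^ 13 + 12 * x ^ 14 - 16 * x ^ 15 + 3 * x ^ 16 - 4 * x ^ 17 + 18 * x ^ 18 + 7 * x ^ 19 + 9 * x ^ 20) (k := -1 + x ^ 3 + x ^ 5 + x ^ 7 + x ^ 9 + x ^ 11 + x ^ 13 - x ^ 16 + x ^ 19 + x ^ 20 +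 x ^ 21) (z := 1 + x ^ 3 + x ^ 6) (L := 19) (by ring) 1 h
  replace h := killMid (1 - 2 * x + 2 * x ^ 2 - x ^ 3) (2 - 3 * x ^ 5 + 3 * x ^ 10 - 2 * x ^ 15 + x ^ 20) (k := -1 + x ^ 3 + x ^ 5 + x ^ 7 + x ^ 9 + x ^ 11 + x ^ 13 - x ^ 16 + x ^ 19 + x ^ 20 + x ^ 21) (z := 1 - x + x ^ 2 - x ^ 3 + x ^ 4) (L := 1) (by ring) 2 h
  replace h := killMid (-2 + x + 2 * x ^ 2 - 2 * x ^ 3) (-1 + x + x ^ 2 + x ^ 3 + x ^ 4 + x ^ 6 - x ^ 7 + x ^ 8 - x ^ 9 + x ^ 10 + x ^ 12 + x ^ 13 + x ^ 14 - x ^ 15 - x ^ 17 + x ^ 18 + 2 * x ^ 20) (k := -1 + x ^ 3 + x ^ 5 + x ^ 7 + x ^ 9 + x ^ 11 + x ^ 13 - x ^ 16 + x ^ 19 + x ^ 20 + x ^ 21) (z := 1 - x ^ 2 + x ^ 4) (L := 1) (by ring) 2 h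
  replace h := killMid (-1 + x ^ 2 - x ^ 3 + x ^ 4 - x ^ 5) (x ^ 2 + x ^ 3 + x ^ 4 + x ^ 8 + x ^ 12 + x ^ 13 + x ^ 14 - x ^ 15 - x ^ 16 + x ^ 18 + x ^ 19 + x ^ 20) (k := -1 + x ^ 3 + x ^ 5 + x ^ 7 + x ^ 9 + x ^ 11 + x ^ 13 - x ^ 16 + x ^ 19 + x ^ 20 + x ^ 21) (z := 1 - x + x ^ 2 - x ^ 3 + x ^ 4 - x ^ 5 + x ^ 6) (L := 1) (by ring) 1 h
  replace h := killMid (-9496 + 1089 * x + 5904 * x ^ 2 - 7309 * x ^ 3 + 1476 * x ^ 4 - 1239 * x ^ 5 - 600 * x ^ 6 - 129 * x ^ 7) (21345 + 22434 * x + 28338 * x ^ 2 + 9180 * x ^ 3 + 8478 * x ^ 4 - 16418 * x ^ 5 - 14074 * x ^ 6 - 18378 * x ^ 7 + 5886 * x ^ 8 + 3684 * x ^ 9 + 12836 * x ^ 10 + 4660 * x ^ 11 + 7932 * x ^ 12 - 2046 * x ^ 13 + 5730 * x ^ 14 + 7106 * x ^ 15 + 9403 * x ^ 16 + 3060 * x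 ^ 17 + 2826 * x ^ 18 + 858 * x ^ 19 + 129 * x ^ 20) (k := -1 + x ^ 3 + x ^ 5 + x ^ 7 + x ^ 9 + x ^ 11 + x ^ 13 - x ^ 16 + x ^ 19 + x ^ 20 + x ^ 21) (z := 1 - x + x ^ 3 - x ^ 4 + x ^ 5 - x ^ 7 + x ^ 8) (L := 30841) (by ring) 1 h
  replace h := killMid (-x + 2 * x ^ 2 - 3 * x ^ 3 + 2 * x ^ 4 - x ^ 5) (3 - x + 2 * x ^ 2 + 2 * x ^ 4 - x ^ 5 + x ^ 6 - x ^ 7 + 2 * x ^ 8 - 3 * x ^ 9 + 2 * x ^ 10 - x ^ 11 + x ^ 12 - x ^ 13 + 2 * x ^ 14 + x ^ 16 + 2 * x ^ 18 - x ^ 19 + x ^ 20) (k := -1 + x ^ 3 + x ^ 5 + x ^ 7 + x ^ 9 + x ^ 11 + x ^ 13 - x ^ 16 + x ^ 19 + x ^ 20 + x ^ 21) (z := 1 - x ^ 3 + x ^ 6) (L := 3) (by ring) 1 h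
  replace h := killMid (x - x ^ 2 - x ^ 3 + 2 * x ^ 4 - x ^ 5 - x ^ 6 + x ^ 7) (1 + x - x ^ 5 - x ^ 11 + x ^ 15 + x ^ 16 - x ^ 20) (k := -1 + x ^ 3 + x ^ 5 + x ^ 7 + x ^ 9 + x ^ 11 + x ^ 13 - x ^ 16 + x ^ 19 + x ^ 20 + x ^ 21) (z := 1 - x ^ 2 + x ^ 4 - x ^ 6 + x ^ 8) (L := 1) (by ring) 1 h
  replace h := killMid (x - x ^ 3 - x ^ 5 + x ^ 7) (1 + x - x ^ 3 - x ^ 9 + x ^ 11 - x ^ 13 + x ^ 15 + x ^ 16 + x ^ 17 - x ^ 19 - x ^ 20) (k := -1 + x ^ 3 + x ^ 5 + x ^ 7 + x ^ 9 + x ^ 11 + x ^ 13 - x ^ 16 + x ^ 19 + x ^ 20 + x ^ 21) (z := 1 - x ^ 4 + x ^ 8) (L := 1) (by ring) 1 h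
  replace h := killMid (x - x ^ 3 - x ^ 5 + x ^ 7) (1 + x ^ 16 - x ^ 20) (k := -1 + x ^ 3 + x ^ 5 + x ^ 7 + x ^ 9 + x ^ 11 + x ^ 13 - x ^ 16 + x ^ 19 + x ^ 20 + x ^ 21) (z := 1 + x - x ^ 3 - x ^ 4 - x ^ 5 + x ^ 7 + x ^ 8) (L := 1) (by ring) 1 h
  replace h : (-1 + x ^ 3 + x ^ 5 + x ^ 7 + x ^ 9 + x ^ 11 + x ^ 13 - x ^ 16 + x ^ 19 + x ^ 20 + x ^ 21) ∣ 247349343217114251388359 := h.trans (dvd_of_eq (by norm_num))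
  have hle := Int.le_of_dvd (by norm_num) h
  have st : ∀ i : ℕ, 256 * x ^ i ≤ x ^ (i + 1) := fun i => by
    rw [pow_succ' x i]; exact mul_le_mul_of_nonneg_right hx (by positivity)
  have s1 := st 1
  have s2 := st 2
  have s3 := st 3
  have s4 := st 4
  have s5 := st 5
  have s6 := st 6
  have s7 := st 7
  norm_num at s1 s2 s3 s4 s5 s6 s7
  have p2 : 0 ≤ x ^ 2 := by positivity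
  have p3 : 0 ≤ x ^ 3 := by positivity
  have p4 : 0 ≤ x ^ 4 := by positivity
  have p5 : 0 ≤ x ^ 5 := by positivity
  have p6 : 0 ≤ x ^ 6 := by positivity
  have p7 : 0 ≤ x ^ 7 := by positivity
  have p8 : 0 ≤ x ^ 8 := by positivity
  have hf0 : (0 : ℤ) ≤ 1 - x + x ^ 3 - x ^ 4 + x ^ 5 - x ^ 7 + x ^ 8 := by linarith
  have hf1 : (1 - x + x ^ 3 - x ^ 4 + x ^ 5 - x ^ 7 + x ^ 8 : ℤ) ≤ 2 * x ^ 8 := by linarith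
  have e : (-1 + x ^ 3 + x ^ 5 + x ^ 7 + x ^ 9 + x ^ 11 + x ^ 13 - x ^ 16 + x ^ 19 + x ^ 20 + x ^ 21) * (1 - x + x ^ 3 - x ^ 4 + x ^ 5 - x ^ 7 + x ^ 8) = -1 + x + x ^ 7 + x ^ 11 + x ^ 13 + x ^ 17 + x ^ 19 + x ^ 23 + x ^ 29 := by ring
  have h1 := mul_le_mul_of_nonneg_right hle hf0
  have h2 := mul_le_mul_of_nonneg_left hf1 (show (0 : ℤ) ≤ 247349343217114251388359 by norm_num)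
  have h3 : (256 : ℤ) ^ 21 * x ^ 8 ≤ x ^ 29 := by
    rw [show x ^ 29 = x ^ 21 * x ^ 8 by rw [← pow_add]]
    exact mul_le_mul_of_nonneg_right (pow_le_pow_left₀ (by norm_num) hx _) (by positivity)
  have h4 : 1 ≤ x ^ 8 := one_le_pow₀ (by linarith)
  have q7 : 0 ≤ x ^ 7 := by positivity
  have q11 : 0 ≤ x ^ 11 := by positivity
  have q13 : 0 ≤ x ^ 13 := by positivity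
  have q17 : 0 ≤ x ^ 17 := by positivity
  have q19 : 0 ≤ x ^ 19 := by positivity
  have q23 : 0 ≤ x ^ 23 := by positivity
  norm_num at h3
  linarith

theorem bound_2 (x : ℤ) (hx : 256 ≤ x)
    (h : (-2 + x + x ^ 7 + x ^ 11 + x ^ 13 + x ^ 17 + x ^ 19 + x ^ 23 + x ^ 29) ∣
      2 * ((-1 + x) ^ 8 * ((1 + x) ^ 8 * ((1 + x + x ^ 2) ^ 4 * ((1 + x ^ 2) ^ 4 * ((1 + x + x ^ 2 + x ^ 3 + x ^ 4) ^ 2 * ((1 - x + x ^ 2) ^ 4 * ((1 + x + x ^ 2 + x ^ 3 + x ^ 4 + x ^ 5 + x ^ 6) ^ 1 * ((1 + x ^ 4) ^ 2 * ((1 + x ^ 3 + x ^ 6) ^ 1 * ((1 - x + x ^ 2 - x ^ 3 + x ^ 4) ^ 2 * ((1 - x ^ 2 + x ^ 4) ^ 2 * ((1 - x + x ^ 2 - x ^ 3 + x ^ 4 - x ^ 5 + x ^ 6) ^ 1 * ((1 - x + x ^ 3 - x ^ 4 + x ^ 5 - x ^ 7 + x ^ 8) ^ 1 * ((1 - x ^ 3 + x ^ 6) ^ 1 * ((1 - x ^ 2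 + x ^ 4 - x ^ 6 + x ^ 8) ^ 1 * ((1 - x ^ 4 + x ^ 8) ^ 1 * ((1 + x - x ^ 3 - x ^ 4 - x ^ 5 + x ^ 7 + x ^ 8) ^ 1 * (1))))))))))))))))))) : False := by
  replace h := (Dvd.intro (1 - x + x ^ 2 - x ^ 3 + x ^ 4) (by ring) : (-2 - x + x ^ 2 + 2 * x ^ 5 + x ^ 6 + x ^ 8 - 2 * x ^ 10 + x ^ 12 + x ^ 14 + 2 * x ^ 15 + x ^ 18 - x ^ 20 + x ^ 24 + x ^ 25) ∣ (-2 + x + x ^ 7 + x ^ 11 + x ^ 13 + x ^ 17 + x ^ 19 + x ^ 23 + x ^ 29)).trans h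
  replace h := killMid (1) (-8 - 9 * x - 8 * x ^ 2 - 8 * x ^ 3 - 8 * x ^ 4 - 6 * x ^ 5 - 5 * x ^ 6 - 5 * x ^ 7 - 4 * x ^ 8 - 4 * x ^ 9 - 6 * x ^ 10 - 6 * x ^ 11 - 5 * x ^ 12 - 5 * x ^ 13 - 4 * x ^ 14 - 2 * x ^ 15 - 2 * x ^ 16 - 2 * x ^ 17 - x ^ 18 - x ^ 19 - 2 * x ^ 20 - 2 * x ^ 21 - 2 * x ^ 22 - 2 * x ^ 23 - x ^ 24) (k := -2 - x + x ^ 2 + 2 * x ^ 5 + x ^ 6 + x ^ 8 - 2 * x ^ 10 + x ^ 12 + x ^ 14 + 2 * x ^ 15 + x ^ 18 - x ^ 20 + x ^ 24 + x ^ 25) (z := -1 + x) (L := 6) (by ring) 8 h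
  replace h := killMid (-1) (-x + 2 * x ^ 2 - 2 * x ^ 3 + 2 * x ^ 4 + x ^ 6 - x ^ 7 + 2 * x ^ 8 - 2 * x ^ 9 + x ^ 12 - x ^ 13 + 2 * x ^ 14 + x ^ 18 - x ^ 19 + x ^ 24) (k := -2 - x + x ^ 2 + 2 * x ^ 5 + x ^ 6 + x ^ 8 - 2 * x ^ 10 + x ^ 12 + x ^ 14 + 2 * x ^ 15 + x ^ 18 - x ^ 20 + x ^ 24 + x ^ 25) (z := 1 + x) (L := 2) (by ring) 8 h
  replace h := killMid (1 + x) (8 - 5 * x - 3 * x ^ 2 + 7 * x ^ 3 - 4 * x ^ 4 - 5 * x ^ 5 + 6 * x ^ 6 - 2 * x ^ 7 - 5 * x ^ 8 + 6 * x ^ 9 + x ^ 10 - 5 * x ^ 11 + 3 * x ^ 12 + x ^ 13 - 5 * x ^ 14 + x ^ 15 + 2 * x ^ 16 - 3 * x ^ 17 + 2 * x ^ 19 - x ^ 20 + x ^ 22 - x ^ 23 - x ^ 24) (k := -2 - x + x ^ 2 + 2 * x ^ 5 + x ^ 6 + x ^ 8 - 2 * x ^ 10 + x ^ 12 + x ^ 14 + 2 * x ^ 15 + x ^ 18 - x ^ 20 + x ^ 24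 + x ^ 25) (z := 1 + x + x ^ 2) (L := 6) (by ring) 4 h
  replace h := killMid (-1) (-x + x ^ 2 + x ^ 3 - x ^ 4 + x ^ 5 + 2 * x ^ 6 - x ^ 7 - x ^ 8 + x ^ 9 - x ^ 10 - x ^ 11 + 2 * x ^ 12 + x ^ 13 - x ^ 14 + x ^ 15 + x ^ 16 - x ^ 17 + x ^ 19 - x ^ 20 - x ^ 21 + x ^ 22 + x ^ 23) (k := -2 - x + x ^ 2 + 2 * x ^ 5 + x ^ 6 + x ^ 8 - 2 * x ^ 10 + x ^ 12 + x ^ 14 + 2 * x ^ 15 + x ^ 18 - x ^ 20 + x ^ 24 + x ^ 25) (z := 1 + x ^ 2) (L := 2) (by ring) 4 h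
  replace h := killMid (x + x ^ 3) (2 - x ^ 2 - x ^ 6 - x ^ 8 + 2 * x ^ 10 - x ^ 12 - x ^ 14 - x ^ 18 + x ^ 20 - x ^ 24) (k := -2 - x + x ^ 2 + 2 * x ^ 5 + x ^ 6 + x ^ 8 - 2 * x ^ 10 + x ^ 12 + x ^ 14 + 2 * x ^ 15 + x ^ 18 - x ^ 20 + x ^ 24 + x ^ 25) (z := 1 + x + x ^ 2 + x ^ 3 + x ^ 4) (L := 2) (by ring) 2 h
  replace h := killMid (1 - x) (4 + 3 * x - 3 * x ^ 2 - 5 * x ^ 3 - 2 * x ^ 4 + x ^ 5 + 4 * x ^ 6 + 4 * x ^ 7 - x ^ 8 - 4 * x ^ 9 - x ^ 10 + x ^ 11 + x ^ 12 + x ^ 13 - x ^ 14 - 3 * x ^ 15 + 3 * x ^ 17 + 2 * x ^ 18 - x ^ 20 - 2 * x ^ 21 - x ^ 22 + x ^ 23 + x ^ 24) (k := -2 - x + x ^ 2 + 2 * x ^ 5 + x ^ 6 + x ^ 8 - 2 * x ^ 10 + x ^ 12 + x ^ 14 + 2 * x ^ 15 + x ^ 18 - x ^ 20 + x ^ 24 + x ^ 25) (z := 1 - x + x ^ 2) (L := 2)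 (by ring) 4 h
  replace h := killMid (-58 + 40 * x - 38 * x ^ 2 + 50 * x ^ 3 - 33 * x ^ 4 - 11 * x ^ 5) (11 + 11 * x - 11 * x ^ 5 - 11 * x ^ 6 + 58 * x ^ 7 - 40 * x ^ 8 - 20 * x ^ 9 + x ^ 10 + 64 * x ^ 11 - 37 * x ^ 12 + 45 * x ^ 13 + 17 * x ^ 14 - 66 * x ^ 15 - 33 * x ^ 16 + 47 * x ^ 17 + 18 * x ^ 18 + 9 * x ^ 19 + 10 * x ^ 20 + 5 * x ^ 21 - 61 * x ^ 22 + 33 * x ^ 23 + 11 * x ^ 24) (k := -2 - x + x ^ 2 + 2 * x ^ 5 + x ^ 6 + x ^ 8 - 2 * x ^ 10 + x ^ 12 + x ^ 14 + 2 * x ^ 15 + x ^ 18 - x ^ 20 + x ^ 24 + x ^ 25) (z := 1 + x + x ^ 2 + x ^ 3 + x ^ 4 + x ^ 5 + x ^ 6) (L := 127) (by ring) 1 h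
  replace h := killMid (x - x ^ 2 + x ^ 3) (2 + 2 * x - x ^ 2 - 3 * x ^ 5 - x ^ 6 + x ^ 7 - x ^ 8 + x ^ 9 + 2 * x ^ 10 - x ^ 12 - x ^ 14 - 2 * x ^ 15 + x ^ 17 - x ^ 18 + x ^ 19 + x ^ 20 - x ^ 21 - x ^ 24) (k := -2 - x + x ^ 2 + 2 * x ^ 5 + x ^ 6 + x ^ 8 - 2 * x ^ 10 + x ^ 12 + x ^ 14 + 2 * x ^ 15 + x ^ 18 - x ^ 20 + x ^ 24 + x ^ 25) (z := 1 + x ^ 4) (L := 2) (by ring) 2 h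
  replace h := killMid (-17 + 18 * x - 28 * x ^ 2 + 35 * x ^ 3 - 27 * x ^ 4 + 4 * x ^ 5) (23 + 19 * x - 21 * x ^ 2 + x ^ 3 - 10 * x ^ 4 + x ^ 5 - 12 * x ^ 6 + 25 * x ^ 7 - 5 * x ^ 8 + 12 * x ^ 9 - 2 * x ^ 10 + x ^ 11 - 12 * x ^ 12 + 25 * x ^ 13 - 5 * x ^ 14 - 11 * x ^ 15 - 4 * x ^ 16 + 21 * x ^ 17 - 3 * x ^ 18 + 11 * x ^ 19 - 13 * x ^ 20 - 3 * x ^ 21 - 8 * x ^ 22 + 23 * x ^ 23 - 4 * x ^ 24) (k := -2 - x + x ^ 2 + 2 * x ^ 5 + x ^ 6 + x ^ 8 - 2 * x ^ 10 + x ^ 12 + x ^ 14 + 2 * x ^ 15 + x ^ 18 - x ^ 20 + x ^ 24 + x ^ 25) (z := 1 + x ^ 3 + x ^ 6) (L := 57) (by ring) 1 h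
  replace h := killMid (-1) (10 + 9 * x + x ^ 3 - 8 * x ^ 5 - 6 * x ^ 6 + x ^ 7 + x ^ 9 + 6 * x ^ 10 + 4 * x ^ 11 + x ^ 13 - 3 * x ^ 15 - 2 * x ^ 16 + x ^ 19 + 2 * x ^ 20 + x ^ 21) (k := -2 - x + x ^ 2 + 2 * x ^ 5 + x ^ 6 + x ^ 8 - 2 * x ^ 10 + x ^ 12 + x ^ 14 + 2 * x ^ 15 + x ^ 18 - x ^ 20 + x ^ 24 + x ^ 25) (z := 1 - x + x ^ 2 - x ^ 3 + x ^ 4) (L := 12) (by ring) 2 h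
  replace h := killMid (x - 2 * x ^ 2 + x ^ 3) (2 + 2 * x - x ^ 2 + x ^ 3 - 2 * x ^ 5 - x ^ 6 - x ^ 8 + 2 * x ^ 10 + x ^ 11 - x ^ 12 + 2 * x ^ 13 - x ^ 14 - x ^ 15 - x ^ 18 + x ^ 20 + x ^ 23 - x ^ 24) (k := -2 - x + x ^ 2 + 2 * x ^ 5 + x ^ 6 + x ^ 8 - 2 * x ^ 10 + x ^ 12 + x ^ 14 + 2 * x ^ 15 + x ^ 18 - x ^ 20 + x ^ 24 + x ^ 25) (z := 1 - x ^ 2 + x ^ 4) (L := 2) (by ring) 2 h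
  replace h := killMid (-16 + 8 * x - 12 * x ^ 2 + 10 * x ^ 3 - 11 * x ^ 4 - 11 * x ^ 5) (11 + 11 * x - 11 * x ^ 5 - 11 * x ^ 6 + 16 * x ^ 7 + 24 * x ^ 8 + 12 * x ^ 9 + 17 * x ^ 10 + 30 * x ^ 11 + 31 * x ^ 12 + 37 * x ^ 13 + 13 * x ^ 14 - 26 * x ^ 15 - 13 * x ^ 16 + 15 * x ^ 17 + 2 * x ^ 18 + x ^ 19 + 6 * x ^ 20 + 3 * x ^ 21 + 23 * x ^ 22 + 33 * x ^ 23 + 11 * x ^ 24) (k := -2 - x + x ^ 2 + 2 * x ^ 5 + x ^ 6 + x ^ 8 - 2 * x ^ 10 + x ^ 12 + x ^ 14 + 2 * x ^ 15 + x ^ 18 - x ^ 20 + x ^ 24 + x ^ 25) (z := 1 - x + x ^ 2 - x ^ 3 + x ^ 4 - x ^ 5 + x ^ 6) (L := 43) (by ring) 1 h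
  replace h := killMid (-1 + x - x ^ 2 + x ^ 3 - x ^ 4) (-1 + x ^ 3 + x ^ 5 + x ^ 7 + x ^ 9 + x ^ 11 + x ^ 13 - x ^ 16 + x ^ 19 + x ^ 20 + x ^ 21) (k := -2 - x + x ^ 2 + 2 * x ^ 5 + x ^ 6 + x ^ 8 - 2 * x ^ 10 + x ^ 12 + x ^ 14 + 2 * x ^ 15 + x ^ 18 - x ^ 20 + x ^ 24 + x ^ 25) (z := 1 - x + x ^ 3 - x ^ 4 + x ^ 5 - x ^ 7 + x ^ 8) (L := 1) (by ring) 1 h
  replace h := killMid (-59 + 20 * x - 24 * x ^ 2 + 37 * x ^ 3 - 19 * x ^ 4 - 28 * x ^ 5) (9 - 19 * x + 31 * x ^ 2 + 39 * x ^ 3 + 4 * x ^ 4 + 37 * x ^ 5 + 40 * x ^ 6 + 79 * x ^ 7 + 15 * x ^ 8 - 18 * x ^ 9 + 56 * x ^ 10 + 9 * x ^ 11 - 28 * x ^ 12 + 59 * x ^ 13 + 39 * x ^ 14 - 5 * x ^ 15 + 6 * x ^ 16 + 69 * x ^ 17 + 27 * x ^ 18 - 7 * x ^ 19 + 51 * x ^ 20 + 15 * x ^ 21 - 18 * x ^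 22 + 47 * x ^ 23 + 28 * x ^ 24) (k := -2 - x + x ^ 2 + 2 * x ^ 5 + x ^ 6 + x ^ 8 - 2 * x ^ 10 + x ^ 12 + x ^ 14 + 2 * x ^ 15 + x ^ 18 - x ^ 20 + x ^ 24 + x ^ 25) (z := 1 - x ^ 3 + x ^ 6) (L := 127) (by ring) 1 h
  replace h := killMid (-1 + x - x ^ 2 + x ^ 3 - x ^ 4) (x + x ^ 3 + x ^ 7 + x ^ 9 + x ^ 13 + x ^ 15 + x ^ 19 + x ^ 21) (k := -2 - x + x ^ 2 + 2 * x ^ 5 + x ^ 6 + x ^ 8 - 2 * x ^ 10 + x ^ 12 + x ^ 14 + 2 * x ^ 15 + x ^ 18 - x ^ 20 + x ^ 24 + x ^ 25) (z := 1 - x ^ 2 + x ^ 4 - x ^ 6 + x ^ 8) (L := 2) (by ring) 1 h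
  replace h := killMid (-1 + x - x ^ 2 + x ^ 3 - x ^ 4) (x + x ^ 5 + x ^ 7 + 2 * x ^ 11 + x ^ 15 + x ^ 17 + x ^ 21) (k := -2 - x + x ^ 2 + 2 * x ^ 5 + x ^ 6 + x ^ 8 - 2 * x ^ 10 + x ^ 12 + x ^ 14 + 2 * x ^ 15 + x ^ 18 - x ^ 20 + x ^ 24 + x ^ 25) (z := 1 - x ^ 4 + x ^ 8) (L := 2) (by ring) 1 h
  replace h := killMid (-1 + x - x ^ 2 + x ^ 3 - x ^ 4) (1 + x ^ 3 + x ^ 5 + x ^ 7 + x ^ 9 + x ^ 11 + x ^ 13 + x ^ 16 + x ^ 19 - x ^ 20 + x ^ 21) (k := -2 - x + x ^ 2 + 2 * x ^ 5 + x ^ 6 + x ^ 8 - 2 * x ^ 10 + x ^ 12 + x ^ 14 + 2 * x ^ 15 + x ^ 18 - x ^ 20 + x ^ 24 + x ^ 25) (z := 1 + x - x ^ 3 - x ^ 4 - x ^ 5 + x ^ 7 + x ^ 8) (L := 3) (by ring) 1 h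
  replace h : (-2 - x + x ^ 2 + 2 * x ^ 5 + x ^ 6 + x ^ 8 - 2 * x ^ 10 + x ^ 12 + x ^ 14 + 2 * x ^ 15 + x ^ 18 - x ^ 20 + x ^ 24 + x ^ 25) ∣ 1247381779954503988707065856 := h.trans (dvd_of_eq (by norm_num))
  have hle := Int.le_of_dvd (by norm_num) h
  have st : ∀ i : ℕ, 256 * x ^ i ≤ x ^ (i + 1) := fun i => by
    rw [pow_succ' x i]; exact mul_le_mul_of_nonneg_right hx (by positivity)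
  have s1 := st 1
  have s2 := st 2
  have s3 := st 3
  norm_num at s1 s2 s3
  have p2 : 0 ≤ x ^ 2 := by positivity
  have p3 : 0 ≤ x ^ 3 := by positivity
  have p4 : 0 ≤ x ^ 4 := by positivity
  have hf0 : (0 : ℤ) ≤ 1 - x + x ^ 2 - x ^ 3 + x ^ 4 := by linarith
  have hf1 : (1 - x + x ^ 2 - x ^ 3 + x ^ 4 : ℤ) ≤ 2 * x ^ 4 := by linarith
  have e : (-2 - x + x ^ 2 + 2 * x ^ 5 + x ^ 6 + x ^ 8 - 2 * x ^ 10 + x ^ 12 + x ^ 14 + 2 * x ^ 15 + x ^ 18 - x ^ 20 + x ^ 24 + x ^ 25) * (1 - x + x ^ 2 - x ^ 3 + x ^ 4) = -2 + x + x ^ 7 + x ^ 11 + x ^ 13 + x ^ 17 + x ^ 19 + x ^ 23 + x ^ 29 := by ring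
  have h1 := mul_le_mul_of_nonneg_right hle hf0
  have h2 := mul_le_mul_of_nonneg_left hf1 (show (0 : ℤ) ≤ 1247381779954503988707065856 by norm_num)
  have h3 : (256 : ℤ) ^ 25 * x ^ 4 ≤ x ^ 29 := by
    rw [show x ^ 29 = x ^ 25 * x ^ 4 by rw [← pow_add]]
    exact mul_le_mul_of_nonneg_right (pow_le_pow_left₀ (by norm_num) hx _) (by positivity)
  have h4 : 1 ≤ x ^ 4 := one_le_pow₀ (by linarith)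
  have q7 : 0 ≤ x ^ 7 := by positivity
  have q11 : 0 ≤ x ^ 11 := by positivity
  have q13 : 0 ≤ x ^ 13 := by positivity
  have q17 : 0 ≤ x ^ 17 := by positivity
  have q19 : 0 ≤ x ^ 19 := by positivity
  have q23 : 0 ≤ x ^ 23 := by positivity
  norm_num at h3
  linarith

theorem bound_3 (x : ℤ) (hx : 256 ≤ x)
    (h : (-3 + x + x ^ 7 + x ^ 11 + x ^ 13 + x ^ 17 + x ^ 19 + x ^ 23 + x ^ 29) ∣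
      3 * ((-1 + x) ^ 8 * ((1 + x) ^ 8 * ((1 + x + x ^ 2) ^ 4 * ((1 + x ^ 2) ^ 4 * ((1 + x + x ^ 2 + x ^ 3 + x ^ 4) ^ 2 * ((1 - x + x ^ 2) ^ 4 * ((1 + x + x ^ 2 + x ^ 3 + x ^ 4 + x ^ 5 + x ^ 6) ^ 1 * ((1 + x ^ 4) ^ 2 * ((1 + x ^ 3 + x ^ 6) ^ 1 * ((1 - x + x ^ 2 - x ^ 3 + x ^ 4) ^ 2 * ((1 - x ^ 2 + x ^ 4) ^ 2 * ((1 - x + x ^ 2 - x ^ 3 + x ^ 4 - x ^ 5 + x ^ 6) ^ 1 * ((1 - x + x ^ 3 - x ^ 4 + x ^ 5 - x ^ 7 + x ^ 8) ^ 1 * ((1 - x ^ 3 + x ^ 6) ^ 1 * ((1 - x ^ 2 + x ^ 4 - x ^ 6 + x ^ 8) ^ 1 * ((1 - x ^ 4 + x ^ 8) ^ 1 * ((1 + x - x ^ 3 - x ^ 4 - x ^ 5 + x ^ 7 + x ^ 8) ^ 1 * (1))))))))))))))))))) : False := by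
  replace h := killMid (1) (-8 - 7 * x - 7 * x ^ 2 - 7 * x ^ 3 - 7 * x ^ 4 - 7 * x ^ 5 - 7 * x ^ 6 - 6 * x ^ 7 - 6 * x ^ 8 - 6 * x ^ 9 - 6 * x ^ 10 - 5 * x ^ 11 - 5 * x ^ 12 - 4 * x ^ 13 - 4 * x ^ 14 - 4 * x ^ 15 - 4 * x ^ 16 - 3 * x ^ 17 - 3 * x ^ 18 - 2 * x ^ 19 - 2 * x ^ 20 - 2 * x ^ 21 - 2 * x ^ 22 - x ^ 23 - x ^ 24 - x ^ 25 - x ^ 26 - x ^ 27 - x ^ 28) (k := -3 + x + x ^ 7 + x ^ 11 + x ^ 13 + x ^ 17 + x ^ 19 + x ^ 23 + x ^ 29) (z := -1 + x) (L := 5) (by ring) 8 h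
  replace h := killMid (-1) (8 - 7 * x + 7 * x ^ 2 - 7 * x ^ 3 + 7 * x ^ 4 - 7 * x ^ 5 + 7 * x ^ 6 - 6 * x ^ 7 + 6 * x ^ 8 - 6 * x ^ 9 + 6 * x ^ 10 - 5 * x ^ 11 + 5 * x ^ 12 - 4 * x ^ 13 + 4 * x ^ 14 - 4 * x ^ 15 + 4 * x ^ 16 - 3 * x ^ 17 + 3 * x ^ 18 - 2 * x ^ 19 + 2 * x ^ 20 - 2 * x ^ 21 + 2 * x ^ 22 - x ^ 23 + x ^ 24 - x ^ 25 + x ^ 26 - x ^ 27 + x ^ 28) (k := -3 + x + x ^ 7 + x ^ 11 + x ^ 13 + x ^ 17 + x ^ 19 + x ^ 23 + x ^ 29) (z := 1 + x) (L := 11) (by ring) 8 h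
  replace h := killMid (-1) (4 - 3 * x - x ^ 2 + 4 * x ^ 3 - 3 * x ^ 4 - x ^ 5 + 4 * x ^ 6 - 2 * x ^ 7 - 2 * x ^ 8 + 4 * x ^ 9 - 2 * x ^ 10 - x ^ 11 + 3 * x ^ 12 - x ^ 13 - 2 * x ^ 14 + 3 * x ^ 15 - x ^ 16 - x ^ 17 + 2 * x ^ 18 - 2 * x ^ 20 + 2 * x ^ 21 - x ^ 23 + x ^ 24 - x ^ 26 + x ^ 27) (k := -3 + x + x ^ 7 + x ^ 11 + x ^ 13 + x ^ 17 + x ^ 19 + x ^ 23 + x ^ 29) (z := 1 + x + x ^ 2) (L := 7) (by ring) 4 h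
  replace h := killMid (-1) (x - x ^ 3 + x ^ 5 + x ^ 11 + x ^ 17 + x ^ 23 - x ^ 25 + x ^ 27) (k := -3 + x + x ^ 7 + x ^ 11 + x ^ 13 + x ^ 17 + x ^ 19 + x ^ 23 + x ^ 29) (z := 1 + x ^ 2) (L := 3) (by ring) 4 h
  replace h := killMid (-1) (2 - x - x ^ 2 + 2 * x ^ 5 - x ^ 6 - x ^ 8 + 2 * x ^ 10 - x ^ 12 - x ^ 14 + 2 * x ^ 15 - x ^ 18 + x ^ 20 - x ^ 24 + x ^ 25) (k := -3 + x + x ^ 7 + x ^ 11 + x ^ 13 + x ^ 17 + x ^ 19 + x ^ 23 + x ^ 29) (z := 1 + x + x ^ 2 + x ^ 3 + x ^ 4) (L := 5) (by ring) 2 h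
  replace h := killMid (1) (4 + 3 * x - x ^ 2 - 4 * x ^ 3 - 3 * x ^ 4 + x ^ 5 + 4 * x ^ 6 + 2 * x ^ 7 - 2 * x ^ 8 - 4 * x ^ 9 - 2 * x ^ 10 + x ^ 11 + 3 * x ^ 12 + x ^ 13 - 2 * x ^ 14 - 3 * x ^ 15 - x ^ 16 + x ^ 17 + 2 * x ^ 18 - 2 * x ^ 20 - 2 * x ^ 21 + x ^ 23 + x ^ 24 - x ^ 26 - x ^ 27) (k := -3 + x + x ^ 7 + x ^ 11 + x ^ 13 + x ^ 17 + x ^ 19 + x ^ 23 + x ^ 29) (z := 1 - x + x ^ 2) (L := 1) (by ring) 4 h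
  replace h := killMid (-364 - 121 * x - 40 * x ^ 2 - 13 * x ^ 3 - 4 * x ^ 4 - x ^ 5) (1 + 364 * x ^ 7 - 243 * x ^ 8 - 81 * x ^ 9 - 27 * x ^ 10 + 355 * x ^ 11 - 246 * x ^ 12 + 282 * x ^ 13 + 94 * x ^ 14 - 333 * x ^ 15 - 111 * x ^ 16 + 327 * x ^ 17 + 109 * x ^ 18 + 36 * x ^ 19 + 12 * x ^ 20 + 4 * x ^ 21 - 363 * x ^ 22 + 243 * x ^ 23 + 81 * x ^ 24 + 27 * x ^ 25 + 9 * x ^ 26 + 3 * x ^ 27 + x ^ 28) (k := -3 + x + x ^ 7 + x ^ 11 + x ^ 13 + x ^ 17 + x ^ 19 + x ^ 23 + x ^ 29) (z := 1 + x + x ^ 2 + x ^ 3 + x ^ 4 + x ^ 5 + x ^ 6) (L := 1093) (by ring) 1 h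
  replace h := killMid (-1) (x - x ^ 5 + x ^ 7 + x ^ 9 + x ^ 17 + x ^ 19 - x ^ 21 + x ^ 25) (k := -3 + x + x ^ 7 + x ^ 11 + x ^ 13 + x ^ 17 + x ^ 19 + x ^ 23 + x ^ 29) (z := 1 + x ^ 4) (L := 3) (by ring) 2 h
  replace h := killMid (-342 - 102 * x - 148 * x ^ 2 - 53 * x ^ 3 - 55 * x ^ 4 - 36 * x ^ 5) (91 + 36 * x - 342 * x ^ 2 - 102 * x ^ 3 - 148 * x ^ 4 + 289 * x ^ 5 + 47 * x ^ 6 + 454 * x ^ 7 + 155 * x ^ 8 + 203 * x ^ 9 - 253 * x ^ 10 - 47 * x ^ 11 - 112 * x ^ 12 + 289 * x ^ 13 + 47 * x ^ 14 + 112 * x ^ 15 + 53 * x ^ 16 + 397 * x ^ 17 + 138 * x ^ 18 + 148 * x ^ 19 - 289 * x ^ 20 - 47 * x ^ 21 - 112 * x ^ 22 + 289 * x ^ 23 + 47 * x ^ 24 + 112 * x ^ 25 + 53 * x ^ 26 + 55 * x ^ 27 + 36 * x ^ 28) (k := -3 + x + x ^ 7 + x ^ 11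 + x ^ 13 + x ^ 17 + x ^ 19 + x ^ 23 + x ^ 29) (z := 1 + x ^ 3 + x ^ 6) (L := 1117) (by ring) 1 h
  replace h := killMid (-1) (-2 - x + x ^ 2 + 2 * x ^ 5 + x ^ 6 + x ^ 8 - 2 * x ^ 10 + x ^ 12 + x ^ 14 + 2 * x ^ 15 + x ^ 18 - x ^ 20 + x ^ 24 + x ^ 25) (k := -3 + x + x ^ 7 + x ^ 11 + x ^ 13 + x ^ 17 + x ^ 19 + x ^ 23 + x ^ 29) (z := 1 - x + x ^ 2 - x ^ 3 + x ^ 4) (L := 1) (by ring) 2 h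
  replace h := killMid (-1) (x + x ^ 3 + x ^ 11 + 2 * x ^ 13 + x ^ 15 + x ^ 23 + x ^ 25) (k := -3 + x + x ^ 7 + x ^ 11 + x ^ 13 + x ^ 17 + x ^ 19 + x ^ 23 + x ^ 29) (z := 1 - x ^ 2 + x ^ 4) (L := 3) (by ring) 2 h
  replace h := killMid (-182 - 61 * x - 20 * x ^ 2 - 7 * x ^ 3 - 2 * x ^ 4 - x ^ 5) (1 + 182 * x ^ 7 + 243 * x ^ 8 + 81 * x ^ 9 + 27 * x ^ 10 + 191 * x ^ 11 + 246 * x ^ 12 + 264 * x ^ 13 + 88 * x ^ 14 - 153 * x ^ 15 - 51 * x ^ 16 + 165 * x ^ 17 + 55 * x ^ 18 + 18 * x ^ 19 + 6 * x ^ 20 + 2 * x ^ 21 + 183 * x ^ 22 + 243 * x ^ 23 + 81 * x ^ 24 + 27 * x ^ 25 + 9 * x ^ 26 + 3 * x ^ 27 + x ^ 28) (k := -3 + x + x ^ 7 + x ^ 11 + x ^ 13 + x ^ 17 + x ^ 19 + x ^ 23 + x ^ 29) (z := 1 - x + x ^ 2 - x ^ 3 + x ^ 4 - x ^ 5 + x ^ 6)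 (L := 547) (by ring) 1 h
  replace h := killMid (-1) (-1 + x ^ 3 + x ^ 5 + x ^ 7 + x ^ 9 + x ^ 11 + x ^ 13 - x ^ 16 + x ^ 19 + x ^ 20 + x ^ 21) (k := -3 + x + x ^ 7 + x ^ 11 + x ^ 13 + x ^ 17 + x ^ 19 + x ^ 23 + x ^ 29) (z := 1 - x + x ^ 3 - x ^ 4 + x ^ 5 - x ^ 7 + x ^ 8) (L := 2) (by ring) 1 h
  replace h := killMid (-324 - 114 * x + 70 * x ^ 2 + 55 * x ^ 3 + x ^ 4 - 18 * x ^ 5) (19 - 18 * x + 324 * x ^ 2 + 114 * x ^ 3 - 70 * x ^ 4 + 269 * x ^ 5 + 113 * x ^ 6 + 272 * x ^ 7 + 59 * x ^ 8 - 71 * x ^ 9 + 287 * x ^ 10 + 113 * x ^ 11 - 52 * x ^ 12 + 269 * x ^ 13 + 113 * x ^ 14 - 52 * x ^ 15 - 55 * x ^ 16 + 323 * x ^ 17 + 132 * x ^ 18 - 70 * x ^ 19 + 269 * x ^ 20 + 113 * x ^ 21 - 52 * x ^ 22 + 269 * x ^ 23 + 113 * x ^ 24 - 52 * x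 ^ 25 - 55 * x ^ 26 - x ^ 27 + 18 * x ^ 28) (k := -3 + x + x ^ 7 + x ^ 11 + x ^ 13 + x ^ 17 + x ^ 19 + x ^ 23 + x ^ 29) (z := 1 - x ^ 3 + x ^ 6) (L := 991) (by ring) 1 h
  replace h := killMid (-1) (x + x ^ 3 + x ^ 7 + x ^ 9 + x ^ 13 + x ^ 15 + x ^ 19 + x ^ 21) (k := -3 + x + x ^ 7 + x ^ 11 + x ^ 13 + x ^ 17 + x ^ 19 + x ^ 23 + x ^ 29) (z := 1 - x ^ 2 + x ^ 4 - x ^ 6 + x ^ 8) (L := 3) (by ring) 1 h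
  replace h := killMid (-1) (x + x ^ 5 + x ^ 7 + 2 * x ^ 11 + x ^ 15 + x ^ 17 + x ^ 21) (k := -3 + x + x ^ 7 + x ^ 11 + x ^ 13 + x ^ 17 + x ^ 19 + x ^ 23 + x ^ 29) (z := 1 - x ^ 4 + x ^ 8) (L := 3) (by ring) 1 h
  replace h := killMid (-1) (1 + x ^ 3 + x ^ 5 + x ^ 7 + x ^ 9 + x ^ 11 + x ^ 13 + x ^ 16 + x ^ 19 - x ^ 20 + x ^ 21) (k := -3 + x + x ^ 7 + x ^ 11 + x ^ 13 + x ^ 17 + x ^ 19 + x ^ 23 + x ^ 29) (z := 1 + x - x ^ 3 - x ^ 4 - x ^ 5 + x ^ 7 + x ^ 8) (L := 4) (by ring) 1 h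
  replace h : (-3 + x + x ^ 7 + x ^ 11 + x ^ 13 + x ^ 17 + x ^ 19 + x ^ 23 + x ^ 29) ∣ 4714024002223600272116090074921875000 := h.trans (dvd_of_eq (by norm_num))
  have hle := Int.le_of_dvd (by norm_num) h
  have st : ∀ i : ℕ, 256 * x ^ i ≤ x ^ (i + 1) := fun i => by
    rw [pow_succ' x i]; exact mul_le_mul_of_nonneg_right hx (by positivity)
  have hf0 : (0 : ℤ) ≤ 1 := by linarith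
  have hf1 : (1 : ℤ) ≤ 2 * x ^ 0 := by linarith
  have e : (-3 + x + x ^ 7 + x ^ 11 + x ^ 13 + x ^ 17 + x ^ 19 + x ^ 23 + x ^ 29) * (1) = -3 + x + x ^ 7 + x ^ 11 + x ^ 13 + x ^ 17 + x ^ 19 + x ^ 23 + x ^ 29 := by ring
  have h1 := mul_le_mul_of_nonneg_right hle hf0
  have h2 := mul_le_mul_of_nonneg_left hf1 (show (0 : ℤ) ≤ 4714024002223600272116090074921875000 by norm_num)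
  have h3 : (256 : ℤ) ^ 29 * x ^ 0 ≤ x ^ 29 := by
    rw [show x ^ 29 = x ^ 29 * x ^ 0 by rw [← pow_add]]
    exact mul_le_mul_of_nonneg_right (pow_le_pow_left₀ (by norm_num) hx _) (by positivity)
  have h4 : 1 ≤ x ^ 0 := one_le_pow₀ (by linarith)
  have q7 : 0 ≤ x ^ 7 := by positivity
  have q11 : 0 ≤ x ^ 11 := by positivity
  have q13 : 0 ≤ x ^ 13 := by positivity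
  have q17 : 0 ≤ x ^ 17 := by positivity
  have q19 : 0 ≤ x ^ 19 := by positivity
  have q23 : 0 ≤ x ^ 23 := by positivity
  norm_num at h3
  linarith

theorem bound_4 (x : ℤ) (hx : 256 ≤ x)
    (h : (-4 + x + x ^ 7 + x ^ 11 + x ^ 13 + x ^ 17 + x ^ 19 + x ^ 23 + x ^ 29) ∣
      4 * ((-1 + x) ^ 8 * ((1 + x) ^ 8 * ((1 + x + x ^ 2) ^ 4 * ((1 + x ^ 2) ^ 4 * ((1 + x + x ^ 2 + x ^ 3 + x ^ 4) ^ 2 * ((1 - x + x ^ 2) ^ 4 * ((1 + x + x ^ 2 + x ^ 3 + x ^ 4 + x ^ 5 + x ^ 6) ^ 1 * ((1 + x ^ 4) ^ 2 * ((1 + x ^ 3 + x ^ 6) ^ 1 * ((1 - x + x ^ 2 - x ^ 3 + x ^ 4) ^ 2 * ((1 - x ^ 2 + x ^ 4) ^ 2 * ((1 - x + x ^ 2 - x ^ 3 + x ^ 4 - x ^ 5 + x ^ 6) ^ 1 * ((1 - x + x ^ 3 - x ^ 4 + x ^ 5 - x ^ 7 + x ^ 8) ^ 1 * ((1 - x ^ 3 + x ^ 6) ^ 1 * ((1 - x ^ 2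 + x ^ 4 - x ^ 6 + x ^ 8) ^ 1 * ((1 - x ^ 4 + x ^ 8) ^ 1 * ((1 + x - x ^ 3 - x ^ 4 - x ^ 5 + x ^ 7 + x ^ 8) ^ 1 * (1))))))))))))))))))) : False := by
  replace h := (Dvd.intro (1 - x + x ^ 2) (by ring) : (-4 - 3 * x + x ^ 2 + 4 * x ^ 3 + 3 * x ^ 4 - x ^ 5 - 4 * x ^ 6 - 2 * x ^ 7 + 2 * x ^ 8 + 4 * x ^ 9 + 2 * x ^ 10 - x ^ 11 - 3 * x ^ 12 - x ^ 13 + 2 * x ^ 14 + 3 * x ^ 15 + x ^ 16 - x ^ 17 - 2 * x ^ 18 + 2 * x ^ 20 + 2 * x ^ 21 - x ^ 23 - x ^ 24 + x ^ 26 + x ^ 27) ∣ (-4 + x + x ^ 7 + x ^ 11 + x ^ 13 + x ^ 17 + x ^ 19 + x ^ 23 + x ^ 29)).trans h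
  replace h := killMid (1) (-8 - 11 * x - 10 * x ^ 2 - 6 * x ^ 3 - 3 * x ^ 4 - 4 * x ^ 5 - 8 * x ^ 6 - 10 * x ^ 7 - 8 * x ^ 8 - 4 * x ^ 9 - 2 * x ^ 10 - 3 * x ^ 11 - 6 * x ^ 12 - 7 * x ^ 13 - 5 * x ^ 14 - 2 * x ^ 15 - x ^ 16 - 2 * x ^ 17 - 4 * x ^ 18 - 4 * x ^ 19 - 2 * x ^ 20 - x ^ 23 - 2 * x ^ 24 - 2 * x ^ 25 - x ^ 26) (k := -4 - 3 * x + x ^ 2 + 4 * x ^ 3 + 3 * x ^ 4 - x ^ 5 - 4 * x ^ 6 - 2 * x ^ 7 + 2 * x ^ 8 + 4 * x ^ 9 + 2 * x ^ 10 - x ^ 11 - 3 * x ^ 12 - x ^ 13 + 2 * x ^ 14 + 3 * x ^ 15 + x ^ 16 - x ^ 17 - 2 * x ^ 18 + 2 * x ^ 20 + 2 * x ^ 21 - x ^ 23 - x ^ 24 + x ^ 26 + x ^ 27) (z := -1 + x) (L := 4) (by ring) 8 h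
  replace h := killMid (-1) (-3 * x + 4 * x ^ 2 + 3 * x ^ 4 - 4 * x ^ 5 - 2 * x ^ 7 + 4 * x ^ 8 + 2 * x ^ 10 - 3 * x ^ 11 - x ^ 13 + 3 * x ^ 14 + x ^ 16 - 2 * x ^ 17 + 2 * x ^ 20 - x ^ 23 + x ^ 26) (k := -4 - 3 * x + x ^ 2 + 4 * x ^ 3 + 3 * x ^ 4 - x ^ 5 - 4 * x ^ 6 - 2 * x ^ 7 + 2 * x ^ 8 + 4 * x ^ 9 + 2 * x ^ 10 - x ^ 11 - 3 * x ^ 12 - x ^ 13 + 2 * x ^ 14 + 3 * x ^ 15 + x ^ 16 - x ^ 17 - 2 * x ^ 18 + 2 * x ^ 20 + 2 * x ^ 21 - x ^ 23 - x ^ 24 + x ^ 26 + x ^ 27) (z := 1 + x) (L := 4) (by ring) 8 h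
  replace h := killMid (x) (4 - x ^ 2 - 3 * x ^ 4 + 4 * x ^ 6 - 2 * x ^ 8 - 2 * x ^ 10 + 3 * x ^ 12 - 2 * x ^ 14 - x ^ 16 + 2 * x ^ 18 - 2 * x ^ 20 + x ^ 24 - x ^ 26) (k := -4 - 3 * x + x ^ 2 + 4 * x ^ 3 + 3 * x ^ 4 - x ^ 5 - 4 * x ^ 6 - 2 * x ^ 7 + 2 * x ^ 8 + 4 * x ^ 9 + 2 * x ^ 10 - x ^ 11 - 3 * x ^ 12 - x ^ 13 + 2 * x ^ 14 + 3 * x ^ 15 + x ^ 16 - x ^ 17 - 2 * x ^ 18 + 2 * x ^ 20 + 2 * x ^ 21 - x ^ 23 - x ^ 24 + x ^ 26 + x ^ 27) (z := 1 + x + x ^ 2) (L := 4) (by ring) 4 h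
  replace h := killMid (x) (4 + 4 * x - x ^ 2 - 5 * x ^ 3 - 3 * x ^ 4 + 2 * x ^ 5 + 4 * x ^ 6 + 2 * x ^ 7 - 2 * x ^ 8 - 4 * x ^ 9 - 2 * x ^ 10 + 2 * x ^ 11 + 3 * x ^ 12 + x ^ 13 - 2 * x ^ 14 - 3 * x ^ 15 - x ^ 16 + 2 * x ^ 17 + 2 * x ^ 18 - 2 * x ^ 20 - 2 * x ^ 21 + 2 * x ^ 23 + x ^ 24 - x ^ 25 - x ^ 26) (k := -4 - 3 * x + x ^ 2 + 4 * x ^ 3 + 3 * x ^ 4 - x ^ 5 - 4 * x ^ 6 - 2 * x ^ 7 + 2 * x ^ 8 + 4 * x ^ 9 + 2 * x ^ 10 - x ^ 11 - 3 * x ^ 12 - x ^ 13 + 2 * x ^ 14 + 3 * x ^ 15 + x ^ 16 - x ^ 17 - 2 * x ^ 18 + 2 * x ^ 20 + 2 * x ^ 21 - x ^ 23 - x ^ 24 + x ^ 26 + x ^ 27) (z := 1 + x ^ 2) (L := 4) (by ring) 4 h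
  replace h := killMid (-1 + x - x ^ 2) (2 - x - x ^ 2 + 2 * x ^ 5 - x ^ 6 - x ^ 8 + 2 * x ^ 10 - x ^ 12 - x ^ 14 + 2 * x ^ 15 - x ^ 18 + x ^ 20 - x ^ 24 + x ^ 25) (k := -4 - 3 * x + x ^ 2 + 4 * x ^ 3 + 3 * x ^ 4 - x ^ 5 - 4 * x ^ 6 - 2 * x ^ 7 + 2 * x ^ 8 + 4 * x ^ 9 + 2 * x ^ 10 - x ^ 11 - 3 * x ^ 12 - x ^ 13 + 2 * x ^ 14 + 3 * x ^ 15 + x ^ 16 - x ^ 17 - 2 * x ^ 18 + 2 * x ^ 20 + 2 * x ^ 21 - x ^ 23 - x ^ 24 + x ^ 26 + x ^ 27) (z := 1 + x + x ^ 2 + x ^ 3 + x ^ 4) (L := 6) (by ring) 2 h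
  replace h := killMid (-1) (36 + 33 * x - 2 * x ^ 2 - 31 * x ^ 3 - 26 * x ^ 4 + 4 * x ^ 5 + 26 * x ^ 6 + 20 * x ^ 7 - 4 * x ^ 8 - 20 * x ^ 9 - 14 * x ^ 10 + 5 * x ^ 11 + 16 * x ^ 12 + 10 * x ^ 13 - 4 * x ^ 14 - 11 * x ^ 15 - 6 * x ^ 16 + 4 * x ^ 17 + 8 * x ^ 18 + 4 * x ^ 19 - 2 * x ^ 20 - 4 * x ^ 21 - 2 * x ^ 22 + x ^ 23 + 2 * x ^ 24 + x ^ 25) (k := -4 - 3 * x + x ^ 2 + 4 * x ^ 3 + 3 * x ^ 4 - x ^ 5 - 4 * x ^ 6 - 2 * x ^ 7 + 2 * x ^ 8 + 4 * x ^ 9 + 2 * x ^ 10 - x ^ 11 - 3 * x ^ 12 - x ^ 13 + 2 * x ^ 14 + 3 * x ^ 15 + x ^ 16 - x ^ 17 - 2 * x ^ 18 + 2 * x ^ 20 + 2 * x ^ 21 - x ^ 23 - x ^ 24 + x ^ 26 + x ^ 27) (z := 1 - x + x ^ 2) (L := 40) (by ring) 4 h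
  replace h := killMid (-1362 + 1028 * x - 1105 * x ^ 2 - 273 * x ^ 3 - 65 * x ^ 4 - 13 * x ^ 5) (13 + 13 * x - 13 * x ^ 3 - 13 * x ^ 4 + 13 * x ^ 6 + 1375 * x ^ 7 - 1028 * x ^ 8 - 270 * x ^ 9 - 74 * x ^ 10 + 1350 * x ^ 11 - 1018 * x ^ 12 + 1114 * x ^ 13 + 272 * x ^ 14 - 1307 * x ^ 15 - 330 * x ^ 16 + 1286 * x ^ 17 + 328 * x ^ 18 + 82 * x ^ 19 + 14 * x ^ 20 - 3 * x ^ 21 - 1366 * x ^ 22 + 1027 * x ^ 23 + 260 * x ^ 24 + 65 * x ^ 25 + 13 * x ^ 26) (k := -4 - 3 * x + x ^ 2 + 4 * x ^ 3 + 3 * x ^ 4 - x ^ 5 - 4 * x ^ 6 - 2 * x ^ 7 + 2 * x ^ 8 + 4 * x ^ 9 + 2 * x ^ 10 - x ^ 11 - 3 * x ^ 12 - x ^ 13 + 2 * x ^ 14 + 3 * x ^ 15 + x ^ 16 - x ^ 17 - 2 * x ^ 18 + 2 * x ^ 20 + 2 * x ^ 21 - x ^ 23 - x ^ 24 + x ^ 26 + x ^ 27) (z := 1 + x + x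 ^ 2 + x ^ 3 + x ^ 4 + x ^ 5 + x ^ 6) (L := 5461) (by ring) 1 h
  replace h := killMid (-1 + x - x ^ 2) (x - x ^ 5 + x ^ 7 + x ^ 9 + x ^ 17 + x ^ 19 - x ^ 21 + x ^ 25) (k := -4 - 3 * x + x ^ 2 + 4 * x ^ 3 + 3 * x ^ 4 - x ^ 5 - 4 * x ^ 6 - 2 * x ^ 7 + 2 * x ^ 8 + 4 * x ^ 9 + 2 * x ^ 10 - x ^ 11 - 3 * x ^ 12 - x ^ 13 + 2 * x ^ 14 + 3 * x ^ 15 + x ^ 16 - x ^ 17 - 2 * x ^ 18 + 2 * x ^ 20 + 2 * x ^ 21 - x ^ 23 - x ^ 24 + x ^ 26 + x ^ 27) (z := 1 + x ^ 4) (L := 4) (by ring) 2 h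
  replace h := killMid (-1191 + 1008 * x - 1333 * x ^ 2 + 15 * x ^ 3 - 311 * x ^ 4 - 74 * x ^ 5) (385 + 459 * x - 1117 * x ^ 2 - 568 * x ^ 3 - 784 * x ^ 4 + 990 * x ^ 5 + 455 * x ^ 6 + 1915 * x ^ 7 + 437 * x ^ 8 + 166 * x ^ 9 - 1403 * x ^ 10 - 250 * x ^ 11 - 106 * x ^ 12 + 1350 * x ^ 13 + 137 * x ^ 14 + 46 * x ^ 15 - 106 * x ^ 16 + 1350 * x ^ 17 + 522 * x ^ 18 + 505 * x ^ 19 - 1223 * x ^ 20 - 409 * x ^ 21 - 445 * x ^ 22 + 1170 * x ^ 23 + 296 * x ^ 24 + 385 * x ^ 25 + 74 * x ^ 26) (k := -4 - 3 * x + x ^ 2 + 4 * x ^ 3 + 3 * x ^ 4 - x ^ 5 - 4 * x ^ 6 - 2 * x ^ 7 + 2 * x ^ 8 + 4 * x ^ 9 + 2 * x ^ 10 - x ^ 11 - 3 * x ^ 12 - x ^ 13 + 2 * x ^ 14 + 3 * x ^ 15 + x ^ 16 - x ^ 17 - 2 * x ^ 18 + 2 * x ^ 20 + 2 * x ^ 21 - x ^ 23 - x ^ 24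 + x ^ 26 + x ^ 27) (z := 1 + x ^ 3 + x ^ 6) (L := 5149) (by ring) 1 h
  replace h := killMid (-1 + x - x ^ 2) (-2 - x + x ^ 2 + 2 * x ^ 5 + x ^ 6 + x ^ 8 - 2 * x ^ 10 + x ^ 12 + x ^ 14 + 2 * x ^ 15 + x ^ 18 - x ^ 20 + x ^ 24 + x ^ 25) (k := -4 - 3 * x + x ^ 2 + 4 * x ^ 3 + 3 * x ^ 4 - x ^ 5 - 4 * x ^ 6 - 2 * x ^ 7 + 2 * x ^ 8 + 4 * x ^ 9 + 2 * x ^ 10 - x ^ 11 - 3 * x ^ 12 - x ^ 13 + 2 * x ^ 14 + 3 * x ^ 15 + x ^ 16 - x ^ 17 - 2 * x ^ 18 + 2 * x ^ 20 + 2 * x ^ 21 - x ^ 23 - x ^ 24 + x ^ 26 + x ^ 27) (z := 1 - x + x ^ 2 - x ^ 3 + x ^ 4) (L := 2) (by ring) 2 h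
  replace h := killMid (-1 + x - x ^ 2) (x + x ^ 3 + x ^ 11 + 2 * x ^ 13 + x ^ 15 + x ^ 23 + x ^ 25) (k := -4 - 3 * x + x ^ 2 + 4 * x ^ 3 + 3 * x ^ 4 - x ^ 5 - 4 * x ^ 6 - 2 * x ^ 7 + 2 * x ^ 8 + 4 * x ^ 9 + 2 * x ^ 10 - x ^ 11 - 3 * x ^ 12 - x ^ 13 + 2 * x ^ 14 + 3 * x ^ 15 + x ^ 16 - x ^ 17 - 2 * x ^ 18 + 2 * x ^ 20 + 2 * x ^ 21 - x ^ 23 - x ^ 24 + x ^ 26 + x ^ 27) (z := 1 - x ^ 2 + x ^ 4) (L := 4) (by ring) 2 h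
  replace h := killMid (-816 + 612 * x - 663 * x ^ 2 - 169 * x ^ 3 - 39 * x ^ 4 - 13 * x ^ 5) (13 + 13 * x - 13 * x ^ 3 - 13 * x ^ 4 + 13 * x ^ 6 + 829 * x ^ 7 + 1020 * x ^ 8 + 242 * x ^ 9 + 54 * x ^ 10 + 836 * x ^ 11 + 1038 * x ^ 12 + 1082 * x ^ 13 + 264 * x ^ 14 - 763 * x ^ 15 - 194 * x ^ 16 + 774 * x ^ 17 + 200 * x ^ 18 + 50 * x ^ 19 + 6 * x ^ 20 - 5 * x ^ 21 + 818 * x ^ 22 + 1027 * x ^ 23 + 260 * x ^ 24 + 65 * x ^ 25 + 13 * x ^ 26) (k := -4 - 3 * x + x ^ 2 + 4 * x ^ 3 + 3 * x ^ 4 - x ^ 5 - 4 * x ^ 6 - 2 * x ^ 7 + 2 * x ^ 8 + 4 * x ^ 9 + 2 * x ^ 10 - x ^ 11 - 3 * x ^ 12 - x ^ 13 + 2 * x ^ 14 + 3 * x ^ 15 + x ^ 16 - x ^ 17 - 2 * x ^ 18 + 2 * x ^ 20 + 2 * x ^ 21 - x ^ 23 - x ^ 24 + x ^ 26 + x ^ 27) (z := 1 - x + x ^ 2 - x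 ^ 3 + x ^ 4 - x ^ 5 + x ^ 6) (L := 3277) (by ring) 1 h
  replace h := killMid (-1 + x - x ^ 2) (-1 + x ^ 3 + x ^ 5 + x ^ 7 + x ^ 9 + x ^ 11 + x ^ 13 - x ^ 16 + x ^ 19 + x ^ 20 + x ^ 21) (k := -4 - 3 * x + x ^ 2 + 4 * x ^ 3 + 3 * x ^ 4 - x ^ 5 - 4 * x ^ 6 - 2 * x ^ 7 + 2 * x ^ 8 + 4 * x ^ 9 + 2 * x ^ 10 - x ^ 11 - 3 * x ^ 12 - x ^ 13 + 2 * x ^ 14 + 3 * x ^ 15 + x ^ 16 - x ^ 17 - 2 * x ^ 18 + 2 * x ^ 20 + 2 * x ^ 21 - x ^ 23 - x ^ 24 + x ^ 26 + x ^ 27) (z := 1 - x + x ^ 3 - x ^ 4 + x ^ 5 - x ^ 7 + x ^ 8) (L := 3) (by ring) 1 h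
  replace h := killMid (-137 + 104 * x - 75 * x ^ 2 - 43 * x ^ 3 + 5 * x ^ 4 + 12 * x ^ 5) (-7 + 5 * x + 149 * x ^ 2 + 40 * x ^ 3 - 34 * x ^ 4 + 106 * x ^ 5 + 31 * x ^ 6 + 125 * x ^ 7 + 33 * x ^ 8 - 22 * x ^ 9 + 113 * x ^ 10 + 26 * x ^ 11 - 24 * x ^ 12 + 130 * x ^ 13 + 45 * x ^ 14 - 22 * x ^ 15 - 24 * x ^ 16 + 130 * x ^ 17 + 38 * x ^ 18 - 17 * x ^ 19 + 125 * x ^ 20 + 33 * x ^ 21 - 29 * x ^ 22 + 118 * x ^ 23 + 38 * x ^ 24 - 17 * x ^ 25 - 12 * x ^ 26) (k := -4 - 3 * x + x ^ 2 + 4 * x ^ 3 + 3 * x ^ 4 - x ^ 5 - 4 * x ^ 6 - 2 * x ^ 7 + 2 * x ^ 8 + 4 * x ^ 9 + 2 * x ^ 10 - x ^ 11 - 3 * x ^ 12 - x ^ 13 + 2 * x ^ 14 + 3 * x ^ 15 + x ^ 16 - x ^ 17 - 2 * x ^ 18 + 2 * x ^ 20 + 2 * x ^ 21 - x ^ 23 - x ^ 24 + x ^ 26 + x ^ 27) (z := 1 -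 x ^ 3 + x ^ 6) (L := 541) (by ring) 1 h
  replace h := killMid (-1 + x - x ^ 2) (x + x ^ 3 + x ^ 7 + x ^ 9 + x ^ 13 + x ^ 15 + x ^ 19 + x ^ 21) (k := -4 - 3 * x + x ^ 2 + 4 * x ^ 3 + 3 * x ^ 4 - x ^ 5 - 4 * x ^ 6 - 2 * x ^ 7 + 2 * x ^ 8 + 4 * x ^ 9 + 2 * x ^ 10 - x ^ 11 - 3 * x ^ 12 - x ^ 13 + 2 * x ^ 14 + 3 * x ^ 15 + x ^ 16 - x ^ 17 - 2 * x ^ 18 + 2 * x ^ 20 + 2 * x ^ 21 - x ^ 23 - x ^ 24 + x ^ 26 + x ^ 27) (z := 1 - x ^ 2 + x ^ 4 - x ^ 6 + x ^ 8) (L := 4) (by ring) 1 h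
  replace h := killMid (-1 + x - x ^ 2) (x + x ^ 5 + x ^ 7 + 2 * x ^ 11 + x ^ 15 + x ^ 17 + x ^ 21) (k := -4 - 3 * x + x ^ 2 + 4 * x ^ 3 + 3 * x ^ 4 - x ^ 5 - 4 * x ^ 6 - 2 * x ^ 7 + 2 * x ^ 8 + 4 * x ^ 9 + 2 * x ^ 10 - x ^ 11 - 3 * x ^ 12 - x ^ 13 + 2 * x ^ 14 + 3 * x ^ 15 + x ^ 16 - x ^ 17 - 2 * x ^ 18 + 2 * x ^ 20 + 2 * x ^ 21 - x ^ 23 - x ^ 24 + x ^ 26 + x ^ 27) (z := 1 - x ^ 4 + x ^ 8) (L := 4) (by ring) 1 h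
  replace h := killMid (-1 + x - x ^ 2) (1 + x ^ 3 + x ^ 5 + x ^ 7 + x ^ 9 + x ^ 11 + x ^ 13 + x ^ 16 + x ^ 19 - x ^ 20 + x ^ 21) (k := -4 - 3 * x + x ^ 2 + 4 * x ^ 3 + 3 * x ^ 4 - x ^ 5 - 4 * x ^ 6 - 2 * x ^ 7 + 2 * x ^ 8 + 4 * x ^ 9 + 2 * x ^ 10 - x ^ 11 - 3 * x ^ 12 - x ^ 13 + 2 * x ^ 14 + 3 * x ^ 15 + x ^ 16 - x ^ 17 - 2 * x ^ 18 + 2 * x ^ 20 + 2 * x ^ 21 - x ^ 23 - x ^ 24 + x ^ 26 + x ^ 27) (z := 1 + x - x ^ 3 - x ^ 4 - x ^ 5 + x ^ 7 + x ^ 8) (L := 5) (by ring) 1 h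
  replace h : (-4 - 3 * x + x ^ 2 + 4 * x ^ 3 + 3 * x ^ 4 - x ^ 5 - 4 * x ^ 6 - 2 * x ^ 7 + 2 * x ^ 8 + 4 * x ^ 9 + 2 * x ^ 10 - x ^ 11 - 3 * x ^ 12 - x ^ 13 + 2 * x ^ 14 + 3 * x ^ 15 + x ^ 16 - x ^ 17 - 2 * x ^ 18 + 2 * x ^ 20 + 2 * x ^ 21 - x ^ 23 - x ^ 24 + x ^ 26 + x ^ 27) ∣ 1271224406770736867601768138652463923200000 := h.trans (dvd_of_eq (by norm_num))
  have hle := Int.le_of_dvd (by norm_num) h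
  have st : ∀ i : ℕ, 256 * x ^ i ≤ x ^ (i + 1) := fun i => by
    rw [pow_succ' x i]; exact mul_le_mul_of_nonneg_right hx (by positivity)
  have s1 := st 1
  norm_num at s1
  have p2 : 0 ≤ x ^ 2 := by positivity
  have hf0 : (0 : ℤ) ≤ 1 - x + x ^ 2 := by linarith
  have hf1 : (1 - x + x ^ 2 : ℤ) ≤ 2 * x ^ 2 := by linarith
  have e : (-4 - 3 * x + x ^ 2 + 4 * x ^ 3 + 3 * x ^ 4 - x ^ 5 - 4 * x ^ 6 - 2 * x ^ 7 + 2 * x ^ 8 + 4 * x ^ 9 + 2 * x ^ 10 - x ^ 11 - 3 * x ^ 12 - x ^ 13 + 2 * x ^ 14 + 3 * x ^ 15 + x ^ 16 - x ^ 17 - 2 * x ^ 18 + 2 * x ^ 20 + 2 * x ^ 21 - x ^ 23 - x ^ 24 + x ^ 26 + x ^ 27) * (1 - x + x ^ 2) = -4 + x + x ^ 7 + x ^ 11 + x ^ 13 + x ^ 17 + x ^ 19 + x ^ 23 + x ^ 29 := by ring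
  have h1 := mul_le_mul_of_nonneg_right hle hf0
  have h2 := mul_le_mul_of_nonneg_left hf1 (show (0 : ℤ) ≤ 1271224406770736867601768138652463923200000 by norm_num)
  have h3 : (256 : ℤ) ^ 27 * x ^ 2 ≤ x ^ 29 := by
    rw [show x ^ 29 = x ^ 27 * x ^ 2 by rw [← pow_add]]
    exact mul_le_mul_of_nonneg_right (pow_le_pow_left₀ (by norm_num) hx _) (by positivity)
  have h4 : 1 ≤ x ^ 2 := one_le_pow₀ (by linarith)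
  have q7 : 0 ≤ x ^ 7 := by positivity
  have q11 : 0 ≤ x ^ 11 := by positivity
  have q13 : 0 ≤ x ^ 13 := by positivity
  have q17 : 0 ≤ x ^ 17 := by positivity
  have q19 : 0 ≤ x ^ 19 := by positivity
  have q23 : 0 ≤ x ^ 23 := by positivity
  norm_num at h3
  linarith

theorem bound_5 (x : ℤ) (hx : 256 ≤ x)
    (h : (-5 + x + x ^ 7 + x ^ 11 + x ^ 13 + x ^ 17 + x ^ 19 + x ^ 23 + x ^ 29) ∣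
      5 * ((-1 + x) ^ 8 * ((1 + x) ^ 8 * ((1 + x + x ^ 2) ^ 4 * ((1 + x ^ 2) ^ 4 * ((1 + x + x ^ 2 + x ^ 3 + x ^ 4) ^ 2 * ((1 - x + x ^ 2) ^ 4 * ((1 + x + x ^ 2 + x ^ 3 + x ^ 4 + x ^ 5 + x ^ 6) ^ 1 * ((1 + x ^ 4) ^ 2 * ((1 + x ^ 3 + x ^ 6) ^ 1 * ((1 - x + x ^ 2 - x ^ 3 + x ^ 4) ^ 2 * ((1 - x ^ 2 + x ^ 4) ^ 2 * ((1 - x + x ^ 2 - x ^ 3 + x ^ 4 - x ^ 5 + x ^ 6) ^ 1 * ((1 - x + x ^ 3 - x ^ 4 + x ^ 5 - x ^ 7 + x ^ 8) ^ 1 * ((1 - x ^ 3 + x ^ 6) ^ 1 * ((1 - x ^ 2 + x ^ 4 - x ^ 6 + x ^ 8) ^ 1 * ((1 - x ^ 4 + x ^ 8) ^ 1 * ((1 + x - x ^ 3 - x ^ 4 - x ^ 5 + x ^ 7 + x ^ 8) ^ 1 * (1))))))))))))))))))) : False := by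
  replace h := killMid (1) (-8 - 7 * x - 7 * x ^ 2 - 7 * x ^ 3 - 7 * x ^ 4 - 7 * x ^ 5 - 7 * x ^ 6 - 6 * x ^ 7 - 6 * x ^ 8 - 6 * x ^ 9 - 6 * x ^ 10 - 5 * x ^ 11 - 5 * x ^ 12 - 4 * x ^ 13 - 4 * x ^ 14 - 4 * x ^ 15 - 4 * x ^ 16 - 3 * x ^ 17 - 3 * x ^ 18 - 2 * x ^ 19 - 2 * x ^ 20 - 2 * x ^ 21 - 2 * x ^ 22 - x ^ 23 - x ^ 24 - x ^ 25 - x ^ 26 - x ^ 27 - x ^ 28) (k := -5 + x + x ^ 7 + x ^ 11 + x ^ 13 + x ^ 17 + x ^ 19 + x ^ 23 + x ^ 29) (z := -1 + x) (L := 3) (by ring) 8 h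
  replace h := killMid (-1) (8 - 7 * x + 7 * x ^ 2 - 7 * x ^ 3 + 7 * x ^ 4 - 7 * x ^ 5 + 7 * x ^ 6 - 6 * x ^ 7 + 6 * x ^ 8 - 6 * x ^ 9 + 6 * x ^ 10 - 5 * x ^ 11 + 5 * x ^ 12 - 4 * x ^ 13 + 4 * x ^ 14 - 4 * x ^ 15 + 4 * x ^ 16 - 3 * x ^ 17 + 3 * x ^ 18 - 2 * x ^ 19 + 2 * x ^ 20 - 2 * x ^ 21 + 2 * x ^ 22 - x ^ 23 + x ^ 24 - x ^ 25 + x ^ 26 - x ^ 27 + x ^ 28) (k := -5 + x + x ^ 7 + x ^ 11 + x ^ 13 + x ^ 17 + x ^ 19 + x ^ 23 + x ^ 29) (z := 1 + x) (L := 13) (by ring) 8 h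
  replace h := killMid (-1) (4 - 3 * x - x ^ 2 + 4 * x ^ 3 - 3 * x ^ 4 - x ^ 5 + 4 * x ^ 6 - 2 * x ^ 7 - 2 * x ^ 8 + 4 * x ^ 9 - 2 * x ^ 10 - x ^ 11 + 3 * x ^ 12 - x ^ 13 - 2 * x ^ 14 + 3 * x ^ 15 - x ^ 16 - x ^ 17 + 2 * x ^ 18 - 2 * x ^ 20 + 2 * x ^ 21 - x ^ 23 + x ^ 24 - x ^ 26 + x ^ 27) (k := -5 + x + x ^ 7 + x ^ 11 + x ^ 13 + x ^ 17 + x ^ 19 + x ^ 23 + x ^ 29) (z := 1 + x + x ^ 2) (L := 9) (by ring) 4 h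
  replace h := killMid (-1) (x - x ^ 3 + x ^ 5 + x ^ 11 + x ^ 17 + x ^ 23 - x ^ 25 + x ^ 27) (k := -5 + x + x ^ 7 + x ^ 11 + x ^ 13 + x ^ 17 + x ^ 19 + x ^ 23 + x ^ 29) (z := 1 + x ^ 2) (L := 5) (by ring) 4 h
  replace h := killMid (-1) (2 - x - x ^ 2 + 2 * x ^ 5 - x ^ 6 - x ^ 8 + 2 * x ^ 10 - x ^ 12 - x ^ 14 + 2 * x ^ 15 - x ^ 18 + x ^ 20 - x ^ 24 + x ^ 25) (k := -5 + x + x ^ 7 + x ^ 11 + x ^ 13 + x ^ 17 + x ^ 19 + x ^ 23 + x ^ 29) (z := 1 + x + x ^ 2 + x ^ 3 + x ^ 4) (L := 7) (by ring) 2 h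
  replace h := killMid (-1) (-4 - 3 * x + x ^ 2 + 4 * x ^ 3 + 3 * x ^ 4 - x ^ 5 - 4 * x ^ 6 - 2 * x ^ 7 + 2 * x ^ 8 + 4 * x ^ 9 + 2 * x ^ 10 - x ^ 11 - 3 * x ^ 12 - x ^ 13 + 2 * x ^ 14 + 3 * x ^ 15 + x ^ 16 - x ^ 17 - 2 * x ^ 18 + 2 * x ^ 20 + 2 * x ^ 21 - x ^ 23 - x ^ 24 + x ^ 26 + x ^ 27) (k := -5 + x + x ^ 7 + x ^ 11 + x ^ 13 + x ^ 17 + x ^ 19 + x ^ 23 + x ^ 29) (z := 1 - x + x ^ 2) (L := 1) (by ring) 4 h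
  replace h := killMid (-3906 - 781 * x - 156 * x ^ 2 - 31 * x ^ 3 - 6 * x ^ 4 - x ^ 5) (1 + 3906 * x ^ 7 - 3125 * x ^ 8 - 625 * x ^ 9 - 125 * x ^ 10 + 3881 * x ^ 11 - 3130 * x ^ 12 + 3280 * x ^ 13 + 656 * x ^ 14 - 3775 * x ^ 15 - 755 * x ^ 16 + 3755 * x ^ 17 + 751 * x ^ 18 + 150 * x ^ 19 + 30 * x ^ 20 + 6 * x ^ 21 - 3905 * x ^ 22 + 3125 * x ^ 23 + 625 * x ^ 24 + 125 * x ^ 25 + 25 * x ^ 26 + 5 * x ^ 27 + x ^ 28) (k := -5 + x + x ^ 7 + x ^ 11 + x ^ 13 + x ^ 17 + x ^ 19 + x ^ 23 + x ^ 29) (z := 1 + x + x ^ 2 + x ^ 3 + x ^ 4 + x ^ 5 + x ^ 6) (L := 19531) (by ring) 1 h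
  replace h := killMid (-1) (x - x ^ 5 + x ^ 7 + x ^ 9 + x ^ 17 + x ^ 19 - x ^ 21 + x ^ 25) (k := -5 + x + x ^ 7 + x ^ 11 + x ^ 13 + x ^ 17 + x ^ 19 + x ^ 23 + x ^ 29) (z := 1 + x ^ 4) (L := 5) (by ring) 2 h
  replace h := killMid (-1180 - 230 * x - 282 * x ^ 2 - 83 * x ^ 3 - 67 * x ^ 4 - 30 * x ^ 5) (97 + 30 * x - 1180 * x ^ 2 - 230 * x ^ 3 - 282 * x ^ 4 + 1097 * x ^ 5 + 163 * x ^ 6 + 1432 * x ^ 7 + 313 * x ^ 8 + 349 * x ^ 9 - 1067 * x ^ 10 - 163 * x ^ 11 - 252 * x ^ 12 + 1097 * x ^ 13 + 163 * x ^ 14 + 252 * x ^ 15 + 83 * x ^ 16 + 1247 * x ^ 17 + 260 * x ^ 18 + 282 * x ^ 19 - 1097 * x ^ 20 - 163 * x ^ 21 - 252 * x ^ 22 + 1097 * x ^ 23 + 163 * x ^ 24 + 252 * x ^ 25 + 83 * x ^ 26 + 67 * x ^ 27 + 30 * x ^ 28) (k := -5 + x + x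 ^ 7 + x ^ 11 + x ^ 13 + x ^ 17 + x ^ 19 + x ^ 23 + x ^ 29) (z := 1 + x ^ 3 + x ^ 6) (L := 5997) (by ring) 1 h
  replace h := killMid (-1) (-2 - x + x ^ 2 + 2 * x ^ 5 + x ^ 6 + x ^ 8 - 2 * x ^ 10 + x ^ 12 + x ^ 14 + 2 * x ^ 15 + x ^ 18 - x ^ 20 + x ^ 24 + x ^ 25) (k := -5 + x + x ^ 7 + x ^ 11 + x ^ 13 + x ^ 17 + x ^ 19 + x ^ 23 + x ^ 29) (z := 1 - x + x ^ 2 - x ^ 3 + x ^ 4) (L := 3) (by ring) 2 h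
  replace h := killMid (-1) (x + x ^ 3 + x ^ 11 + 2 * x ^ 13 + x ^ 15 + x ^ 23 + x ^ 25) (k := -5 + x + x ^ 7 + x ^ 11 + x ^ 13 + x ^ 17 + x ^ 19 + x ^ 23 + x ^ 29) (z := 1 - x ^ 2 + x ^ 4) (L := 5) (by ring) 2 h
  replace h := killMid (-2604 - 521 * x - 104 * x ^ 2 - 21 * x ^ 3 - 4 * x ^ 4 - x ^ 5) (1 + 2604 * x ^ 7 + 3125 * x ^ 8 + 625 * x ^ 9 + 125 * x ^ 10 + 2629 * x ^ 11 + 3130 * x ^ 12 + 3230 * x ^ 13 + 646 * x ^ 14 - 2475 * x ^ 15 - 495 * x ^ 16 + 2505 * x ^ 17 + 501 * x ^ 18 + 100 * x ^ 19 + 20 * x ^ 20 + 4 * x ^ 21 + 2605 * x ^ 22 + 3125 * x ^ 23 + 625 * x ^ 24 + 125 * x ^ 25 + 25 * x ^ 26 + 5 * x ^ 27 + x ^ 28) (k := -5 + x + x ^ 7 + x ^ 11 + x ^ 13 + x ^ 17 + x ^ 19 + x ^ 23 + x ^ 29) (z := 1 - x + x ^ 2 - x ^ 3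 + x ^ 4 - x ^ 5 + x ^ 6) (L := 13021) (by ring) 1 h
  replace h := killMid (-1) (-1 + x ^ 3 + x ^ 5 + x ^ 7 + x ^ 9 + x ^ 11 + x ^ 13 - x ^ 16 + x ^ 19 + x ^ 20 + x ^ 21) (k := -5 + x + x ^ 7 + x ^ 11 + x ^ 13 + x ^ 17 + x ^ 19 + x ^ 23 + x ^ 29) (z := 1 - x + x ^ 3 - x ^ 4 + x ^ 5 - x ^ 7 + x ^ 8) (L := 4) (by ring) 1 h
  replace h := killMid (-3490 - 710 * x + 556 * x ^ 2 + 251 * x ^ 3 - 49 * x ^ 4 - 60 * x ^ 5) (11 - 60 * x + 3490 * x ^ 2 + 710 * x ^ 3 - 556 * x ^ 4 + 3239 * x ^ 5 + 759 * x ^ 6 + 2994 * x ^ 7 + 459 * x ^ 8 - 507 * x ^ 9 + 3299 * x ^ 10 + 759 * x ^ 11 - 496 * x ^ 12 + 3239 * x ^ 13 + 759 * x ^ 14 - 496 * x ^ 15 - 251 * x ^ 16 + 3539 * x ^ 17 + 770 * x ^ 18 - 556 * x ^ 19 + 3239 * x ^ 20 + 759 * x ^ 21 - 496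 * x ^ 22 + 3239 * x ^ 23 + 759 * x ^ 24 - 496 * x ^ 25 - 251 * x ^ 26 + 49 * x ^ 27 + 60 * x ^ 28) (k := -5 + x + x ^ 7 + x ^ 11 + x ^ 13 + x ^ 17 + x ^ 19 + x ^ 23 + x ^ 29) (z := 1 - x ^ 3 + x ^ 6) (L := 17461) (by ring) 1 h
  replace h := killMid (-1) (x + x ^ 3 + x ^ 7 + x ^ 9 + x ^ 13 + x ^ 15 + x ^ 19 + x ^ 21) (k := -5 + x + x ^ 7 + x ^ 11 + x ^ 13 + x ^ 17 + x ^ 19 + x ^ 23 + x ^ 29) (z := 1 - x ^ 2 + x ^ 4 - x ^ 6 + x ^ 8) (L := 5) (by ring) 1 h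
  replace h := killMid (-1) (x + x ^ 5 + x ^ 7 + 2 * x ^ 11 + x ^ 15 + x ^ 17 + x ^ 21) (k := -5 + x + x ^ 7 + x ^ 11 + x ^ 13 + x ^ 17 + x ^ 19 + x ^ 23 + x ^ 29) (z := 1 - x ^ 4 + x ^ 8) (L := 5) (by ring) 1 h
  replace h := killMid (-1) (1 + x ^ 3 + x ^ 5 + x ^ 7 + x ^ 9 + x ^ 11 + x ^ 13 + x ^ 16 + x ^ 19 - x ^ 20 + x ^ 21) (k := -5 + x + x ^ 7 + x ^ 11 + x ^ 13 + x ^ 17 + x ^ 19 + x ^ 23 + x ^ 29) (z := 1 + x - x ^ 3 - x ^ 4 - x ^ 5 + x ^ 7 + x ^ 8) (L := 6) (by ring) 1 h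
  replace h : (-5 + x + x ^ 7 + x ^ 11 + x ^ 13 + x ^ 17 + x ^ 19 + x ^ 23 + x ^ 29) ∣ 483257667000796160790406114665561476953125000 := h.trans (dvd_of_eq (by norm_num))
  have hle := Int.le_of_dvd (by norm_num) h
  have st : ∀ i : ℕ, 256 * x ^ i ≤ x ^ (i + 1) := fun i => by
    rw [pow_succ' x i]; exact mul_le_mul_of_nonneg_right hx (by positivity)
  have hf0 : (0 : ℤ) ≤ 1 := by linarith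
  have hf1 : (1 : ℤ) ≤ 2 * x ^ 0 := by linarith
  have e : (-5 + x + x ^ 7 + x ^ 11 + x ^ 13 + x ^ 17 + x ^ 19 + x ^ 23 + x ^ 29) * (1) = -5 + x + x ^ 7 + x ^ 11 + x ^ 13 + x ^ 17 + x ^ 19 + x ^ 23 + x ^ 29 := by ring
  have h1 := mul_le_mul_of_nonneg_right hle hf0
  have h2 := mul_le_mul_of_nonneg_left hf1 (show (0 : ℤ) ≤ 483257667000796160790406114665561476953125000 by norm_num)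
  have h3 : (256 : ℤ) ^ 29 * x ^ 0 ≤ x ^ 29 := by
    rw [show x ^ 29 = x ^ 29 * x ^ 0 by rw [← pow_add]]
    exact mul_le_mul_of_nonneg_right (pow_le_pow_left₀ (by norm_num) hx _) (by positivity)
  have h4 : 1 ≤ x ^ 0 := one_le_pow₀ (by linarith)
  have q7 : 0 ≤ x ^ 7 := by positivity
  have q11 : 0 ≤ x ^ 11 := by positivity
  have q13 : 0 ≤ x ^ 13 := by positivity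
  have q17 : 0 ≤ x ^ 17 := by positivity
  have q19 : 0 ≤ x ^ 19 := by positivity
  have q23 : 0 ≤ x ^ 23 := by positivity
  norm_num at h3
  linarith

theorem bound_6 (x : ℤ) (hx : 256 ≤ x)
    (h : (-6 + x + x ^ 7 + x ^ 11 + x ^ 13 + x ^ 17 + x ^ 19 + x ^ 23 + x ^ 29) ∣
      6 * ((-1 + x) ^ 8 * ((1 + x) ^ 8 * ((1 + x + x ^ 2) ^ 4 * ((1 + x ^ 2) ^ 4 * ((1 + x + x ^ 2 + x ^ 3 + x ^ 4) ^ 2 * ((1 - x + x ^ 2) ^ 4 * ((1 + x + x ^ 2 + x ^ 3 + x ^ 4 + x ^ 5 + x ^ 6) ^ 1 * ((1 + x ^ 4) ^ 2 * ((1 + x ^ 3 + x ^ 6) ^ 1 * ((1 - x + x ^ 2 - x ^ 3 + x ^ 4) ^ 2 * ((1 - x ^ 2 + x ^ 4) ^ 2 * ((1 - x + x ^ 2 - x ^ 3 + x ^ 4 - x ^ 5 + x ^ 6) ^ 1 * ((1 - x + x ^ 3 - x ^ 4 + x ^ 5 - x ^ 7 + x ^ 8) ^ 1 * ((1 - x ^ 3 + x ^ 6) ^ 1 * ((1 - x ^ 2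 + x ^ 4 - x ^ 6 + x ^ 8) ^ 1 * ((1 - x ^ 4 + x ^ 8) ^ 1 * ((1 + x - x ^ 3 - x ^ 4 - x ^ 5 + x ^ 7 + x ^ 8) ^ 1 * (1))))))))))))))))))) : False := by
  replace h := killMid (1) (-8 - 7 * x - 7 * x ^ 2 - 7 * x ^ 3 - 7 * x ^ 4 - 7 * x ^ 5 - 7 * x ^ 6 - 6 * x ^ 7 - 6 * x ^ 8 - 6 * x ^ 9 - 6 * x ^ 10 - 5 * x ^ 11 - 5 * x ^ 12 - 4 * x ^ 13 - 4 * x ^ 14 - 4 * x ^ 15 - 4 * x ^ 16 - 3 * x ^ 17 - 3 * x ^ 18 - 2 * x ^ 19 - 2 * x ^ 20 - 2 * x ^ 21 - 2 * x ^ 22 - x ^ 23 - x ^ 24 - x ^ 25 - x ^ 26 - x ^ 27 - x ^ 28) (k := -6 + x + x ^ 7 + x ^ 11 + x ^ 13 + x ^ 17 + x ^ 19 + x ^ 23 + x ^ 29) (z := -1 + x) (L := 2) (by ring) 8 h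
  replace h := killMid (-1) (8 - 7 * x + 7 * x ^ 2 - 7 * x ^ 3 + 7 * x ^ 4 - 7 * x ^ 5 + 7 * x ^ 6 - 6 * x ^ 7 + 6 * x ^ 8 - 6 * x ^ 9 + 6 * x ^ 10 - 5 * x ^ 11 + 5 * x ^ 12 - 4 * x ^ 13 + 4 * x ^ 14 - 4 * x ^ 15 + 4 * x ^ 16 - 3 * x ^ 17 + 3 * x ^ 18 - 2 * x ^ 19 + 2 * x ^ 20 - 2 * x ^ 21 + 2 * x ^ 22 - x ^ 23 + x ^ 24 - x ^ 25 + x ^ 26 - x ^ 27 + x ^ 28) (k := -6 + x + x ^ 7 + x ^ 11 + x ^ 13 + x ^ 17 + x ^ 19 + x ^ 23 + x ^ 29) (z := 1 + x) (L := 14) (by ring) 8 h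
  replace h := killMid (-1) (4 - 3 * x - x ^ 2 + 4 * x ^ 3 - 3 * x ^ 4 - x ^ 5 + 4 * x ^ 6 - 2 * x ^ 7 - 2 * x ^ 8 + 4 * x ^ 9 - 2 * x ^ 10 - x ^ 11 + 3 * x ^ 12 - x ^ 13 - 2 * x ^ 14 + 3 * x ^ 15 - x ^ 16 - x ^ 17 + 2 * x ^ 18 - 2 * x ^ 20 + 2 * x ^ 21 - x ^ 23 + x ^ 24 - x ^ 26 + x ^ 27) (k := -6 + x + x ^ 7 + x ^ 11 + x ^ 13 + x ^ 17 + x ^ 19 + x ^ 23 + x ^ 29) (z := 1 + x + x ^ 2) (L := 10) (by ring) 4 h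
  replace h := killMid (-1) (x - x ^ 3 + x ^ 5 + x ^ 11 + x ^ 17 + x ^ 23 - x ^ 25 + x ^ 27) (k := -6 + x + x ^ 7 + x ^ 11 + x ^ 13 + x ^ 17 + x ^ 19 + x ^ 23 + x ^ 29) (z := 1 + x ^ 2) (L := 6) (by ring) 4 h
  replace h := killMid (-1) (2 - x - x ^ 2 + 2 * x ^ 5 - x ^ 6 - x ^ 8 + 2 * x ^ 10 - x ^ 12 - x ^ 14 + 2 * x ^ 15 - x ^ 18 + x ^ 20 - x ^ 24 + x ^ 25) (k := -6 + x + x ^ 7 + x ^ 11 + x ^ 13 + x ^ 17 + x ^ 19 + x ^ 23 + x ^ 29) (z := 1 + x + x ^ 2 + x ^ 3 + x ^ 4) (L := 8) (by ring) 2 h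
  replace h := killMid (-1) (-4 - 3 * x + x ^ 2 + 4 * x ^ 3 + 3 * x ^ 4 - x ^ 5 - 4 * x ^ 6 - 2 * x ^ 7 + 2 * x ^ 8 + 4 * x ^ 9 + 2 * x ^ 10 - x ^ 11 - 3 * x ^ 12 - x ^ 13 + 2 * x ^ 14 + 3 * x ^ 15 + x ^ 16 - x ^ 17 - 2 * x ^ 18 + 2 * x ^ 20 + 2 * x ^ 21 - x ^ 23 - x ^ 24 + x ^ 26 + x ^ 27) (k := -6 + x + x ^ 7 + x ^ 11 + x ^ 13 + x ^ 17 + x ^ 19 + x ^ 23 + x ^ 29) (z := 1 - x + x ^ 2) (L := 2) (by ring) 4 h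
  replace h := killMid (-9331 - 1555 * x - 259 * x ^ 2 - 43 * x ^ 3 - 7 * x ^ 4 - x ^ 5) (1 + 9331 * x ^ 7 - 7776 * x ^ 8 - 1296 * x ^ 9 - 216 * x ^ 10 + 9295 * x ^ 11 - 7782 * x ^ 12 + 8034 * x ^ 13 + 1339 * x ^ 14 - 9108 * x ^ 15 - 1518 * x ^ 16 + 9078 * x ^ 17 + 1513 * x ^ 18 + 252 * x ^ 19 + 42 * x ^ 20 + 7 * x ^ 21 - 9330 * x ^ 22 + 7776 * x ^ 23 + 1296 * x ^ 24 + 216 * x ^ 25 + 36 * x ^ 26 + 6 * x ^ 27 + x ^ 28) (k := -6 + x + x ^ 7 + x ^ 11 + x ^ 13 + x ^ 17 + x ^ 19 + x ^ 23 + x ^ 29) (z := 1 + x + x ^ 2 + x ^ 3 + x ^ 4 + x ^ 5 + x ^ 6) (L := 55987) (by ring) 1 h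
  replace h := killMid (-1) (x - x ^ 5 + x ^ 7 + x ^ 9 + x ^ 17 + x ^ 19 - x ^ 21 + x ^ 25) (k := -6 + x + x ^ 7 + x ^ 11 + x ^ 13 + x ^ 17 + x ^ 19 + x ^ 23 + x ^ 29) (z := 1 + x ^ 4) (L := 6) (by ring) 2 h
  replace h := killMid (-8478 - 1392 * x - 1645 * x ^ 2 - 431 * x ^ 3 - 325 * x ^ 4 - 126 * x ^ 5) (451 + 126 * x - 8478 * x ^ 2 - 1392 * x ^ 3 - 1645 * x ^ 4 + 8047 * x ^ 5 + 1067 * x ^ 6 + 9997 * x ^ 7 + 1823 * x ^ 8 + 1970 * x ^ 9 - 7921 * x ^ 10 - 1067 * x ^ 11 - 1519 * x ^ 12 + 8047 * x ^ 13 + 1067 * x ^ 14 + 1519 * x ^ 15 + 431 * x ^ 16 + 8803 * x ^ 17 + 1518 * x ^ 18 + 1645 * x ^ 19 - 8047 * x ^ 20 - 1067 * x ^ 21 - 1519 * x ^ 22 + 8047 * x ^ 23 + 1067 * x ^ 24 + 1519 * x ^ 25 + 431 * x ^ 26 + 325 * x ^ 27 + 126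 * x ^ 28) (k := -6 + x + x ^ 7 + x ^ 11 + x ^ 13 + x ^ 17 + x ^ 19 + x ^ 23 + x ^ 29) (z := 1 + x ^ 3 + x ^ 6) (L := 51319) (by ring) 1 h
  replace h := killMid (-1) (-2 - x + x ^ 2 + 2 * x ^ 5 + x ^ 6 + x ^ 8 - 2 * x ^ 10 + x ^ 12 + x ^ 14 + 2 * x ^ 15 + x ^ 18 - x ^ 20 + x ^ 24 + x ^ 25) (k := -6 + x + x ^ 7 + x ^ 11 + x ^ 13 + x ^ 17 + x ^ 19 + x ^ 23 + x ^ 29) (z := 1 - x + x ^ 2 - x ^ 3 + x ^ 4) (L := 4) (by ring) 2 h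
  replace h := killMid (-1) (x + x ^ 3 + x ^ 11 + 2 * x ^ 13 + x ^ 15 + x ^ 23 + x ^ 25) (k := -6 + x + x ^ 7 + x ^ 11 + x ^ 13 + x ^ 17 + x ^ 19 + x ^ 23 + x ^ 29) (z := 1 - x ^ 2 + x ^ 4) (L := 6) (by ring) 2 h
  replace h := killMid (-6665 - 1111 * x - 185 * x ^ 2 - 31 * x ^ 3 - 5 * x ^ 4 - x ^ 5) (1 + 6665 * x ^ 7 + 7776 * x ^ 8 + 1296 * x ^ 9 + 216 * x ^ 10 + 6701 * x ^ 11 + 7782 * x ^ 12 + 7962 * x ^ 13 + 1327 * x ^ 14 - 6444 * x ^ 15 - 1074 * x ^ 16 + 6486 * x ^ 17 + 1081 * x ^ 18 + 180 * x ^ 19 + 30 * x ^ 20 + 5 * x ^ 21 + 6666 * x ^ 22 + 7776 * x ^ 23 + 1296 * x ^ 24 + 216 * x ^ 25 + 36 * x ^ 26 + 6 * x ^ 27 + x ^ 28) (k := -6 + x + x ^ 7 + x ^ 11 + x ^ 13 + x ^ 17 + x ^ 19 + x ^ 23 + x ^ 29) (z := 1 - x + x ^ 2 -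 x ^ 3 + x ^ 4 - x ^ 5 + x ^ 6) (L := 39991) (by ring) 1 h
  replace h := killMid (-1) (-1 + x ^ 3 + x ^ 5 + x ^ 7 + x ^ 9 + x ^ 11 + x ^ 13 - x ^ 16 + x ^ 19 + x ^ 20 + x ^ 21) (k := -6 + x + x ^ 7 + x ^ 11 + x ^ 13 + x ^ 17 + x ^ 19 + x ^ 23 + x ^ 29) (z := 1 - x + x ^ 3 - x ^ 4 + x ^ 5 - x ^ 7 + x ^ 8) (L := 5) (by ring) 1 h
  replace h := killMid (-8406 - 1416 * x + 1165 * x ^ 2 + 433 * x ^ 3 - 107 * x ^ 4 - 90 * x ^ 5) (-17 - 90 * x + 8406 * x ^ 2 + 1416 * x ^ 3 - 1165 * x ^ 4 + 7973 * x ^ 5 + 1523 * x ^ 6 + 7331 * x ^ 7 + 983 * x ^ 8 - 1058 * x ^ 9 + 8063 * x ^ 10 + 1523 * x ^ 11 - 1075 * x ^ 12 + 7973 * x ^ 13 + 1523 * x ^ 14 - 1075 * x ^ 15 - 433 * x ^ 16 + 8513 * x ^ 17 + 1506 * x ^ 18 - 1165 * x ^ 19 + 7973 * x ^ 20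 + 1523 * x ^ 21 - 1075 * x ^ 22 + 7973 * x ^ 23 + 1523 * x ^ 24 - 1075 * x ^ 25 - 433 * x ^ 26 + 107 * x ^ 27 + 90 * x ^ 28) (k := -6 + x + x ^ 7 + x ^ 11 + x ^ 13 + x ^ 17 + x ^ 19 + x ^ 23 + x ^ 29) (z := 1 - x ^ 3 + x ^ 6) (L := 50419) (by ring) 1 h
  replace h := killMid (-1) (x + x ^ 3 + x ^ 7 + x ^ 9 + x ^ 13 + x ^ 15 + x ^ 19 + x ^ 21) (k := -6 + x + x ^ 7 + x ^ 11 + x ^ 13 + x ^ 17 + x ^ 19 + x ^ 23 + x ^ 29) (z := 1 - x ^ 2 + x ^ 4 - x ^ 6 + x ^ 8) (L := 6) (by ring) 1 h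
  replace h := killMid (-1) (x + x ^ 5 + x ^ 7 + 2 * x ^ 11 + x ^ 15 + x ^ 17 + x ^ 21) (k := -6 + x + x ^ 7 + x ^ 11 + x ^ 13 + x ^ 17 + x ^ 19 + x ^ 23 + x ^ 29) (z := 1 - x ^ 4 + x ^ 8) (L := 6) (by ring) 1 h
  replace h := killMid (-1) (1 + x ^ 3 + x ^ 5 + x ^ 7 + x ^ 9 + x ^ 11 + x ^ 13 + x ^ 16 + x ^ 19 - x ^ 20 + x ^ 21) (k := -6 + x + x ^ 7 + x ^ 11 + x ^ 13 + x ^ 17 + x ^ 19 + x ^ 23 + x ^ 29) (z := 1 + x - x ^ 3 - x ^ 4 - x ^ 5 + x ^ 7 + x ^ 8) (L := 7) (by ring) 1 h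
  replace h : (-6 + x + x ^ 7 + x ^ 11 + x ^ 13 + x ^ 17 + x ^ 19 + x ^ 23 + x ^ 29) ∣ 4553421590637141963192527145382798598917324800000 := h.trans (dvd_of_eq (by norm_num))
  have hle := Int.le_of_dvd (by norm_num) h
  have st : ∀ i : ℕ, 256 * x ^ i ≤ x ^ (i + 1) := fun i => by
    rw [pow_succ' x i]; exact mul_le_mul_of_nonneg_right hx (by positivity)
  have hf0 : (0 : ℤ) ≤ 1 := by linarith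
  have hf1 : (1 : ℤ) ≤ 2 * x ^ 0 := by linarith
  have e : (-6 + x + x ^ 7 + x ^ 11 + x ^ 13 + x ^ 17 + x ^ 19 + x ^ 23 + x ^ 29) * (1) = -6 + x + x ^ 7 + x ^ 11 + x ^ 13 + x ^ 17 + x ^ 19 + x ^ 23 + x ^ 29 := by ring
  have h1 := mul_le_mul_of_nonneg_right hle hf0
  have h2 := mul_le_mul_of_nonneg_left hf1 (show (0 : ℤ) ≤ 4553421590637141963192527145382798598917324800000 by norm_num)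
  have h3 : (256 : ℤ) ^ 29 * x ^ 0 ≤ x ^ 29 := by
    rw [show x ^ 29 = x ^ 29 * x ^ 0 by rw [← pow_add]]
    exact mul_le_mul_of_nonneg_right (pow_le_pow_left₀ (by norm_num) hx _) (by positivity)
  have h4 : 1 ≤ x ^ 0 := one_le_pow₀ (by linarith)
  have q7 : 0 ≤ x ^ 7 := by positivity
  have q11 : 0 ≤ x ^ 11 := by positivity
  have q13 : 0 ≤ x ^ 13 := by positivity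
  have q17 : 0 ≤ x ^ 17 := by positivity
  have q19 : 0 ≤ x ^ 19 := by positivity
  have q23 : 0 ≤ x ^ 23 := by positivity
  norm_num at h3
  linarith

theorem bound_7 (x : ℤ) (hx : 256 ≤ x)
    (h : (-7 + x + x ^ 7 + x ^ 11 + x ^ 13 + x ^ 17 + x ^ 19 + x ^ 23 + x ^ 29) ∣
      7 * ((-1 + x) ^ 8 * ((1 + x) ^ 8 * ((1 + x + x ^ 2) ^ 4 * ((1 + x ^ 2) ^ 4 * ((1 + x + x ^ 2 + x ^ 3 + x ^ 4) ^ 2 * ((1 - x + x ^ 2) ^ 4 * ((1 + x + x ^ 2 + x ^ 3 + x ^ 4 + x ^ 5 + x ^ 6) ^ 1 * ((1 + x ^ 4) ^ 2 * ((1 + x ^ 3 + x ^ 6) ^ 1 * ((1 - x + x ^ 2 - x ^ 3 + x ^ 4) ^ 2 * ((1 - x ^ 2 + x ^ 4) ^ 2 * ((1 - x + x ^ 2 - x ^ 3 + x ^ 4 - x ^ 5 + x ^ 6) ^ 1 * ((1 - x + x ^ 3 - x ^ 4 + x ^ 5 - x ^ 7 + x ^ 8) ^ 1 * ((1 - x ^ 3 + x ^ 6) ^ 1 * ((1 - x ^ 2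 + x ^ 4 - x ^ 6 + x ^ 8) ^ 1 * ((1 - x ^ 4 + x ^ 8) ^ 1 * ((1 + x - x ^ 3 - x ^ 4 - x ^ 5 + x ^ 7 + x ^ 8) ^ 1 * (1))))))))))))))))))) : False := by
  replace h := killMid (1) (-8 - 7 * x - 7 * x ^ 2 - 7 * x ^ 3 - 7 * x ^ 4 - 7 * x ^ 5 - 7 * x ^ 6 - 6 * x ^ 7 - 6 * x ^ 8 - 6 * x ^ 9 - 6 * x ^ 10 - 5 * x ^ 11 - 5 * x ^ 12 - 4 * x ^ 13 - 4 * x ^ 14 - 4 * x ^ 15 - 4 * x ^ 16 - 3 * x ^ 17 - 3 * x ^ 18 - 2 * x ^ 19 - 2 * x ^ 20 - 2 * x ^ 21 - 2 * x ^ 22 - x ^ 23 - x ^ 24 - x ^ 25 - x ^ 26 - x ^ 27 - x ^ 28) (k := -7 + x + x ^ 7 + x ^ 11 + x ^ 13 + x ^ 17 + x ^ 19 + x ^ 23 + x ^ 29) (z := -1 + x) (L := 1) (by ring) 8 h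
  replace h := killMid (-1) (8 - 7 * x + 7 * x ^ 2 - 7 * x ^ 3 + 7 * x ^ 4 - 7 * x ^ 5 + 7 * x ^ 6 - 6 * x ^ 7 + 6 * x ^ 8 - 6 * x ^ 9 + 6 * x ^ 10 - 5 * x ^ 11 + 5 * x ^ 12 - 4 * x ^ 13 + 4 * x ^ 14 - 4 * x ^ 15 + 4 * x ^ 16 - 3 * x ^ 17 + 3 * x ^ 18 - 2 * x ^ 19 + 2 * x ^ 20 - 2 * x ^ 21 + 2 * x ^ 22 - x ^ 23 + x ^ 24 - x ^ 25 + x ^ 26 - x ^ 27 + x ^ 28) (k := -7 + x + x ^ 7 + x ^ 11 + x ^ 13 + x ^ 17 + x ^ 19 + x ^ 23 + x ^ 29) (z := 1 + x) (L := 15) (by ring) 8 h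
  replace h := killMid (-1) (4 - 3 * x - x ^ 2 + 4 * x ^ 3 - 3 * x ^ 4 - x ^ 5 + 4 * x ^ 6 - 2 * x ^ 7 - 2 * x ^ 8 + 4 * x ^ 9 - 2 * x ^ 10 - x ^ 11 + 3 * x ^ 12 - x ^ 13 - 2 * x ^ 14 + 3 * x ^ 15 - x ^ 16 - x ^ 17 + 2 * x ^ 18 - 2 * x ^ 20 + 2 * x ^ 21 - x ^ 23 + x ^ 24 - x ^ 26 + x ^ 27) (k := -7 + x + x ^ 7 + x ^ 11 + x ^ 13 + x ^ 17 + x ^ 19 + x ^ 23 + x ^ 29) (z := 1 + x + x ^ 2) (L := 11) (by ring) 4 h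
  replace h := killMid (-1) (x - x ^ 3 + x ^ 5 + x ^ 11 + x ^ 17 + x ^ 23 - x ^ 25 + x ^ 27) (k := -7 + x + x ^ 7 + x ^ 11 + x ^ 13 + x ^ 17 + x ^ 19 + x ^ 23 + x ^ 29) (z := 1 + x ^ 2) (L := 7) (by ring) 4 h
  replace h := killMid (-1) (2 - x - x ^ 2 + 2 * x ^ 5 - x ^ 6 - x ^ 8 + 2 * x ^ 10 - x ^ 12 - x ^ 14 + 2 * x ^ 15 - x ^ 18 + x ^ 20 - x ^ 24 + x ^ 25) (k := -7 + x + x ^ 7 + x ^ 11 + x ^ 13 + x ^ 17 + x ^ 19 + x ^ 23 + x ^ 29) (z := 1 + x + x ^ 2 + x ^ 3 + x ^ 4) (L := 9) (by ring) 2 h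
  replace h := killMid (-1) (-4 - 3 * x + x ^ 2 + 4 * x ^ 3 + 3 * x ^ 4 - x ^ 5 - 4 * x ^ 6 - 2 * x ^ 7 + 2 * x ^ 8 + 4 * x ^ 9 + 2 * x ^ 10 - x ^ 11 - 3 * x ^ 12 - x ^ 13 + 2 * x ^ 14 + 3 * x ^ 15 + x ^ 16 - x ^ 17 - 2 * x ^ 18 + 2 * x ^ 20 + 2 * x ^ 21 - x ^ 23 - x ^ 24 + x ^ 26 + x ^ 27) (k := -7 + x + x ^ 7 + x ^ 11 + x ^ 13 + x ^ 17 + x ^ 19 + x ^ 23 + x ^ 29) (z := 1 - x + x ^ 2) (L := 3) (by ring) 4 h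
  replace h := killMid (-19608 - 2801 * x - 400 * x ^ 2 - 57 * x ^ 3 - 8 * x ^ 4 - x ^ 5) (1 + 19608 * x ^ 7 - 16807 * x ^ 8 - 2401 * x ^ 9 - 343 * x ^ 10 + 19559 * x ^ 11 - 16814 * x ^ 12 + 17206 * x ^ 13 + 2458 * x ^ 14 - 19257 * x ^ 15 - 2751 * x ^ 16 + 19215 * x ^ 17 + 2745 * x ^ 18 + 392 * x ^ 19 + 56 * x ^ 20 + 8 * x ^ 21 - 19607 * x ^ 22 + 16807 * x ^ 23 + 2401 * x ^ 24 + 343 * x ^ 25 + 49 * x ^ 26 + 7 * x ^ 27 + x ^ 28) (k := -7 + x + x ^ 7 + x ^ 11 + x ^ 13 + x ^ 17 + x ^ 19 + x ^ 23 + x ^ 29) (z := 1 + x + x ^ 2 + x ^ 3 + x ^ 4 + x ^ 5 + x ^ 6) (L := 137257) (by ring) 1 h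
  replace h := killMid (-1) (x - x ^ 5 + x ^ 7 + x ^ 9 + x ^ 17 + x ^ 19 - x ^ 21 + x ^ 25) (k := -7 + x + x ^ 7 + x ^ 11 + x ^ 13 + x ^ 17 + x ^ 19 + x ^ 23 + x ^ 29) (z := 1 + x ^ 4) (L := 7) (by ring) 2 h
  replace h := killMid (-17906 - 2534 * x - 2920 * x ^ 2 - 685 * x ^ 3 - 491 * x ^ 4 - 168 * x ^ 5) (659 + 168 * x - 17906 * x ^ 2 - 2534 * x ^ 3 - 2920 * x ^ 4 + 17221 * x ^ 5 + 2043 * x ^ 6 + 20658 * x ^ 7 + 3219 * x ^ 8 + 3411 * x ^ 9 - 17053 * x ^ 10 - 2043 * x ^ 11 - 2752 * x ^ 12 + 17221 * x ^ 13 + 2043 * x ^ 14 + 2752 * x ^ 15 + 685 * x ^ 16 + 18397 * x ^ 17 + 2702 * x ^ 18 + 2920 * x ^ 19 - 17221 * x ^ 20 - 2043 * x ^ 21 - 2752 * x ^ 22 + 17221 * x ^ 23 + 2043 * x ^ 24 + 2752 * x ^ 25 + 685 * x ^ 26 + 491 * x ^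 27 + 168 * x ^ 28) (k := -7 + x + x ^ 7 + x ^ 11 + x ^ 13 + x ^ 17 + x ^ 19 + x ^ 23 + x ^ 29) (z := 1 + x ^ 3 + x ^ 6) (L := 126001) (by ring) 1 h
  replace h := killMid (-1) (-2 - x + x ^ 2 + 2 * x ^ 5 + x ^ 6 + x ^ 8 - 2 * x ^ 10 + x ^ 12 + x ^ 14 + 2 * x ^ 15 + x ^ 18 - x ^ 20 + x ^ 24 + x ^ 25) (k := -7 + x + x ^ 7 + x ^ 11 + x ^ 13 + x ^ 17 + x ^ 19 + x ^ 23 + x ^ 29) (z := 1 - x + x ^ 2 - x ^ 3 + x ^ 4) (L := 5) (by ring) 2 h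
  replace h := killMid (-1) (x + x ^ 3 + x ^ 11 + 2 * x ^ 13 + x ^ 15 + x ^ 23 + x ^ 25) (k := -7 + x + x ^ 7 + x ^ 11 + x ^ 13 + x ^ 17 + x ^ 19 + x ^ 23 + x ^ 29) (z := 1 - x ^ 2 + x ^ 4) (L := 7) (by ring) 2 h
  replace h := killMid (-14706 - 2101 * x - 300 * x ^ 2 - 43 * x ^ 3 - 6 * x ^ 4 - x ^ 5) (1 + 14706 * x ^ 7 + 16807 * x ^ 8 + 2401 * x ^ 9 + 343 * x ^ 10 + 14755 * x ^ 11 + 16814 * x ^ 12 + 17108 * x ^ 13 + 2444 * x ^ 14 - 14357 * x ^ 15 - 2051 * x ^ 16 + 14413 * x ^ 17 + 2059 * x ^ 18 + 294 * x ^ 19 + 42 * x ^ 20 + 6 * x ^ 21 + 14707 * x ^ 22 + 16807 * x ^ 23 + 2401 * x ^ 24 + 343 * x ^ 25 + 49 * x ^ 26 + 7 * x ^ 27 + x ^ 28) (k := -7 + x + x ^ 7 + x ^ 11 + x ^ 13 + x ^ 17 + x ^ 19 + x ^ 23 + x ^ 29) (z := 1 - x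 + x ^ 2 - x ^ 3 + x ^ 4 - x ^ 5 + x ^ 6) (L := 102943) (by ring) 1 h
  replace h := killMid (-1) (-1 + x ^ 3 + x ^ 5 + x ^ 7 + x ^ 9 + x ^ 11 + x ^ 13 - x ^ 16 + x ^ 19 + x ^ 20 + x ^ 21) (k := -7 + x + x ^ 7 + x ^ 11 + x ^ 13 + x ^ 17 + x ^ 19 + x ^ 23 + x ^ 29) (z := 1 - x + x ^ 3 - x ^ 4 + x ^ 5 - x ^ 7 + x ^ 8) (L := 6) (by ring) 1 h
  replace h := killMid (-5936 - 854 * x + 726 * x ^ 2 + 229 * x ^ 3 - 65 * x ^ 4 - 42 * x ^ 5) (-23 - 42 * x + 5936 * x ^ 2 + 854 * x ^ 3 - 726 * x ^ 4 + 5707 * x ^ 5 + 919 * x ^ 6 + 5252 * x ^ 7 + 625 * x ^ 8 - 661 * x ^ 9 + 5749 * x ^ 10 + 919 * x ^ 11 - 684 * x ^ 12 + 5707 * x ^ 13 + 919 * x ^ 14 - 684 * x ^ 15 - 229 * x ^ 16 + 6001 * x ^ 17 + 896 * x ^ 18 - 726 * x ^ 19 + 5707 * x ^ 20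 + 919 * x ^ 21 - 684 * x ^ 22 + 5707 * x ^ 23 + 919 * x ^ 24 - 684 * x ^ 25 - 229 * x ^ 26 + 65 * x ^ 27 + 42 * x ^ 28) (k := -7 + x + x ^ 7 + x ^ 11 + x ^ 13 + x ^ 17 + x ^ 19 + x ^ 23 + x ^ 29) (z := 1 - x ^ 3 + x ^ 6) (L := 41529) (by ring) 1 h
  replace h := killMid (-1) (x + x ^ 3 + x ^ 7 + x ^ 9 + x ^ 13 + x ^ 15 + x ^ 19 + x ^ 21) (k := -7 + x + x ^ 7 + x ^ 11 + x ^ 13 + x ^ 17 + x ^ 19 + x ^ 23 + x ^ 29) (z := 1 - x ^ 2 + x ^ 4 - x ^ 6 + x ^ 8) (L := 7) (by ring) 1 h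
  replace h := killMid (-1) (x + x ^ 5 + x ^ 7 + 2 * x ^ 11 + x ^ 15 + x ^ 17 + x ^ 21) (k := -7 + x + x ^ 7 + x ^ 11 + x ^ 13 + x ^ 17 + x ^ 19 + x ^ 23 + x ^ 29) (z := 1 - x ^ 4 + x ^ 8) (L := 7) (by ring) 1 h
  replace h := killMid (-1) (1 + x ^ 3 + x ^ 5 + x ^ 7 + x ^ 9 + x ^ 11 + x ^ 13 + x ^ 16 + x ^ 19 - x ^ 20 + x ^ 21) (k := -7 + x + x ^ 7 + x ^ 11 + x ^ 13 + x ^ 17 + x ^ 19 + x ^ 23 + x ^ 29) (z := 1 + x - x ^ 3 - x ^ 4 - x ^ 5 + x ^ 7 + x ^ 8) (L := 8) (by ring) 1 h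
  replace h : (-7 + x + x ^ 7 + x ^ 11 + x ^ 13 + x ^ 17 + x ^ 19 + x ^ 23 + x ^ 29) ∣ 43190409861426870132100671911890695905164218750000 := h.trans (dvd_of_eq (by norm_num))
  have hle := Int.le_of_dvd (by norm_num) h
  have st : ∀ i : ℕ, 256 * x ^ i ≤ x ^ (i + 1) := fun i => by
    rw [pow_succ' x i]; exact mul_le_mul_of_nonneg_right hx (by positivity)
  have hf0 : (0 : ℤ) ≤ 1 := by linarith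
  have hf1 : (1 : ℤ) ≤ 2 * x ^ 0 := by linarith
  have e : (-7 + x + x ^ 7 + x ^ 11 + x ^ 13 + x ^ 17 + x ^ 19 + x ^ 23 + x ^ 29) * (1) = -7 + x + x ^ 7 + x ^ 11 + x ^ 13 + x ^ 17 + x ^ 19 + x ^ 23 + x ^ 29 := by ring
  have h1 := mul_le_mul_of_nonneg_right hle hf0
  have h2 := mul_le_mul_of_nonneg_left hf1 (show (0 : ℤ) ≤ 43190409861426870132100671911890695905164218750000 by norm_num)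
  have h3 : (256 : ℤ) ^ 29 * x ^ 0 ≤ x ^ 29 := by
    rw [show x ^ 29 = x ^ 29 * x ^ 0 by rw [← pow_add]]
    exact mul_le_mul_of_nonneg_right (pow_le_pow_left₀ (by norm_num) hx _) (by positivity)
  have h4 : 1 ≤ x ^ 0 := one_le_pow₀ (by linarith)
  have q7 : 0 ≤ x ^ 7 := by positivity
  have q11 : 0 ≤ x ^ 11 := by positivity
  have q13 : 0 ≤ x ^ 13 := by positivity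
  have q17 : 0 ≤ x ^ 17 := by positivity
  have q19 : 0 ≤ x ^ 19 := by positivity
  have q23 : 0 ≤ x ^ 23 := by positivity
  norm_num at h3
  linarith

theorem bound_8 (x : ℤ) (hx : 256 ≤ x)
    (h : (-8 + x + x ^ 7 + x ^ 11 + x ^ 13 + x ^ 17 + x ^ 19 + x ^ 23 + x ^ 29) ∣
      8 * ((-1 + x) ^ 8 * ((1 + x) ^ 8 * ((1 + x + x ^ 2) ^ 4 * ((1 + x ^ 2) ^ 4 * ((1 + x + x ^ 2 + x ^ 3 + x ^ 4) ^ 2 * ((1 - x + x ^ 2) ^ 4 * ((1 + x + x ^ 2 + x ^ 3 + x ^ 4 + x ^ 5 + x ^ 6) ^ 1 * ((1 + x ^ 4) ^ 2 * ((1 + x ^ 3 + x ^ 6) ^ 1 * ((1 - x + x ^ 2 - x ^ 3 + x ^ 4) ^ 2 * ((1 - x ^ 2 + x ^ 4) ^ 2 * ((1 - x + x ^ 2 - x ^ 3 + x ^ 4 - x ^ 5 + x ^ 6) ^ 1 * ((1 - x + x ^ 3 - x ^ 4 + x ^ 5 - x ^ 7 + x ^ 8) ^ 1 * ((1 - x ^ 3 + x ^ 6) ^ 1 * ((1 - x ^ 2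 + x ^ 4 - x ^ 6 + x ^ 8) ^ 1 * ((1 - x ^ 4 + x ^ 8) ^ 1 * ((1 + x - x ^ 3 - x ^ 4 - x ^ 5 + x ^ 7 + x ^ 8) ^ 1 * (1))))))))))))))))))) : False := by
  replace h := (Dvd.intro (-1 + x) (by ring) : (8 + 7 * x + 7 * x ^ 2 + 7 * x ^ 3 + 7 * x ^ 4 + 7 * x ^ 5 + 7 * x ^ 6 + 6 * x ^ 7 + 6 * x ^ 8 + 6 * x ^ 9 + 6 * x ^ 10 + 5 * x ^ 11 + 5 * x ^ 12 + 4 * x ^ 13 + 4 * x ^ 14 + 4 * x ^ 15 + 4 * x ^ 16 + 3 * x ^ 17 + 3 * x ^ 18 + 2 * x ^ 19 + 2 * x ^ 20 + 2 * x ^ 21 + 2 * x ^ 22 + x ^ 23 + x ^ 24 + x ^ 25 + x ^ 26 + x ^ 27 + x ^ 28) ∣ (-8 + x + x ^ 7 + x ^ 11 + x ^ 13 + x ^ 17 + x ^ 19 + x ^ 23 + x ^ 29)).trans h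
  replace h := killMid (1) (-112 - 105 * x - 98 * x ^ 2 - 91 * x ^ 3 - 84 * x ^ 4 - 77 * x ^ 5 - 70 * x ^ 6 - 64 * x ^ 7 - 58 * x ^ 8 - 52 * x ^ 9 - 46 * x ^ 10 - 41 * x ^ 11 - 36 * x ^ 12 - 32 * x ^ 13 - 28 * x ^ 14 - 24 * x ^ 15 - 20 * x ^ 16 - 17 * x ^ 17 - 14 * x ^ 18 - 12 * x ^ 19 - 10 * x ^ 20 - 8 * x ^ 21 - 6 * x ^ 22 - 5 * x ^ 23 - 4 * x ^ 24 - 3 * x ^ 25 - 2 * x ^ 26 - x ^ 27) (k := 8 + 7 * x + 7 * x ^ 2 + 7 * x ^ 3 + 7 * x ^ 4 + 7 * x ^ 5 + 7 * x ^ 6 + 6 * x ^ 7 + 6 * x ^ 8 + 6 * x ^ 9 + 6 * x ^ 10 + 5 * x ^ 11 + 5 * x ^ 12 + 4 * x ^ 13 + 4 * x ^ 14 + 4 * x ^ 15 + 4 * x ^ 16 + 3 * x ^ 17 + 3 * x ^ 18 + 2 * x ^ 19 + 2 * x ^ 20 + 2 * x ^ 21 + 2 * x ^ 22 + x ^ 23 + x ^ 24 + x ^ 25 + x ^ 26 + x ^ 27 + x ^ 28) (z := -1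 + x) (L := 120) (by ring) 8 h
  replace h := killMid (1) (-7 * x - 7 * x ^ 3 - 7 * x ^ 5 - 6 * x ^ 7 - 6 * x ^ 9 - 5 * x ^ 11 - 4 * x ^ 13 - 4 * x ^ 15 - 3 * x ^ 17 - 2 * x ^ 19 - 2 * x ^ 21 - x ^ 23 - x ^ 25 - x ^ 27) (k := 8 + 7 * x + 7 * x ^ 2 + 7 * x ^ 3 + 7 * x ^ 4 + 7 * x ^ 5 + 7 * x ^ 6 + 6 * x ^ 7 + 6 * x ^ 8 + 6 * x ^ 9 + 6 * x ^ 10 + 5 * x ^ 11 + 5 * x ^ 12 + 4 * x ^ 13 + 4 * x ^ 14 + 4 * x ^ 15 + 4 * x ^ 16 + 3 * x ^ 17 + 3 * x ^ 18 + 2 * x ^ 19 + 2 * x ^ 20 + 2 * x ^ 21 + 2 * x ^ 22 + x ^ 23 + x ^ 24 + x ^ 25 + x ^ 26 + x ^ 27 + x ^ 28) (z := 1 + x) (L := 8) (by ring) 8 h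
  replace h := killMid (1 - x) (4 - 3 * x - x ^ 2 + 4 * x ^ 3 - 3 * x ^ 4 - x ^ 5 + 4 * x ^ 6 - 2 * x ^ 7 - 2 * x ^ 8 + 4 * x ^ 9 - 2 * x ^ 10 - x ^ 11 + 3 * x ^ 12 - x ^ 13 - 2 * x ^ 14 + 3 * x ^ 15 - x ^ 16 - x ^ 17 + 2 * x ^ 18 - 2 * x ^ 20 + 2 * x ^ 21 - x ^ 23 + x ^ 24 - x ^ 26 + x ^ 27) (k := 8 + 7 * x + 7 * x ^ 2 + 7 * x ^ 3 + 7 * x ^ 4 + 7 * x ^ 5 + 7 * x ^ 6 + 6 * x ^ 7 + 6 * x ^ 8 + 6 * x ^ 9 + 6 * x ^ 10 + 5 * x ^ 11 + 5 * x ^ 12 + 4 * x ^ 13 + 4 * x ^ 14 + 4 * x ^ 15 + 4 * x ^ 16 + 3 * x ^ 17 + 3 * x ^ 18 + 2 * x ^ 19 + 2 * x ^ 20 + 2 * x ^ 21 + 2 * x ^ 22 + x ^ 23 + x ^ 24 + x ^ 25 + x ^ 26 + x ^ 27 + x ^ 28) (z := 1 + x + x ^ 2) (L := 12) (by ring) 4 h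
  replace h := killMid (1 - x) (x - x ^ 3 + x ^ 5 + x ^ 11 + x ^ 17 + x ^ 23 - x ^ 25 + x ^ 27) (k := 8 + 7 * x + 7 * x ^ 2 + 7 * x ^ 3 + 7 * x ^ 4 + 7 * x ^ 5 + 7 * x ^ 6 + 6 * x ^ 7 + 6 * x ^ 8 + 6 * x ^ 9 + 6 * x ^ 10 + 5 * x ^ 11 + 5 * x ^ 12 + 4 * x ^ 13 + 4 * x ^ 14 + 4 * x ^ 15 + 4 * x ^ 16 + 3 * x ^ 17 + 3 * x ^ 18 + 2 * x ^ 19 + 2 * x ^ 20 + 2 * x ^ 21 + 2 * x ^ 22 + x ^ 23 + x ^ 24 + x ^ 25 + x ^ 26 + x ^ 27 + x ^ 28) (z := 1 + x ^ 2) (L := 8) (by ring) 4 h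
  replace h := killMid (1 - x) (2 - x - x ^ 2 + 2 * x ^ 5 - x ^ 6 - x ^ 8 + 2 * x ^ 10 - x ^ 12 - x ^ 14 + 2 * x ^ 15 - x ^ 18 + x ^ 20 - x ^ 24 + x ^ 25) (k := 8 + 7 * x + 7 * x ^ 2 + 7 * x ^ 3 + 7 * x ^ 4 + 7 * x ^ 5 + 7 * x ^ 6 + 6 * x ^ 7 + 6 * x ^ 8 + 6 * x ^ 9 + 6 * x ^ 10 + 5 * x ^ 11 + 5 * x ^ 12 + 4 * x ^ 13 + 4 * x ^ 14 + 4 * x ^ 15 + 4 * x ^ 16 + 3 * x ^ 17 + 3 * x ^ 18 + 2 * x ^ 19 + 2 * x ^ 20 + 2 * x ^ 21 + 2 * x ^ 22 + x ^ 23 + x ^ 24 + x ^ 25 + x ^ 26 + x ^ 27 + x ^ 28) (z := 1 + x + x ^ 2 + x ^ 3 + x ^ 4) (L := 10) (by ring) 2 h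
  replace h := killMid (1 - x) (-4 - 3 * x + x ^ 2 + 4 * x ^ 3 + 3 * x ^ 4 - x ^ 5 - 4 * x ^ 6 - 2 * x ^ 7 + 2 * x ^ 8 + 4 * x ^ 9 + 2 * x ^ 10 - x ^ 11 - 3 * x ^ 12 - x ^ 13 + 2 * x ^ 14 + 3 * x ^ 15 + x ^ 16 - x ^ 17 - 2 * x ^ 18 + 2 * x ^ 20 + 2 * x ^ 21 - x ^ 23 - x ^ 24 + x ^ 26 + x ^ 27) (k := 8 + 7 * x + 7 * x ^ 2 + 7 * x ^ 3 + 7 * x ^ 4 + 7 * x ^ 5 + 7 * x ^ 6 + 6 * x ^ 7 + 6 * x ^ 8 + 6 * x ^ 9 + 6 * x ^ 10 + 5 * x ^ 11 + 5 * x ^ 12 + 4 * x ^ 13 + 4 * x ^ 14 + 4 * x ^ 15 + 4 * x ^ 16 + 3 * x ^ 17 + 3 * x ^ 18 + 2 * x ^ 19 + 2 * x ^ 20 + 2 * x ^ 21 + 2 * x ^ 22 + x ^ 23 + x ^ 24 + x ^ 25 + x ^ 26 + x ^ 27 + x ^ 28) (z := 1 - x + x ^ 2) (L := 4) (by ring) 4 h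
  replace h := killMid (5350 - 4681 * x - 585 * x ^ 2 - 73 * x ^ 3 - 9 * x ^ 4 - x ^ 5) (-1 - x - x ^ 2 - x ^ 3 - x ^ 4 - x ^ 5 - x ^ 6 + 5349 * x ^ 7 - 4682 * x ^ 8 - 586 * x ^ 9 - 74 * x ^ 10 + 5340 * x ^ 11 - 4683 * x ^ 12 + 4764 * x ^ 13 + 595 * x ^ 14 - 5276 * x ^ 15 - 660 * x ^ 16 + 5267 * x ^ 17 + 658 * x ^ 18 + 82 * x ^ 19 + 10 * x ^ 20 + x ^ 21 - 5350 * x ^ 22 + 4681 * x ^ 23 + 585 * x ^ 24 + 73 * x ^ 25 + 9 * x ^ 26 + x ^ 27) (k := 8 + 7 * x + 7 * x ^ 2 + 7 * x ^ 3 + 7 * x ^ 4 + 7 * x ^ 5 + 7 * x ^ 6 + 6 * x ^ 7 + 6 * x ^ 8 + 6 * x ^ 9 + 6 * x ^ 10 + 5 * x ^ 11 + 5 * x ^ 12 + 4 * x ^ 13 + 4 * x ^ 14 + 4 * x ^ 15 + 4 * x ^ 16 + 3 * x ^ 17 + 3 * x ^ 18 + 2 * x ^ 19 + 2 * x ^ 20 + 2 * x ^ 21 + 2 * x ^ 22 + x ^ 23 + x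 ^ 24 + x ^ 25 + x ^ 26 + x ^ 27 + x ^ 28) (z := 1 + x + x ^ 2 + x ^ 3 + x ^ 4 + x ^ 5 + x ^ 6) (L := 42799) (by ring) 1 h
  replace h := killMid (1 - x) (x - x ^ 5 + x ^ 7 + x ^ 9 + x ^ 17 + x ^ 19 - x ^ 21 + x ^ 25) (k := 8 + 7 * x + 7 * x ^ 2 + 7 * x ^ 3 + 7 * x ^ 4 + 7 * x ^ 5 + 7 * x ^ 6 + 6 * x ^ 7 + 6 * x ^ 8 + 6 * x ^ 9 + 6 * x ^ 10 + 5 * x ^ 11 + 5 * x ^ 12 + 4 * x ^ 13 + 4 * x ^ 14 + 4 * x ^ 15 + 4 * x ^ 16 + 3 * x ^ 17 + 3 * x ^ 18 + 2 * x ^ 19 + 2 * x ^ 20 + 2 * x ^ 21 + 2 * x ^ 22 + x ^ 23 + x ^ 24 + x ^ 25 + x ^ 26 + x ^ 27 + x ^ 28) (z := 1 + x ^ 4) (L := 8) (by ring) 2 h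
  replace h := killMid (11536 - 10040 * x + 187 * x ^ 2 - 1198 * x ^ 3 - 106 * x ^ 4 - 163 * x ^ 5) (-269 - 432 * x - 11968 * x ^ 2 - 1928 * x ^ 3 - 2115 * x ^ 4 + 10619 * x ^ 5 + 685 * x ^ 6 + 12571 * x ^ 7 + 1333 * x ^ 8 + 1414 * x ^ 9 - 11483 * x ^ 10 - 1549 * x ^ 11 - 1899 * x ^ 12 + 10835 * x ^ 13 + 901 * x ^ 14 + 1251 * x ^ 15 + 53 * x ^ 16 + 11483 * x ^ 17 + 1280 * x ^ 18 + 1467 * x ^ 19 - 11267 * x ^ 20 - 1333 * x ^ 21 - 1683 * x ^ 22 + 11051 * x ^ 23 + 1117 * x ^ 24 + 1467 * x ^ 25 + 269 * x ^ 26 + 163 * x ^ 27) (k := 8 + 7 * x + 7 * x ^ 2 + 7 * x ^ 3 + 7 * x ^ 4 + 7 * x ^ 5 + 7 * x ^ 6 + 6 * x ^ 7 + 6 * x ^ 8 + 6 * x ^ 9 + 6 * x ^ 10 + 5 * x ^ 11 + 5 * x ^ 12 + 4 * x ^ 13 + 4 * x ^ 14 + 4 * x ^ 15 + 4 * x ^ 16 + 3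 * x ^ 17 + 3 * x ^ 18 + 2 * x ^ 19 + 2 * x ^ 20 + 2 * x ^ 21 + 2 * x ^ 22 + x ^ 23 + x ^ 24 + x ^ 25 + x ^ 26 + x ^ 27 + x ^ 28) (z := 1 + x ^ 3 + x ^ 6) (L := 92019) (by ring) 1 h
  replace h := killMid (1 - x) (-2 - x + x ^ 2 + 2 * x ^ 5 + x ^ 6 + x ^ 8 - 2 * x ^ 10 + x ^ 12 + x ^ 14 + 2 * x ^ 15 + x ^ 18 - x ^ 20 + x ^ 24 + x ^ 25) (k := 8 + 7 * x + 7 * x ^ 2 + 7 * x ^ 3 + 7 * x ^ 4 + 7 * x ^ 5 + 7 * x ^ 6 + 6 * x ^ 7 + 6 * x ^ 8 + 6 * x ^ 9 + 6 * x ^ 10 + 5 * x ^ 11 + 5 * x ^ 12 + 4 * x ^ 13 + 4 * x ^ 14 + 4 * x ^ 15 + 4 * x ^ 16 + 3 * x ^ 17 + 3 * x ^ 18 + 2 * x ^ 19 + 2 * x ^ 20 + 2 * x ^ 21 + 2 * x ^ 22 + x ^ 23 + x ^ 24 + x ^ 25 + x ^ 26 + x ^ 27 + x ^ 28) (z := 1 - x + x ^ 2 - x ^ 3 + x ^ 4) (L := 6) (by ring) 2 h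
  replace h := killMid (1 - x) (x + x ^ 3 + x ^ 11 + 2 * x ^ 13 + x ^ 15 + x ^ 23 + x ^ 25) (k := 8 + 7 * x + 7 * x ^ 2 + 7 * x ^ 3 + 7 * x ^ 4 + 7 * x ^ 5 + 7 * x ^ 6 + 6 * x ^ 7 + 6 * x ^ 8 + 6 * x ^ 9 + 6 * x ^ 10 + 5 * x ^ 11 + 5 * x ^ 12 + 4 * x ^ 13 + 4 * x ^ 14 + 4 * x ^ 15 + 4 * x ^ 16 + 3 * x ^ 17 + 3 * x ^ 18 + 2 * x ^ 19 + 2 * x ^ 20 + 2 * x ^ 21 + 2 * x ^ 22 + x ^ 23 + x ^ 24 + x ^ 25 + x ^ 26 + x ^ 27 + x ^ 28) (z := 1 - x ^ 2 + x ^ 4) (L := 8) (by ring) 2 h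
  replace h := killMid (29128 - 25487 * x - 3185 * x ^ 2 - 399 * x ^ 3 - 49 * x ^ 4 - 7 * x ^ 5) (-7 - 7 * x - 7 * x ^ 2 - 7 * x ^ 3 - 7 * x ^ 4 - 7 * x ^ 5 - 7 * x ^ 6 + 29121 * x ^ 7 + 32762 * x ^ 8 + 4090 * x ^ 9 + 506 * x ^ 10 + 29186 * x ^ 11 + 32771 * x ^ 12 + 33220 * x ^ 13 + 4149 * x ^ 14 - 28612 * x ^ 15 - 3580 * x ^ 16 + 28677 * x ^ 17 + 3582 * x ^ 18 + 446 * x ^ 19 + 54 * x ^ 20 + 5 * x ^ 21 + 29126 * x ^ 22 + 32767 * x ^ 23 + 4095 * x ^ 24 + 511 * x ^ 25 + 63 * x ^ 26 + 7 * x ^ 27) (k := 8 + 7 * x + 7 * x ^ 2 + 7 * x ^ 3 + 7 * x ^ 4 + 7 * x ^ 5 + 7 * x ^ 6 + 6 * x ^ 7 + 6 * x ^ 8 + 6 * x ^ 9 + 6 * x ^ 10 + 5 * x ^ 11 + 5 * x ^ 12 + 4 * x ^ 13 + 4 * x ^ 14 + 4 * x ^ 15 + 4 * x ^ 16 + 3 * x ^ 17 + 3 * x ^ 18 + 2 *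 x ^ 19 + 2 * x ^ 20 + 2 * x ^ 21 + 2 * x ^ 22 + x ^ 23 + x ^ 24 + x ^ 25 + x ^ 26 + x ^ 27 + x ^ 28) (z := 1 - x + x ^ 2 - x ^ 3 + x ^ 4 - x ^ 5 + x ^ 6) (L := 233017) (by ring) 1 h
  replace h := killMid (1 - x) (-1 + x ^ 3 + x ^ 5 + x ^ 7 + x ^ 9 + x ^ 11 + x ^ 13 - x ^ 16 + x ^ 19 + x ^ 20 + x ^ 21) (k := 8 + 7 * x + 7 * x ^ 2 + 7 * x ^ 3 + 7 * x ^ 4 + 7 * x ^ 5 + 7 * x ^ 6 + 6 * x ^ 7 + 6 * x ^ 8 + 6 * x ^ 9 + 6 * x ^ 10 + 5 * x ^ 11 + 5 * x ^ 12 + 4 * x ^ 13 + 4 * x ^ 14 + 4 * x ^ 15 + 4 * x ^ 16 + 3 * x ^ 17 + 3 * x ^ 18 + 2 * x ^ 19 + 2 * x ^ 20 + 2 * x ^ 21 + 2 * x ^ 22 + x ^ 23 + x ^ 24 + x ^ 25 + x ^ 26 + x ^ 27 + x ^ 28) (z := 1 - x + x ^ 3 - x ^ 4 + x ^ 5 - x ^ 7 + x ^ 8) (L := 7) (by ring) 1 h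
  replace h := killMid (34432 - 29960 * x - 8049 * x ^ 2 + 2552 * x ^ 3 + 1344 * x ^ 4 - 151 * x ^ 5) (-1495 - 1344 * x + 33088 * x ^ 2 + 3128 * x ^ 3 - 4921 * x ^ 4 + 32063 * x ^ 5 + 3447 * x ^ 6 + 29679 * x ^ 7 + 2271 * x ^ 8 - 4434 * x ^ 9 + 32399 * x ^ 10 + 3783 * x ^ 11 - 4417 * x ^ 12 + 32567 * x ^ 13 + 3951 * x ^ 14 - 4249 * x ^ 15 - 1697 * x ^ 16 + 34079 * x ^ 17 + 3968 * x ^ 18 - 4081 * x ^ 19 + 32903 * x ^ 20 + 4287 * x ^ 21 - 3913 * x ^ 22 + 33071 * x ^ 23 + 4455 * x ^ 24 - 3745 * x ^ 25 - 1193 * x ^ 26 + 151 * x ^ 27) (k := 8 + 7 * x + 7 * x ^ 2 + 7 * x ^ 3 + 7 * x ^ 4 + 7 * x ^ 5 + 7 * x ^ 6 + 6 * x ^ 7 + 6 * x ^ 8 + 6 * x ^ 9 + 6 * x ^ 10 + 5 * x ^ 11 + 5 * x ^ 12 + 4 * x ^ 13 + 4 * x ^ 14 + 4 * x ^ 15 + 4 * x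 ^ 16 + 3 * x ^ 17 + 3 * x ^ 18 + 2 * x ^ 19 + 2 * x ^ 20 + 2 * x ^ 21 + 2 * x ^ 22 + x ^ 23 + x ^ 24 + x ^ 25 + x ^ 26 + x ^ 27 + x ^ 28) (z := 1 - x ^ 3 + x ^ 6) (L := 273961) (by ring) 1 h
  replace h := killMid (1 - x) (x + x ^ 3 + x ^ 7 + x ^ 9 + x ^ 13 + x ^ 15 + x ^ 19 + x ^ 21) (k := 8 + 7 * x + 7 * x ^ 2 + 7 * x ^ 3 + 7 * x ^ 4 + 7 * x ^ 5 + 7 * x ^ 6 + 6 * x ^ 7 + 6 * x ^ 8 + 6 * x ^ 9 + 6 * x ^ 10 + 5 * x ^ 11 + 5 * x ^ 12 + 4 * x ^ 13 + 4 * x ^ 14 + 4 * x ^ 15 + 4 * x ^ 16 + 3 * x ^ 17 + 3 * x ^ 18 + 2 * x ^ 19 + 2 * x ^ 20 + 2 * x ^ 21 + 2 * x ^ 22 + x ^ 23 + x ^ 24 + x ^ 25 + x ^ 26 + x ^ 27 + x ^ 28) (z := 1 - x ^ 2 + x ^ 4 - x ^ 6 + x ^ 8) (L := 8) (by ring) 1 h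
  replace h := killMid (1 - x) (x + x ^ 5 + x ^ 7 + 2 * x ^ 11 + x ^ 15 + x ^ 17 + x ^ 21) (k := 8 + 7 * x + 7 * x ^ 2 + 7 * x ^ 3 + 7 * x ^ 4 + 7 * x ^ 5 + 7 * x ^ 6 + 6 * x ^ 7 + 6 * x ^ 8 + 6 * x ^ 9 + 6 * x ^ 10 + 5 * x ^ 11 + 5 * x ^ 12 + 4 * x ^ 13 + 4 * x ^ 14 + 4 * x ^ 15 + 4 * x ^ 16 + 3 * x ^ 17 + 3 * x ^ 18 + 2 * x ^ 19 + 2 * x ^ 20 + 2 * x ^ 21 + 2 * x ^ 22 + x ^ 23 + x ^ 24 + x ^ 25 + x ^ 26 + x ^ 27 + x ^ 28) (z := 1 - x ^ 4 + x ^ 8) (L := 8) (by ring) 1 h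
  replace h := killMid (1 - x) (1 + x ^ 3 + x ^ 5 + x ^ 7 + x ^ 9 + x ^ 11 + x ^ 13 + x ^ 16 + x ^ 19 - x ^ 20 + x ^ 21) (k := 8 + 7 * x + 7 * x ^ 2 + 7 * x ^ 3 + 7 * x ^ 4 + 7 * x ^ 5 + 7 * x ^ 6 + 6 * x ^ 7 + 6 * x ^ 8 + 6 * x ^ 9 + 6 * x ^ 10 + 5 * x ^ 11 + 5 * x ^ 12 + 4 * x ^ 13 + 4 * x ^ 14 + 4 * x ^ 15 + 4 * x ^ 16 + 3 * x ^ 17 + 3 * x ^ 18 + 2 * x ^ 19 + 2 * x ^ 20 + 2 * x ^ 21 + 2 * x ^ 22 + x ^ 23 + x ^ 24 + x ^ 25 + x ^ 26 + x ^ 27 + x ^ 28) (z := 1 + x - x ^ 3 - x ^ 4 - x ^ 5 + x ^ 7 + x ^ 8) (L := 9) (by ring) 1 h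
  replace h : (8 + 7 * x + 7 * x ^ 2 + 7 * x ^ 3 + 7 * x ^ 4 + 7 * x ^ 5 + 7 * x ^ 6 + 6 * x ^ 7 + 6 * x ^ 8 + 6 * x ^ 9 + 6 * x ^ 10 + 5 * x ^ 11 + 5 * x ^ 12 + 4 * x ^ 13 + 4 * x ^ 14 + 4 * x ^ 15 + 4 * x ^ 16 + 3 * x ^ 17 + 3 * x ^ 18 + 2 * x ^ 19 + 2 * x ^ 20 + 2 * x ^ 21 + 2 * x ^ 22 + x ^ 23 + x ^ 24 + x ^ 25 + x ^ 26 + x ^ 27 + x ^ 28) ∣ 1875664684541671895145229584939430387834261233146863288320000000000 := h.trans (dvd_of_eq (by norm_num))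
  have hle := Int.le_of_dvd (by norm_num) h
  have st : ∀ i : ℕ, 256 * x ^ i ≤ x ^ (i + 1) := fun i => by
    rw [pow_succ' x i]; exact mul_le_mul_of_nonneg_right hx (by positivity)
  have hf0 : (0 : ℤ) ≤ -1 + x := by linarith
  have hf1 : (-1 + x : ℤ) ≤ 2 * x ^ 1 := by linarith
  have e : (8 + 7 * x + 7 * x ^ 2 + 7 * x ^ 3 + 7 * x ^ 4 + 7 * x ^ 5 + 7 * x ^ 6 + 6 * x ^ 7 + 6 * x ^ 8 + 6 * x ^ 9 + 6 * x ^ 10 + 5 * x ^ 11 + 5 * x ^ 12 + 4 * x ^ 13 + 4 * x ^ 14 + 4 * x ^ 15 + 4 * x ^ 16 + 3 * x ^ 17 + 3 * x ^ 18 + 2 * x ^ 19 + 2 * x ^ 20 + 2 * x ^ 21 + 2 * x ^ 22 + x ^ 23 + x ^ 24 + x ^ 25 + x ^ 26 + x ^ 27 + x ^ 28) * (-1 + x) = -8 + x + x ^ 7 + x ^ 11 + x ^ 13 + x ^ 17 + x ^ 19 + x ^ 23 + x ^ 29 := by ring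
  have h1 := mul_le_mul_of_nonneg_right hle hf0
  have h2 := mul_le_mul_of_nonneg_left hf1 (show (0 : ℤ) ≤ 1875664684541671895145229584939430387834261233146863288320000000000 by norm_num)
  have h3 : (256 : ℤ) ^ 28 * x ^ 1 ≤ x ^ 29 := by
    rw [show x ^ 29 = x ^ 28 * x ^ 1 by rw [← pow_add]]
    exact mul_le_mul_of_nonneg_right (pow_le_pow_left₀ (by norm_num) hx _) (by positivity)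
  have h4 : 1 ≤ x ^ 1 := one_le_pow₀ (by linarith)
  have q7 : 0 ≤ x ^ 7 := by positivity
  have q11 : 0 ≤ x ^ 11 := by positivity
  have q13 : 0 ≤ x ^ 13 := by positivity
  have q17 : 0 ≤ x ^ 17 := by positivity
  have q19 : 0 ≤ x ^ 19 := by positivity
  have q23 : 0 ≤ x ^ 23 := by positivity
  norm_num at h3
  linarith

theorem small_none : ∀ q < 256, 3 ≤ q → ∀ D < 9, 1 ≤ D → bigN q % (tgt q - D) ≠ 0 := by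
  decide +kernel

theorem no_dvd {q D : ℕ} (hq : IsPrimePow q) (h3 : 3 ≤ q) (h1 : 1 ≤ D) (h8 : D ≤ 8) :
    ¬ (tgt q - D) ∣ bigN q := by
  rcases lt_or_ge q 256 with hs | hs
  · exact fun h => small_none q hs h3 D (by omega) h1 (Nat.mod_eq_zero_of_dvd h)
  intro h
  have ht : q ≤ tgt q := by
    rw [tgt, mul_assoc, mul_assoc]; exact Nat.le_mul_of_pos_right _ (by positivity)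
  have hle : D ≤ tgt q := by omega
  have hg := gcd_pow_dvd (N := 149) hq (D := D) (k := tgt q - D)
    (fun hd => by have := Nat.le_of_dvd (by omega) hd; omega)
    (by rw [Nat.sub_add_cancel hle]; exact Dvd.intro ((q ^ 12 + 1) * (q ^ 10 + 1) * (q ^ 6 + 1)) (by unfold tgt; ring))
  have h2 : tgt q - D ∣ D * degProd q := by
    refine dvd_trans ?_ (Nat.mul_dvd_mul_right hg _)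
    refine dvd_trans ?_ (mul_dvd_mul_left _ (Nat.gcd_dvd_right (tgt q - D) _))
    exact (Nat.dvd_gcd dvd_rfl h).trans (Nat.gcd_mul_right_dvd_mul_gcd _ _ _)
  obtain ⟨x, hx⟩ : ∃ x : ℤ, x = (q : ℤ) := ⟨_, rfl⟩
  have hx256 : (256 : ℤ) ≤ x := by omega
  have h3 := Int.natCast_dvd_natCast.2 h2
  have p : ∀ i, 1 ≤ q ^ i := fun i => Nat.one_le_pow _ _ (by omega)
  have ek : ((tgt q - D : ℕ) : ℤ) = x * (x ^ 12 + 1) * (x ^ 10 + 1) * (x ^ 6 + 1) - D := by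
    rw [Nat.cast_sub hle, hx]
    simp [tgt]
  rw [ek, degProd] at h3
  push_cast [Nat.cast_sub (p 2), Nat.cast_sub (p 8), Nat.cast_sub (p 12), Nat.cast_sub (p 14),
    Nat.cast_sub (p 18), Nat.cast_sub (p 20), Nat.cast_sub (p 24), Nat.cast_sub (p 30), ← hx] at h3
  rw [degProd_eq] at h3
  interval_cases D
  · exact bound_1 x hx256 (by convert h3 using 1 <;> first | rfl | (push_cast; ring))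
  · exact bound_2 x hx256 (by convert h3 using 1 <;> first | rfl | (push_cast; ring))
  · exact bound_3 x hx256 (by convert h3 using 1 <;> first | rfl | (push_cast; ring))
  · exact bound_4 x hx256 (by convert h3 using 1 <;> first | rfl | (push_cast; ring))
  · exact bound_5 x hx256 (by convert h3 using 1 <;> first | rfl | (push_cast; ring))
  · exact bound_6 x hx256 (by convert h3 using 1 <;> first | rfl | (push_cast; ring))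
  · exact bound_7 x hx256 (by convert h3 using 1 <;> first | rfl | (push_cast; ring))
  · exact bound_8 x hx256 (by convert h3 using 1 <;> first | rfl | (push_cast; ring))

theorem no_dvd_two : ∀ D < 2049, 1 ≤ D → bigN 2 % (tgt 2 - D) ≠ 0 := by decide +kernel

end CfsgLib.EEightDegree
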