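import Cfsg.Agent.EEightDegree.Heisenberg

/-!
# The fixed space of the highest root group

On it the radical of the parabolic of type `E₇` is abelian: the operators satisfy the relations of
the cut table.
-/

set_option autoImplicit false
set_option linter.unusedSectionVars false
set_option maxRecDepth 100000

namespace CfsgLib.EEightDegree

open Module Cfsg.Lie CfsgLib.Chevalley CfsgLib.RootWeight CfsgLib.RepBounds

variable {F : Type*} [Field F] [Fintype F] {W : Type*} [AddCommGroup W] [Module ℂ W]
  [FiniteDimensional ℂ W] (R : RRep chevE8 F W (List.range chevE8.nroots)) {ψ : AddChar F ℂ}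

/-- The trivial table has square zero moves. -/
theorem nilT : ∀ k, Nil2 (tabT.P k) := fun _ e he => by simp [tabT] at he

theorem mem_phi {r : ℕ} (hr : r ∈ phiB) : ∃ k, alT k = r := List.mem_ofFn.1 (alT_eq ▸ hr)

theorem top_eT (t : F) : R.T 239 t * eT R ψ = eT R ψ := by
  rw [show R.T 239 t = R.P linkT (Pi.single 0 t) from (R.P_single linkT 0 t).symm, eT, pr,
    map_mul_proj, chi_zero, AddChar.zero_apply, one_smul]

theorem commute_eT {r : ℕ} (hr : r ∈ phiB) (t : F) : R.T r t * eT R ψ = eT R ψ * R.T r t := by
  obtain ⟨k, rfl⟩ := mem_phi hr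
  exact R.commute_pr0 linkT nilT k t

open Classical in
/-- The operators of the roots commuting with the highest one, on its fixed space. -/
noncomputable def fixedRep (ψ : AddChar F ℂ) :
    RRep cutDatum F (LinearMap.range (eT R ψ)) phiB where
  T r := if h : ∀ t, R.T r t * eT R ψ = eT R ψ * R.T r t then restrictChar _ (R.T r) h else 1
  H h u := (R.next linkT nilT ψ).H h u
  comm0 r hr s hs h1 h2 hc t u := by
    rw [dif_pos (commute_eT R hr), dif_pos (commute_eT R hs)]
    refine LinearMap.ext fun ⟨x, y, hy⟩ => Subtype.ext ?_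
    show R.T s u (R.T r t x) = R.T r t (R.T s u x)
    have hm : ∀ z ∈ phiB, z ∈ List.range chevE8.nroots := by
      intro z hz
      obtain ⟨k, rfl⟩ := mem_phi hz
      exact linkT.2.1 k
    rw [commTerms_cut, List.map_eq_nil_iff, cent] at hc
    have hlen := ent_short r s
    rcases he : ent r s with _ | ⟨e, l⟩
    · exact LinearMap.congr_fun
        (R.comm0 r (hm r hr) s (hm s hs) h1 h2 (by rw [commTerms_E8, he]; rfl) t u) x
    · rw [he] at hc hlen
      obtain rfl : l = [] := List.length_eq_zero_iff.1 (by simp at hlen; simpa using hlen)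
      have h239 : e.1 = 239 := by simpa using hc
      have hcomm := R.comm1 r (hm r hr) s (hm s hs) 239 (List.mem_range.2 (by decide +kernel)) e.2 h1 h2
        (by rw [commTerms_E8, he, List.map_cons, List.map_nil, h239]) t u
      have h3 := LinearMap.congr_fun hcomm x
      simp only [Module.End.mul_apply] at h3
      rw [h3, ← hy]
      exact congrArg (fun z => R.T r t (R.T s u z)) (LinearMap.congr_fun (top_eT R _) y)
  comm1 r hr s hs k hk c h1 h2 hc t u := by
    rw [dif_pos (commute_eT R hr), dif_pos (commute_eT R hs), dif_pos (commute_eT R hk)]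
    refine LinearMap.ext fun ⟨x, _⟩ => Subtype.ext ?_
    show R.T s u (R.T r t x) = R.T r t (R.T s u (R.T k _ x))
    have hm : ∀ z ∈ phiB, z ∈ List.range chevE8.nroots := by
      intro z hz
      obtain ⟨j, rfl⟩ := mem_phi hz
      exact linkT.2.1 j
    have hlen := ent_short r s
    rw [commTerms_cut, cent] at hc
    rcases he : ent r s with _ | ⟨e, l⟩
    · rw [he] at hc; simp at hc
    · rw [he] at hc hlen
      obtain rfl : l = [] := List.length_eq_zero_iff.1 (by simp at hlen; simpa using hlen)
      have hf : (List.filter (fun e => e.1 != 239) [e]) = [e] := by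
        by_cases h : e.1 = 239
        · simp [h] at hc
        · simp [h]
      rw [hf] at hc
      exact LinearMap.congr_fun (R.comm1 r (hm r hr) s (hm s hs) k (hm k hk) c h1 h2
        (by rw [commTerms_E8, he]; exact hc) t u) x
  scale h hh r hr u t := by
    obtain ⟨j, rfl⟩ := mem_phi hr
    exact (R.next linkT nilT ψ).scale h hh _ (List.mem_ofFn.2 ⟨j, rfl⟩) u t
  H_inv h hh u := (R.next linkT nilT ψ).H_inv h hh u

theorem trace_fixedRep {r : ℕ} (hr : r ∈ phiB) (t : F) :
    LinearMap.trace ℂ _ ((fixedRep R ψ).T r t) = LinearMap.trace ℂ W (R.T r t * eT R ψ) := by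
  classical
  show LinearMap.trace ℂ _ ((if h : ∀ t, R.T r t * eT R ψ = eT R ψ * R.T r t then
    restrictChar (eT R ψ) (R.T r) h else 1 : AddChar F _) t) = _
  rw [dif_pos (commute_eT R hr)]
  exact trace_restrictChar (eT R ψ) (pr_idem _ _ _) _ _ t

end CfsgLib.EEightDegree
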