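import Cfsg.Agent.RootWeight.Chain
import Cfsg.Agent.Chevalley.CommData
import Cfsg.Agent.Chevalley.CommChecks
import Cfsg.Prelude.Def_ChevE8

/-!
# Fast checks of commutator tables of `E₈`

The chains of `E₈` have length one, so the commutator terms are the entries of the chain trie.
-/

set_option autoImplicit false
set_option maxRecDepth 100000

namespace CfsgLib.EEightDegree

open Cfsg.Lie CfsgLib.Chevalley CfsgLib.RootWeight

/-- The chain trie of `E₈`. -/
def chains : Trie (ℕ × List (ℕ × ℤ)) := chainTrie chevE8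

/-- The chain of a pair. -/
def ent (r s : ℕ) : List (ℕ × ℤ) :=
  match (chains.get r).find? (fun e => e.1 == s) with
  | none => []
  | some e => e.2

theorem ent_eq (r s : ℕ) : ent r s = chevE8.chainEntry r s := entryT_eq r s

/-- All chains are short and their partners are listed once. -/
def shortAt (r : ℕ) : Bool :=
  (chains.get r).all (fun e => decide (e.2.length ≤ 1)) &&
    ((chains.get r).zip (chains.get r).tail).all fun p => decide (p.1.1 < p.2.1)

theorem short_ok : ∀ r < 240, shortAt r = true := by decide +kernel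

theorem chain_size : chevE8.chain.size = 240 := by decide +kernel

theorem ent_short (r s : ℕ) : (ent r s).length ≤ 1 := by
  rcases lt_or_ge r 240 with hr | hr
  · have h := short_ok r hr
    simp only [shortAt, Bool.and_eq_true, List.all_eq_true, decide_eq_true_eq] at h
    rw [ent]
    rcases he : (chains.get r).find? (fun e => e.1 == s) with _ | e
    · simp only [chains] at he ⊢; rw [he]; simp
    · simp only [chains] at he ⊢; rw [he]; exact h.1 e (List.mem_of_find?_eq_some he)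
  · rw [ent_eq, ChevalleyDatum.chainEntry,
      Array.getD_eq_getD_getElem?, Array.getElem?_eq_none (by rw [chain_size]; exact hr)]
    simp

/-- With short chains the terms are the chain. -/
theorem commTerms_short (D : ChevalleyDatum) (hD : ∀ r s, (D.chainEntry r s).length ≤ 1) (r s : ℕ) :
    D.commTerms r s = (D.chainEntry r s).map fun e => (e.1, e.2, 1, 1) := by
  have h1 := hD r s
  have h2 := hD s r
  simp only [ChevalleyDatum.commTerms, ChevalleyDatum.chainRoot, ChevalleyDatum.chainM]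
  generalize D.chainEntry r s = a at h1 ⊢
  generalize D.chainEntry s r = b at h2 ⊢
  rcases a with _ | ⟨x, _ | ⟨y, a⟩⟩ <;> rcases b with _ | ⟨z, _ | ⟨w, b⟩⟩ <;>
    simp at h1 h2 <;> simp [List.filterMap_cons]

theorem commTerms_E8 (r s : ℕ) :
    chevE8.commTerms r s = (ent r s).map fun e => (e.1, e.2, 1, 1) := by
  rw [ent_eq]
  exact commTerms_short _ (fun r s => by rw [← ent_eq]; exact ent_short r s) r s

/-- The datum with the chains ending at the highest root removed. -/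
def cutDatum : ChevalleyDatum :=
  { chevE8 with
    chain := (chevE8.chain.toList.map fun a =>
      (a.toList.filter fun e => e.2.toList.all fun x => x.1 != 239).toArray).toArray }

/-- The chain of a pair after the cut. -/
def cent (r s : ℕ) : List (ℕ × ℤ) := (ent r s).filter fun e => e.1 != 239

theorem find?_filter_key {β : Type} : ∀ (L : List (ℕ × β)) (keep : ℕ × β → Bool) (s : ℕ),
    (L.map Prod.fst).Nodup →
    (L.filter keep).find? (fun e => decide (e.1 = s)) =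
      (L.find? (fun e => decide (e.1 = s))).filter keep
  | [], _, _, _ => rfl
  | e :: L, keep, s, h => by
    rw [List.map_cons, List.nodup_cons] at h
    have ih := find?_filter_key L keep s h.2
    by_cases he : e.1 = s
    · have hn : ∀ x ∈ L, ¬ x.1 = s := fun x hx hxs =>
        h.1 (List.mem_map.2 ⟨x, hx, hxs.trans he.symm⟩)
      have h0 : (L.filter keep).find? (fun e => decide (e.1 = s)) = none :=
        List.find?_eq_none.2 fun x hx => by simpa using hn x (List.mem_filter.1 hx).1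
      cases hk : keep e <;> simp [List.filter_cons, hk, he, h0, Option.filter]
    · cases hk : keep e <;> simp [List.filter_cons, hk, he, ih, Option.filter]

theorem cut_chain (r s : ℕ) : cutDatum.chainEntry r s = cent r s := by
  rw [cent, ent_eq]
  have hget : (cutDatum.chain.getD r #[]).toList =
      (chevE8.chain.getD r #[]).toList.filter fun e => e.2.toList.all fun x => x.1 != 239 := by
    show ((chevE8.chain.toList.map _).toArray.getD r #[]).toList = _
    rw [Array.getD_eq_getD_getElem?, Array.getD_eq_getD_getElem?]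
    rcases h : chevE8.chain[r]? with _ | a <;> simp [h]
  simp only [ChevalleyDatum.chainEntry, hget]
  rcases lt_or_ge r 240 with hr | hr
  · have h := short_ok r hr
    simp only [shortAt, chains, chainTrie_get, Bool.and_eq_true, List.all_eq_true,
      decide_eq_true_eq, List.mem_map, forall_exists_index, and_imp, forall_apply_eq_imp_iff₂] at h
    have hn : ((chevE8.chain.getD r #[]).toList.map Prod.fst).Nodup := by
      have := (good_of_mem (D := chevE8) (by simp)).chain' (r := r) hr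
      have h' := this.1
      rwa [chainTrie_get, List.map_map] at h'
    rw [find?_filter_key _ _ _ hn]
    rcases he : (chevE8.chain.getD r #[]).toList.find? (fun e => decide (e.1 = s)) with _ | e
    · rw [he]; rfl
    · rw [he]
      have hl := h.1 e (List.mem_of_find?_eq_some he)
      rcases hx : e.2.toList with _ | ⟨x, _ | ⟨y, l⟩⟩
      · simp [Option.filter, hx]
      · cases hb : (x.1 != 239) <;> simp [Option.filter, hx, hb]
      · exact absurd hl (by simp [hx])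
  · simp [Array.getD_eq_getD_getElem?, Array.getElem?_eq_none (show chevE8.chain.size ≤ r by
      rw [chain_size]; exact hr)]

theorem commTerms_cut (r s : ℕ) :
    cutDatum.commTerms r s = (cent r s).map fun e => (e.1, e.2, 1, 1) := by
  rw [← cut_chain]
  exact commTerms_short _ (fun r s => by
    rw [cut_chain]; exact (List.length_filter_le _ _).trans (ent_short r s)) r s

/-- The check of `LinkOk` for one move. -/
def LinkAt (e : ℕ → ℕ → List (ℕ × ℤ)) (n : ℕ) {m K : ℕ} (Y : Fin m → ℕ) (al : Fin K → ℕ)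
    (𝕋 : Tab m K) (k : Fin K) : Prop :=
  ∀ i, Y i ≠ al k ∧ Y i ≠ n - 1 - al k ∧ (into (𝕋.P k) i).length ≤ 1 ∧
    e (al k) (Y i) = (into (𝕋.P k) i).map fun x => (Y x.2.1, x.2.2)

instance (e : ℕ → ℕ → List (ℕ × ℤ)) (n : ℕ) {m K : ℕ} (Y : Fin m → ℕ) (al : Fin K → ℕ)
    (𝕋 : Tab m K) (k : Fin K) : Decidable (LinkAt e n Y al 𝕋 k) :=
  inferInstanceAs (Decidable (∀ _, _))

/-- The check that one coordinate commutes with the others. -/
def AbAt (e : ℕ → ℕ → List (ℕ × ℤ)) (n : ℕ) {m : ℕ} (Y : Fin m → ℕ) (i : Fin m) : Prop :=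
  ∀ j, i ≠ j → e (Y i) (Y j) = [] ∧ Y j ≠ Y i ∧ Y j ≠ n - 1 - Y i

instance (e : ℕ → ℕ → List (ℕ × ℤ)) (n : ℕ) {m : ℕ} (Y : Fin m → ℕ) (i : Fin m) :
    Decidable (AbAt e n Y i) := inferInstanceAs (Decidable (∀ _, _))

theorem link_of {D : ChevalleyDatum} {e : ℕ → ℕ → List (ℕ × ℤ)}
    (he : ∀ r s, D.commTerms r s = (e r s).map fun x => (x.1, x.2, 1, 1)) {Φ : List ℕ} {m K : ℕ}
    {Y : Fin m → ℕ} {al : Fin K → ℕ} {𝕋 : Tab m K} (h1 : ∀ i, Y i ∈ Φ) (h2 : ∀ k, al k ∈ Φ)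
    (h3 : ∀ i, AbAt e D.nroots Y i) (h4 : ∀ k, LinkAt e D.nroots Y al 𝕋 k) :
    LinkOk D Φ Y al 𝕋 := by
  refine ⟨h1, h2, fun i j hij => ?_, fun k i => ?_⟩
  · obtain ⟨a, b, c⟩ := h3 i j hij
    exact ⟨by rw [he, a]; rfl, b, c⟩
  · obtain ⟨a, b, c, d⟩ := h4 k i
    exact ⟨a, b, c, by rw [he, d, List.map_map]; rfl⟩

/-- The check of `SideOk` for one coordinate. -/
def SideAt (e : ℕ → ℕ → List (ℕ × ℤ)) (n : ℕ) {m K : ℕ} (al : Fin K → ℕ) (𝕋 : Tab m K) (s : Fin K)
    (μ : Fin m) : Prop :=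
  ∀ x ∈ 𝕋.nb μ, μ < x.2.1 → al x.1 ≠ al s ∧ al x.1 ≠ n - 1 - al s ∧ e (al s) (al x.1) = []

instance (e : ℕ → ℕ → List (ℕ × ℤ)) (n : ℕ) {m K : ℕ} (al : Fin K → ℕ) (𝕋 : Tab m K) (s : Fin K)
    (μ : Fin m) : Decidable (SideAt e n al 𝕋 s μ) := inferInstanceAs (Decidable (∀ _, _))

theorem side_of {D : ChevalleyDatum} {e : ℕ → ℕ → List (ℕ × ℤ)}
    (he : ∀ r s, D.commTerms r s = (e r s).map fun x => (x.1, x.2, 1, 1)) {m K kM : ℕ}
    {al : Fin K → ℕ} {𝕋 : Tab m K} {s : Fin K} (h1 : 𝕋.MoveOk kM s)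
    (h2 : ∀ μ : Fin m, kM ≤ (μ : ℕ) → SideAt e D.nroots al 𝕋 s μ) : SideOk D al 𝕋 kM s := by
  refine ⟨h1, fun μ hμ x hx hlt => ?_⟩
  obtain ⟨a, b, c⟩ := h2 μ hμ x hx hlt
  exact ⟨a, b, by rw [he, c]; rfl⟩

/-- The check of `Tab.Ok` for the neighbours of one coordinate. -/
def NbAt {m K : ℕ} (𝕋 : Tab m K) (d : ℕ) (μ : Fin m) : Prop :=
  Clean 𝕋.P μ (𝕋.nb μ) ∧ (𝕋.nb μ).length = d ∧ 𝕋.nb μ ≠ [] ∧
    ∀ e ∈ 𝕋.nb μ, outOf (𝕋.P e.1) μ = [(e.2.1, μ, e.2.2)] ∧ μ ≠ e.2.1 ∧ μ ∈ 𝕋.T e.2.1 ∧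
      (μ < e.2.1 → ∀ pr ∈ 𝕋.P e.1, pr.1 < μ → pr.2.1 < μ)

instance {m K : ℕ} (𝕋 : Tab m K) (d : ℕ) (μ : Fin m) : Decidable (NbAt 𝕋 d μ) := by
  unfold NbAt; infer_instance

/-- An entry encoded by a number. -/
def tri (a b : ℕ) [NeZero a] [NeZero b] (n : ℕ) : Fin a × Fin b × ℤ :=
  (Fin.ofNat a (n / 2 / 256), Fin.ofNat b (n / 2 % 256), bif n % 2 == 0 then 1 else -1)

/-- Two entries encoded by a number, none by `0`. -/
def duo (a b : ℕ) [NeZero a] [NeZero b] (n : ℕ) : List (Fin a × Fin b × ℤ) :=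
  bif n == 0 then [] else [tri a b ((n - 1) / 2 ^ 20), tri a b ((n - 1) % 2 ^ 20)]

/-- The neighbours of a coordinate as a mask. -/
def tmask {m K : ℕ} (𝕋 : Tab m K) (μ : Fin m) : ℕ := maskOf ((𝕋.T μ).map Fin.val)

theorem tmask_iff {m K : ℕ} (𝕋 : Tab m K) (μ ν : Fin m) :
    (tmask 𝕋 μ).testBit ν = true ↔ ν ∈ 𝕋.T μ := by
  rw [tmask, testBit_maskOf, List.mem_map]
  exact ⟨fun ⟨x, hx, e⟩ => Fin.ext e ▸ hx, fun h => ⟨ν, h, rfl⟩⟩

/-- The coordinates two steps from one as a mask. -/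
def tmask2 {m K : ℕ} (𝕋 : Tab m K) (μ : Fin m) : ℕ :=
  maskOf ((𝕋.nb μ).flatMap fun e => (𝕋.T e.2.1).map Fin.val)

theorem tmask2_iff {m K : ℕ} (𝕋 : Tab m K) (μ ν : Fin m) :
    (tmask2 𝕋 μ).testBit ν = true ↔ ∃ e ∈ 𝕋.nb μ, ν ∈ 𝕋.T e.2.1 := by
  rw [tmask2, testBit_maskOf, List.mem_flatMap]
  refine exists_congr fun e => and_congr_right fun _ => ?_
  rw [List.mem_map]
  exact ⟨fun ⟨x, hx, h⟩ => Fin.ext h ▸ hx, fun h => ⟨ν, h, rfl⟩⟩

/-- The check of `Tab.Ok` that everything is three steps from one coordinate. -/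
def reachB {m K : ℕ} (𝕋 : Tab m K) (μ : Fin m) : Bool :=
  let T1 := tmask 𝕋 μ
  let T2 := tmask2 𝕋 μ
  (List.finRange m).all fun ν => (ν == μ) || T1.testBit ν || T2.testBit ν ||
    ((𝕋.nb μ).any fun e => (tmask2 𝕋 e.2.1).testBit ν)

/-- The check of `Tab.Ok` for a spreading pair. -/
def spreadB {m K : ℕ} (𝕋 : Tab m K) (T : ℕ) (μ ν : Fin m) : Bool :=
  let L := 𝕋.bt μ ν
  decide (Clean 𝕋.P ν L) && (L.length == 2) && L.all fun e => !T.testBit e.2.1 &&
    (𝕋.P e.1).all fun pr => (pr.1 != μ) && (!T.testBit pr.1 || T.testBit pr.2.1)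

/-- The check of `Tab.Ok` for a lone pair. -/
def loneB {m K : ℕ} (𝕋 : Tab m K) (T : ℕ) (μ ν : Fin m) : Bool :=
  let L := 𝕋.bt μ ν
  let G := tgts L
  decide (Clean 𝕋.P ν L) && (L.length == 2) &&
    (L.all fun e => !T.testBit e.2.1 && (e.2.1 != μ) && (e.2.1 != ν) &&
      (𝕋.P e.1).all fun pr =>
        !((pr.2.1 == μ) || (pr.2.1 == ν) || G.contains pr.2.1) || G.contains pr.1) &&
    (List.finRange m).all fun ν' => (ν' == μ) || T.testBit ν' || (ν' == ν) || spreadB 𝕋 T μ ν'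

/-- The check of `Tab.Ok` for the spreading moves from one coordinate. -/
def sprB {m K : ℕ} (𝕋 : Tab m K) (μ : Fin m) : Bool :=
  let T := tmask 𝕋 μ
  (List.finRange m).all fun ν => (ν == μ) || T.testBit ν || spreadB 𝕋 T μ ν || loneB 𝕋 T μ ν

theorem reach_of {m K : ℕ} {𝕋 : Tab m K} {μ : Fin m} (h : reachB 𝕋 μ = true) (ν : Fin m) :
    ν = μ ∨ ν ∈ 𝕋.T μ ∨ ∃ e ∈ 𝕋.nb μ, ν ∈ 𝕋.T e.2.1 ∨ ∃ e' ∈ 𝕋.nb e.2.1, ν ∈ 𝕋.T e'.2.1 := by
  have h' := List.all_eq_true.1 h ν (List.mem_finRange ν)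
  simp only [Bool.or_eq_true, beq_iff_eq, List.any_eq_true, tmask_iff, tmask2_iff] at h'
  rcases h' with ((h1 | h1) | ⟨e, he, h1⟩) | ⟨e, he, h1⟩
  · exact Or.inl h1
  · exact Or.inr (Or.inl h1)
  · exact Or.inr (Or.inr ⟨e, he, Or.inl h1⟩)
  · exact Or.inr (Or.inr ⟨e, he, Or.inr h1⟩)

theorem spread_of {m K : ℕ} {𝕋 : Tab m K} {μ ν : Fin m}
    (h : spreadB 𝕋 (tmask 𝕋 μ) μ ν = true) : 𝕋.Spread μ ν := by
  simp only [spreadB, Bool.and_eq_true, decide_eq_true_eq, beq_iff_eq, List.all_eq_true,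
    Bool.not_eq_true', bne_iff_ne, Bool.or_eq_true] at h
  obtain ⟨⟨h1, h2⟩, h3⟩ := h
  refine ⟨h1, h2, fun e he => ⟨?_, fun hm => ?_, fun e' he' pr hpr => ?_⟩⟩
  · refine List.eq_nil_iff_forall_not_mem.2 fun pr hpr => ?_
    obtain ⟨hp1, hp2⟩ := mem_into.1 hpr
    exact ((h3 e he).2 pr hp1).1 hp2
  · have h4 := (h3 e he).1
    rw [(tmask_iff 𝕋 μ e.2.1).2 hm] at h4
    exact Bool.noConfusion h4
  · obtain ⟨hp1, hp2⟩ := mem_into.1 hpr
    rcases ((h3 e he).2 pr hp1).2 with h4 | h4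
    · rw [hp2, (tmask_iff 𝕋 μ e'.2.1).2 (List.mem_map.2 ⟨e', he', rfl⟩)] at h4
      exact Bool.noConfusion h4
    · exact (tmask_iff 𝕋 μ _).1 h4

theorem spr_of {m K : ℕ} {𝕋 : Tab m K} {μ : Fin m} (h : sprB 𝕋 μ = true) (ν : Fin m) (h1 : ν ≠ μ)
    (h2 : ν ∉ 𝕋.T μ) : 𝕋.Spread μ ν ∨ 𝕋.Lone μ ν := by
  have h' := List.all_eq_true.1 h ν (List.mem_finRange ν)
  simp only [Bool.or_eq_true, beq_iff_eq, h1, tmask_iff, h2, false_or] at h'
  rcases h' with h' | h'
  · exact Or.inl (spread_of h')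
  refine Or.inr ?_
  simp only [loneB, Bool.and_eq_true, decide_eq_true_eq, beq_iff_eq, List.all_eq_true,
    Bool.not_eq_true', bne_iff_ne, Bool.or_eq_true, List.contains_iff_mem, Bool.or_eq_false_iff,
    beq_eq_false_iff_ne, tmask_iff] at h'
  obtain ⟨⟨⟨a, b⟩, c⟩, d⟩ := h'
  refine ⟨a, b, fun e he => ⟨?_, (c e he).1.1.2, (c e he).1.2, fun pr hp hm => ?_⟩, fun ν' n1 n2 n3 => ?_⟩
  · intro hm
    have := (c e he).1.1.1
    rw [(tmask_iff 𝕋 μ e.2.1).2 hm] at this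
    exact Bool.noConfusion this
  · rcases (c e he).2 pr hp with h4 | h4
    · simp only [List.mem_cons] at hm
      rcases hm with hm | hm | hm
      · exact absurd hm h4.1.1
      · exact absurd hm h4.1.2
      · rw [List.contains_iff_mem.2 hm] at h4
        exact Bool.noConfusion h4.2
    · exact h4
  · rcases d ν' (List.mem_finRange ν') with ((h4 | h4) | h4) | h4
    · exact absurd h4 n1
    · exact absurd h4 n2
    · exact absurd h4 n3
    · exact spread_of h4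

theorem ok_of {m K : ℕ} {𝕋 : Tab m K} {d : ℕ} (h1 : ∀ k, Nil2 (𝕋.P k)) (h2 : ∀ μ, NbAt 𝕋 d μ)
    (h3 : ∀ μ, reachB 𝕋 μ = true) (h4 : ∀ μ, sprB 𝕋 μ = true) : 𝕋.Ok d := ⟨h1, h2, fun μ => reach_of (h3 μ), fun μ => spr_of (h4 μ)⟩

end CfsgLib.EEightDegree
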