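import Cfsg.Agent.EEightDegree.TablesA
import Cfsg.Agent.RootWeight.Top

/-!
# The centre of the radical of the parabolic of type `E₇`

The weights not vanishing on the highest root all have the same multiplicity; this gives the trace
defects of root elements on the space fixed by the highest root group.
-/

set_option autoImplicit false
set_option linter.unusedSectionVars false
set_option maxRecDepth 100000

namespace CfsgLib.EEightDegree

open Module Cfsg.Lie CfsgLib.Chevalley CfsgLib.RootWeight CfsgLib.RepBounds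

variable {F : Type*} [Field F] [Fintype F] {W : Type*} [AddCommGroup W] [Module ℂ W]
  [FiniteDimensional ℂ W] (R : RRep chevE8 F W (List.range chevE8.nroots)) {ψ : AddChar F ℂ}

/-- The weights seen by the highest root with the half of the radical. -/
noncomputable def muA (ψ : AddChar F ℂ) (w : Fin 29 → F) : ℕ := mu ψ (R.P linkA) w

/-- The common multiplicity of the weights not vanishing on the highest root. -/
noncomputable def mA (ψ : AddChar F ℂ) : ℕ := muA R ψ (Pi.single 0 1)

theorem YA_zero : YA 0 = 239 := by decide +kernel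

theorem mem_half {i : Fin 29} (hi : i ≠ 0) : ∃ e ∈ tabA.nb 0, e.2.1 = i := by
  have h : i ∈ tgts (tabA.nb 0) := by
    rw [cleanA.2, List.mem_ofFn]; exact ⟨i.pred hi, Fin.succ_pred i hi⟩
  exact List.mem_map.1 h

theorem exists_base {w : Fin 29 → F} (h0 : w 0 ≠ 0) :
    ∃ t, fl tabA.P (tabA.nb 0) t (Pi.single 0 (w 0)) = w ∧ ∀ i, w i = 0 → t i = 0 := by
  classical
  let t : Fin 29 → F := fun i => if he : ∃ e ∈ tabA.nb 0, e.2.1 = i then
    w i / ((he.choose.2.2 : F) * w 0) else 0
  refine ⟨t, funext fun i => ?_, fun i hi => ?_⟩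
  · by_cases hi : i = 0
    · subst hi; rw [cleanA.1.fl_src, Pi.single_eq_same]
    · have he := mem_half hi
      obtain ⟨hc1, hc2⟩ := he.choose_spec
      have hcne : (he.choose.2.2 : F) ≠ 0 := cleanA.1.cast_ne_zero hc1
      conv_lhs => rw [← hc2, cleanA.1.fl_tgt _ _ hc1, hc2, Pi.single_eq_of_ne hi, Pi.single_eq_same,
        zero_add]
      simp only [t]
      rw [dif_pos he, div_mul_cancel₀ _ (mul_ne_zero hcne h0)]
  · show (if he : ∃ e ∈ tabA.nb 0, e.2.1 = i then w i / ((he.choose.2.2 : F) * w 0) else 0) = 0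
    split_ifs <;> simp [hi]

theorem H_trace {m K : ℕ} {Φ : List ℕ} {D : ChevalleyDatum} {Y : Fin m → ℕ} {al : Fin K → ℕ}
    {𝕋 : Tab m K} (S : RRep D F W Φ) (L : LinkOk D Φ Y al 𝕋) {h : ℕ} (hh : h < D.nroots) (u : Fˣ)
    (v : Fin m → F) :
    LinearMap.trace ℂ W (S.P L (scaleEquiv (fun i => u ^ D.pairing h (Y i)) v)) =
      LinearMap.trace ℂ W (S.P L v) := by
  have h1 := S.H_inv h hh u⁻¹
  rw [inv_inv] at h1
  conv_lhs => rw [← mul_one (S.P L _), ← S.H_inv h hh u, ← mul_assoc, ← S.H_mul_P L hh,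
    LinearMap.trace_mul_comm, ← mul_assoc, h1, one_mul]

theorem pairing_A : chevE8.pairing 120 (YA 0) = 1 := by decide +kernel

theorem muA_eq {w : Fin 29 → F} (h0 : w 0 ≠ 0) : muA R ψ w = mA R ψ := by
  classical
  obtain ⟨t, ht, -⟩ := exists_base h0
  have h1 : muA R ψ w = muA R ψ (Pi.single 0 (w 0)) := by
    conv_lhs => rw [← ht]
    exact (inv_of_mu (R.rel linkA nilA) fun n => n = mu ψ (R.P linkA) (Pi.single 0 (w 0))).fl
      (tabA.nb 0) t (Pi.single 0 (w 0)) rfl
  rw [h1]
  set u : Fˣ := Units.mk0 (w 0) h0 with hu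
  set σ := scaleEquiv (F := F) (fun i => u ^ chevE8.pairing 120 (YA i)) with hσ
  have h2 := mult_comp (R.P linkA) σ (fun v => H_trace R linkA (by decide +kernel) u v)
    (chi ψ (Pi.single 0 1))
  rw [show (chi ψ (Pi.single 0 1)).compAddMonoidHom σ.toAddMonoidHom = chi ψ (Pi.single 0 (w 0)) from ?_] at h2
  · exact h2
  refine DFunLike.ext _ _ fun v => ?_
  rw [AddChar.compAddMonoidHom_apply, chi_apply, chi_apply]
  congr 1
  refine Finset.sum_congr rfl fun i _ => ?_
  by_cases hi : i = 0
  · subst hi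
    show ((u ^ chevE8.pairing 120 (YA 0) : Fˣ) : F) * v 0 * _ = _
    rw [pairing_A, zpow_one, Pi.single_eq_same, Pi.single_eq_same, hu, Units.val_mk0]; ring
  · rw [Pi.single_eq_of_ne hi, Pi.single_eq_of_ne hi, mul_zero, mul_zero]

/-- On a line it fixes, a commutator of two roots fixing it is trivial. -/
theorem commutator_fix {Y : Fin 29 → ℕ} {K : ℕ} {al : Fin K → ℕ} {𝕋 : Tab 29 K}
    (S : RRep chevE8 F W (List.range chevE8.nroots))
    (L : LinkOk chevE8 (List.range chevE8.nroots) Y al 𝕋) (h2 : ∀ k, Nil2 (𝕋.P k))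
    {g h s : Fin K} {μ : Fin 29} {c : ℤ} {x : F}
    (g1 : outOf (𝕋.P g) μ = []) (g2 : outOf (𝕋.P h) μ = []) (n1 : al h ≠ al g)
    (n2 : al h ≠ opp chevE8 (al g)) (hct : chevE8.commTerms (al g) (al h) = [(al s, c, 1, 1)])
    (hc : c * c = 1) (hm : mu ψ (S.P L) (Pi.single μ x) = 1) (a : F) :
    S.T (al s) a * pr ψ (S.P L) (Pi.single μ x) = pr ψ (S.P L) (Pi.single μ x) := by
  set e := pr ψ (S.P L) (Pi.single μ x) with he
  have hc' : (c : F) * c = 1 := by exact_mod_cast congrArg (Int.cast : ℤ → F) hc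
  have hfix : ∀ {k : Fin K}, outOf (𝕋.P k) μ = [] → ∀ b, S.T (al k) b * e = e * S.T (al k) b :=
    fun hk b => by rw [he, T_mul_pr (S.rel L h2) _ b, act_single_nil hk]
  obtain ⟨y, hy⟩ := exists_scalar (e := e) hm (hfix g1 (-1))
  obtain ⟨z, hz⟩ := exists_scalar (e := e) hm (hfix g2 ((c : F) * a))
  have h3 := S.comm1 _ (L.2.1 g) _ (L.2.1 h) _ (L.2.1 s) c n1 n2 hct (-1) ((c : F) * a)
  rw [show (c : F) * - -1 * ((c : F) * a) = ((c : F) * c) * a by ring, hc', one_mul] at h3
  have h4 : S.T (al h) ((c : F) * a) * S.T (al g) (-1) * e =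
      S.T (al g) (-1) * S.T (al h) ((c : F) * a) * e := by
    rw [mul_assoc, hy, mul_smul_comm, hz, mul_assoc, hz, mul_smul_comm, hy, smul_comm]
  rw [h3] at h4
  have hinv : ∀ (r : ℕ) (t : F), S.T r (-t) * S.T r t = 1 := fun r t => by
    rw [← AddChar.map_add_eq_mul, neg_add_cancel, AddChar.map_zero_eq_one]
  have h5 := congrArg (fun Z => S.T (al h) (-((c : F) * a)) * (S.T (al g) (- -1) * Z)) h4
  simp only [← mul_assoc] at h5
  rw [mul_assoc (S.T (al h) _) (S.T (al g) _) (S.T (al g) _), hinv, mul_one, hinv, one_mul,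
    one_mul] at h5
  exact h5

/-- The entry into the target of a move with distinct targets. -/
theorem into_eq_single {p : Pairs 29} {e : Fin 29 × Fin 29 × ℤ} (hn : (p.map fun y => y.1).Nodup)
    (he : e ∈ p) : into p e.1 = [(e.1, e.2.1, e.2.2)] := by
  induction p with
  | nil => simp at he
  | cons y p ih =>
    rw [List.map_cons, List.nodup_cons] at hn
    rcases List.mem_cons.1 he with rfl | hy'
    · have : ∀ z ∈ p, ¬ z.1 = e.1 := fun z hz hz' => hn.1 (List.mem_map.2 ⟨z, hz, hz'⟩)
      simp only [into, List.filter_cons, decide_true, if_true, List.cons.injEq, true_and,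
        List.filter_eq_nil_iff, decide_eq_true_eq]
      exact this
    · have hne : ¬ y.1 = e.1 := fun hz => hn.1 (List.mem_map.2 ⟨e, hy', hz.symm⟩)
      simpa [into, List.filter_cons, hne] using ih hn.2 hy'

open Classical in
/-- The vectors not vanishing on the highest root and vanishing on a set. -/
noncomputable def offSet (F : Type*) [Field F] [Fintype F] (S : Finset (Fin 29)) : Finset (Fin 29 → F) :=
  Fintype.piFinset fun i => if i = 0 then Finset.univ.erase 0 else if i ∈ S then {0} else Finset.univ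

theorem mem_offSet {S : Finset (Fin 29)} (hS : (0 : Fin 29) ∉ S) {w : Fin 29 → F} :
    w ∈ offSet F S ↔ w 0 ≠ 0 ∧ ∀ i ∈ S, w i = 0 := by
  simp only [offSet, Fintype.mem_piFinset]
  constructor
  · refine fun h => ⟨by simpa using h 0, fun i hi => ?_⟩
    have := h i
    rw [if_neg (by rintro rfl; exact hS hi), if_pos hi] at this
    simpa using this
  · rintro ⟨h1, h2⟩ i
    split_ifs with a b
    · subst a; simpa using h1
    · simpa using h2 i b
    · exact Finset.mem_univ _

theorem card_pi_aux {n : ℕ} [NeZero n] [DecidableEq F] (S : Finset (Fin n)) :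
    (Fintype.piFinset fun i : Fin n => if i = 0 then (Finset.univ : Finset F).erase 0 else
        if i ∈ S then {0} else Finset.univ).card =
      (Fintype.card F - 1) * Fintype.card F ^ (Finset.univ.filter fun i : Fin n => i ≠ 0 ∧ i ∉ S).card := by
  rw [Fintype.card_piFinset, ← Finset.mul_prod_erase _ _ (Finset.mem_univ (0 : Fin n)),
    if_pos rfl, Finset.card_erase_of_mem (Finset.mem_univ _), Finset.card_univ]
  congr 1
  rw [← Finset.prod_const, Finset.prod_filter, ← Finset.prod_erase (a := (0 : Fin n))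
    (f := fun i => if i ≠ 0 ∧ i ∉ S then Fintype.card F else 1) Finset.univ (by simp)]
  refine Finset.prod_congr rfl fun i hi => ?_
  have h0 := (Finset.mem_erase.1 hi).1
  by_cases hs : i ∈ S <;> simp [h0, hs]

theorem card_offSet (S : Finset (Fin 29)) :
    (offSet F S).card =
      (Fintype.card F - 1) * Fintype.card F ^ (Finset.univ.filter fun i : Fin 29 => i ≠ 0 ∧ i ∉ S).card := by
  classical
  convert card_pi_aux (F := F) S using 2
  rfl

theorem card_off : (offSet F ∅).card = (Fintype.card F - 1) * Fintype.card F ^ 28 := by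
  rw [card_offSet, show (Finset.univ.filter fun i : Fin 29 => i ≠ 0 ∧ i ∉ (∅ : Finset (Fin 29))).card = 28
    by decide +kernel]

theorem mem_off {w : Fin 29 → F} : w ∈ offSet F ∅ ↔ w 0 ≠ 0 := by
  rw [mem_offSet (Finset.notMem_empty _)]; simp

theorem eq_off [DecidableEq F] :
    (Finset.univ.filter fun w : Fin 29 → F => w 0 ≠ 0) = offSet F ∅ := by
  ext w; simp [mem_off]

/-- The projection to the fixed space of the highest root group. -/
noncomputable def eT (ψ : AddChar F ℂ) : End ℂ W := pr ψ (R.P linkT) 0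

variable (hψ : ψ.IsPrimitive)
include hψ

/-- A sum over vectors is unchanged by a translation, so a character non-trivial there sums to zero. -/
theorem sum_shift_zero (S : Finset (Fin 29 → F)) (j : Fin 29) {s : F} (hs : s ≠ 0)
    (hS : ∀ (w : Fin 29 → F) (a : F), w ∈ S → w + Pi.single j a ∈ S) :
    ∑ w ∈ S, ψ (s * w j) = 0 := by
  classical
  obtain ⟨a, ha⟩ : ∃ a, ψ (s * a) ≠ 1 := by
    by_contra h
    push Not at h
    exact hψ hs (DFunLike.ext _ _ fun x => by rw [AddChar.mulShift_apply, h, AddChar.one_apply])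
  have h1 : ∑ w ∈ S, ψ (s * ((w + Pi.single j a : Fin 29 → F) j)) = ∑ w ∈ S, ψ (s * w j) :=
    Finset.sum_nbij' (fun w => w + Pi.single j a) (fun w => w - Pi.single j a)
      (fun w hw => hS w a hw) (fun w hw => by
        rw [sub_eq_add_neg, ← Pi.single_neg]; exact hS w (-a) hw)
      (fun w _ => add_sub_cancel_right _ _) (fun w _ => sub_add_cancel _ _) (fun w _ => rfl)
  simp only [Pi.add_apply, Pi.single_eq_same, mul_add, AddChar.map_add_eq_mul, ← Finset.sum_mul] at h1
  by_contra h0
  exact ha (mul_left_cancel₀ h0 (h1.trans (mul_one _).symm))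

theorem trace_eT (X : End ℂ W) :
    LinearMap.trace ℂ W (X * eT R ψ) = LinearMap.trace ℂ W X -
      ∑ w ∈ offSet F ∅, LinearMap.trace ℂ W (X * pr ψ (R.P linkA) w) := by
  classical
  set f : (Fin 29 → F) → ℂ := fun w => LinearMap.trace ℂ W (X * pr ψ (R.P linkA) w) with hf
  have htot : LinearMap.trace ℂ W X = ∑ w, f w := by
    conv_lhs => rw [← mul_one X, ← sum_pr (P := R.P linkA) hψ, Finset.mul_sum, map_sum]
  have hT : ∀ t : F, LinearMap.trace ℂ W (X * R.T 239 t) = ∑ w, ψ (t * w 0) * f w := fun t => by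
    rw [← YA_zero, ← R.P_single linkA 0 t, ← mul_one (R.P linkA (Pi.single 0 t)),
      ← sum_pr (P := R.P linkA) hψ, Finset.mul_sum, Finset.mul_sum, map_sum]
    refine Finset.sum_congr rfl fun w _ => ?_
    rw [pr, map_mul_proj, chi_single, mul_smul_comm, map_smul, smul_eq_mul]; rfl
  have hP : ∀ v : Fin 1 → F, R.P linkT v = R.T 239 (v 0) := fun v => by
    have e : v = Pi.single 0 (v 0) := by
      funext i; rw [Subsingleton.elim i 0, Pi.single_eq_same]
    conv_lhs => rw [e]
    exact R.P_single linkT 0 (v 0)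
  have hsum : ∀ c : F, ∑ t : F, ψ (t * c) = if c = 0 then (Fintype.card F : ℂ) else 0 := fun c => by
    split_ifs with hc
    · subst hc; simp
    · have := AddChar.sum_eq_zero_of_ne_one (hψ hc)
      simpa [AddChar.mulShift_apply, mul_comm] using this
  have h1 : LinearMap.trace ℂ W (X * eT R ψ) = ∑ w, (if w 0 = 0 then f w else 0) := by
    rw [eT, pr, proj, mul_smul_comm, map_smul, smul_eq_mul, Finset.mul_sum, map_sum]
    simp only [chi_zero, AddChar.zero_apply, one_smul, hP]
    rw [Fintype.sum_equiv (Equiv.funUnique (Fin 1) F) _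
      (fun t => LinearMap.trace ℂ W (X * R.T 239 t)) (fun v => by simp)]
    simp only [hT]
    rw [Finset.sum_comm, Finset.mul_sum, Fintype.card_fun, Fintype.card_fin, pow_one]
    refine Finset.sum_congr rfl fun w _ => ?_
    rw [← Finset.sum_mul, hsum]
    split_ifs with h
    · rw [← mul_assoc, inv_mul_cancel₀ (Nat.cast_ne_zero.2 Fintype.card_ne_zero), one_mul]
    · rw [zero_mul, mul_zero]
  rw [h1, htot, ← eq_off, Finset.sum_filter, ← Finset.sum_sub_distrib]
  exact Finset.sum_congr rfl fun w _ => by split_ifs <;> simp_all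

theorem finrank_fixed :
    (finrank ℂ (LinearMap.range (eT R ψ)) : ℂ) + mA R ψ * ((offSet F ∅).card : ℂ) = finrank ℂ W := by
  classical
  have h1 := trace_eT R hψ 1
  rw [one_mul, LinearMap.trace_one, eT, rnk_trace (pr_idem _ _ _)] at h1
  have h2 : ∀ w ∈ offSet F ∅, LinearMap.trace ℂ W (1 * pr ψ (R.P linkA) w) = (mA R ψ : ℂ) := fun w hw => by
    rw [one_mul, rnk_trace (pr_idem _ _ _), rnk_pr, ← muA_eq R (mem_off.1 hw)]; rfl
  rw [Finset.sum_congr rfl h2, Finset.sum_const, nsmul_eq_mul] at h1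
  rw [show (finrank ℂ (LinearMap.range (eT R ψ)) : ℂ) = (rnk (eT R ψ) : ℂ) from rfl, eT, h1]
  ring

theorem finrank_split :
    finrank ℂ (LinearMap.range (eT R ψ)) +
      mA R ψ * ((Fintype.card F - 1) * Fintype.card F ^ 28) = finrank ℂ W := by
  have h := finrank_fixed R hψ
  rw [← card_off (F := F)]
  exact_mod_cast h

/-- The trace defect of the highest root. -/
theorem defect_top {t : F} (ht : t ≠ 0) :
    (finrank ℂ W : ℂ) - LinearMap.trace ℂ W (R.T 239 t) =
      mA R ψ * (Fintype.card F : ℂ) ^ 29 := by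
  classical
  have h1 : (finrank ℂ W : ℂ) - LinearMap.trace ℂ W (R.T 239 t) =
      ∑ w, (muA R ψ w : ℂ) * (1 - ψ (t * w 0)) := by
    rw [← YA_zero, ← R.P_single linkA 0 t, trace_P hψ, ← sum_mu (P := R.P linkA) hψ, Nat.cast_sum,
      ← Finset.sum_sub_distrib]
    exact Finset.sum_congr rfl fun w _ => by rw [chi_single, muA]; ring
  have h2 : ∑ w : Fin 29 → F, (muA R ψ w : ℂ) * (1 - ψ (t * w 0)) =
      ∑ w : Fin 29 → F, (mA R ψ : ℂ) * (1 - ψ (t * w 0)) := by
    refine Finset.sum_congr rfl fun w _ => ?_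
    by_cases hw : w 0 = 0
    · simp [hw]
    · rw [muA_eq R hw]
  rw [h1, h2, ← Finset.mul_sum, Finset.sum_sub_distrib,
    sum_shift_zero hψ (Finset.univ : Finset (Fin 29 → F)) 0 ht fun w a _ => Finset.mem_univ _, sub_zero, Finset.sum_const,
    Finset.card_univ, Fintype.card_fun, Fintype.card_fin, nsmul_eq_mul, mul_one, Nat.cast_pow]

/-- All root elements have the same trace defect. -/
theorem defect_all {r : ℕ} (hr : r < 240) {t : F} (ht : t ≠ 0) :
    (finrank ℂ W : ℂ) - LinearMap.trace ℂ W (R.T r t) = mA R ψ * (Fintype.card F : ℂ) ^ 29 := by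
  induction hd : 240 - r using Nat.strong_induction_on generalizing r t with
  | _ d ih =>
    rcases eq_or_ne r 239 with rfl | hne
    · exact defect_top R hψ ht
    obtain ⟨hlt, hμ, ha, hc, hc', h1, h2, h3, h4, h5⟩ := upOk ⟨r, by omega⟩
    set u := up ⟨r, by omega⟩
    have hm : ∀ x, x < 240 → x ∈ List.range chevE8.nroots := fun x hx =>
      List.mem_range.2 (hx.trans_le (le_of_eq (by decide +kernel)))
    have ho : ∀ x, opp chevE8 x = 239 - x := fun x => by
      rw [opp, show chevE8.nroots = 240 by decide +kernel]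
    have hcF : ((u.2.2.1 : ℤ) : F) ≠ 0 := fun h0 => by
      have := congrArg (Int.cast : ℤ → F) hc
      rw [Int.cast_mul, h0, mul_zero, Int.cast_one] at this
      exact zero_ne_one this
    have ct : ∀ a b, ent a b = [] → chevE8.commTerms a b = [] := fun a b h => by
      rw [commTerms_E8, h]; rfl
    have := R.trace_adj (α := u.1) (s := r) (μ := u.2.1) (c := u.2.2.1) (c' := u.2.2.2) (hm _ ha)
      (hm _ (by rw [ho]; omega)) (hm _ hr) (hm _ hμ)
      ⟨h1.1, by rw [ho]; exact h1.2.1, by rw [commTerms_E8, h1.2.2]; rfl⟩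
      ⟨by rw [ho]; exact h2.1, by rw [ho, ho]; exact h2.2.1, by rw [ho]; exact ct _ _ h2.2.2⟩
      ⟨by rw [ho]; exact h3.1, by rw [ho, ho]; exact h3.2.1, by rw [ho, commTerms_E8, h3.2.2]; rfl⟩
      ⟨h4.1, by rw [ho]; exact h4.2.1, ct _ _ h4.2.2⟩
      ⟨h5.1, by rw [ho]; exact h5.2.1, ct _ _ h5.2.2⟩ hc hc' t
    rw [this]
    have hlt' : r < u.2.1 := hlt
    exact ih (240 - u.2.1) (by omega) hμ (mul_ne_zero hcF ht) rfl

/-- The trace defect of the half on the fixed space. -/
theorem defect_half {j : Fin 29} (hj : j ≠ 0) {t : F} (ht : t ≠ 0) :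
    (finrank ℂ (LinearMap.range (eT R ψ)) : ℂ) - LinearMap.trace ℂ W (R.T (YA j) t * eT R ψ) =
      mA R ψ * (Fintype.card F : ℂ) ^ 28 := by
  classical
  have hr : YA j < 240 := List.mem_range.1 (memYA j) |>.trans_le (le_of_eq (by decide +kernel))
  have h1 := trace_eT R hψ (R.T (YA j) t)
  have h2 : ∀ w ∈ offSet F ∅, LinearMap.trace ℂ W (R.T (YA j) t * pr ψ (R.P linkA) w) =
      (mA R ψ : ℂ) * ψ (t * w j) := fun w hw => by
    rw [← R.P_single linkA j t, pr, map_mul_proj, chi_single, map_smul, smul_eq_mul, ← pr,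
      rnk_trace (pr_idem _ _ _), rnk_pr, ← muA_eq R (mem_off.1 hw), muA]
    ring
  rw [Finset.sum_congr rfl h2, ← Finset.mul_sum, sum_shift_zero hψ _ j ht (fun w a hw => by
    rw [mem_off] at hw ⊢
    simpa [Pi.single_eq_of_ne (Ne.symm hj)] using hw), mul_zero, sub_zero] at h1
  have h3 := finrank_fixed R hψ
  have h4 := defect_all R hψ hr ht
  rw [card_off, Nat.cast_mul, Nat.cast_sub Fintype.card_pos, Nat.cast_pow, Nat.cast_one] at h3
  rw [h1]
  linear_combination h4 + h3

/-- The trace defect of a root of `E₇` on the fixed space, for multiplicity one. -/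
theorem defect_levi (h1m : mA R ψ = 1) {t : F} (ht : t ≠ 0) :
    (finrank ℂ (LinearMap.range (eT R ψ)) : ℂ) - LinearMap.trace ℂ W (R.T (alA 99) t * eT R ψ) =
      (Fintype.card F : ℂ) ^ 28 + (Fintype.card F : ℂ) ^ 23 - (Fintype.card F : ℂ) ^ 22 := by
  classical
  obtain ⟨hnd, hsrc, hall, h0s, hcard, hout⟩ := moveA
  have hR := R.rel linkA nilA
  set X := R.T (alA 99) t with hX
  have hterm : ∀ w ∈ offSet F ∅, LinearMap.trace ℂ W (X * pr ψ (R.P linkA) w) =
      if ∀ i ∈ srcA, w i = 0 then 1 else 0 := fun w hw => by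
    have hw0 := mem_off.1 hw
    split_ifs with hz
    · obtain ⟨v, hv, hvz⟩ := exists_base hw0
      obtain ⟨U, U', hU, hXU, hp⟩ := exists_conj_point (ψ := ψ) hR 0 v X (tabA.nb 0)
        (fun e he => by
          rcases sideA e he with hs | ⟨n1, n2, hc⟩
          · exact Or.inl (hvz _ (hz _ hs))
          · refine Or.inr fun a => ?_
            exact (R.comm0 _ (memA 99) _ (memA e.1) n1 (by
              rw [opp, show chevE8.nroots = 240 by decide +kernel]; exact n2)
              (by rw [commTerms_E8, hc]; rfl) t a).symm)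
        (Pi.single 0 (w 0))
      rw [hv] at hp
      have he1 : mu ψ (R.P linkA) (Pi.single 0 (w 0)) = 1 := by
        have := muA_eq R (ψ := ψ) (w := Pi.single 0 (w 0)) (by rwa [Pi.single_eq_same])
        rwa [h1m] at this
      have hfix : X * pr ψ (R.P linkA) (Pi.single 0 (w 0)) = pr ψ (R.P linkA) (Pi.single 0 (w 0)) := by
        obtain ⟨g1, g2, n1, n2, hct⟩ := comA
        exact commutator_fix R linkA nilA g1 g2 n1 (by rw [opp, show chevE8.nroots = 240 by decide +kernel]; exact n2) hct (by decide) he1 t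
      have e1 : pr ψ (R.P linkA) w = U * pr ψ (R.P linkA) (Pi.single 0 (w 0)) * U' := by
        rw [← hp, mul_assoc, hU, mul_one]
      have hprod : X * pr ψ (R.P linkA) w = pr ψ (R.P linkA) w := by
        rw [e1, ← mul_assoc, ← mul_assoc, hXU, mul_assoc U, hfix]
      rw [hprod, rnk_trace (pr_idem _ _ _), rnk_pr]
      have := muA_eq R (ψ := ψ) hw0
      rw [muA, h1m] at this
      rw [this, Nat.cast_one]
    · push Not at hz
      obtain ⟨i, hi, hwi⟩ := hz
      obtain ⟨e, he, hei⟩ := hall i hi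
      have hmv : act (tabA.P 99) (-t) w ≠ w := fun heq => by
        have h1 := congrFun heq e.1
        rw [act_of_single (into_eq_single hnd he), hei] at h1
        have hc : (e.2.2 : F) ≠ 0 := fun h0 => by
          have := congrArg (Int.cast : ℤ → F) (hsrc e he).1
          rw [Int.cast_mul, h0, mul_zero, Int.cast_one] at this
          exact zero_ne_one this
        exact mul_ne_zero (neg_ne_zero.2 ht) (mul_ne_zero hc hwi) (add_eq_left.1 h1)
      rw [← pr_idem ψ (R.P linkA) w, ← mul_assoc, LinearMap.trace_mul_comm, hX,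
        T_mul_pr (ψ := ψ) hR, ← mul_assoc, pr_orth hψ (Ne.symm hmv), zero_mul, map_zero]
  have h1 := trace_eT R hψ X
  rw [Finset.sum_congr rfl hterm, Finset.sum_boole,
    show (offSet F ∅).filter (fun w => ∀ i ∈ srcA, w i = 0) = offSet F srcA by
      ext w; simp [mem_off, mem_offSet h0s],
    card_offSet, show (Finset.univ.filter fun i : Fin 29 => i ≠ 0 ∧ i ∉ srcA).card = 22 by
      decide +kernel, Nat.cast_mul, Nat.cast_sub Fintype.card_pos, Nat.cast_pow, Nat.cast_one] at h1
  have hr : alA 99 < 240 := by decide +kernel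
  have h3 := finrank_fixed R hψ
  rw [card_off, h1m, Nat.cast_one, one_mul, Nat.cast_mul, Nat.cast_sub Fintype.card_pos,
    Nat.cast_pow, Nat.cast_one] at h3
  have h4 := defect_all R hψ hr ht
  rw [h1m, Nat.cast_one, one_mul] at h4
  rw [h1]
  linear_combination h4 + h3

end CfsgLib.EEightDegree
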