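import Cfsg.Agent.EEightDegree.Fast
import Cfsg.Agent.EEightDegree.TablesC

/-!
# The tables of the chain in E₆ (generated, checked by the kernel)
-/

set_option autoImplicit false
set_option maxRecDepth 100000
set_option maxHeartbeats 4000000

namespace CfsgLib.EEightDegree

open Cfsg.Lie CfsgLib.Chevalley CfsgLib.RootWeight

/-- Roots of the abelian set, step D0. -/
def YD0 : Fin 16 → ℕ := fun i => ([204, 194, 188, 178, 185, 175, 184, 171, 174, 166, 170, 165, 169, 164, 163, 162] : List (ℕ)).getD i 0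

/-- Roots of the next Levi set, step D0. -/
def alD0 : Fin 40 → ℕ := fun i => ([83, 86, 87, 90, 91, 92, 95, 96, 97, 98, 101, 102, 103, 104, 107, 108, 109, 112, 113, 116, 123, 126, 127, 130, 131, 132, 135, 136, 137, 138, 141, 142, 143, 144, 147, 148, 149, 152, 153, 156] : List (ℕ)).getD i 0

/-- The moves, step D0. -/
def PD0 : List (List ℕ) :=
  ([[24, 538, 1052, 1566],
    [21, 535, 2076, 2590],
    [14, 530, 3100, 4126],
    [16, 1047, 2075, 3614],
    [11, 1042, 3099, 5150],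
    [6, 2066, 3094, 6174],
    [13, 1559, 2587, 3613],
    [8, 1554, 4123, 5149],
    [5, 2578, 4118, 6173],
    [2, 3602, 5142, 6170],
    [528, 1044, 2072, 4638],
    [523, 1039, 3096, 5662],
    [518, 2063, 3093, 6686],
    [1030, 2058, 3088, 7198],
    [524, 1557, 2585, 4636],
    [521, 1550, 4121, 5660],
    [516, 2574, 4116, 6684],
    [1037, 1553, 3608, 4634],
    [1032, 1546, 5144, 5658],
    [2060, 2576, 3604, 4630],
    [3080, 4106, 5134, 5650],
    [2052, 2566, 6164, 6678],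
    [3077, 4103, 6158, 6674],
    [1026, 3594, 5136, 7194],
    [2051, 3590, 6161, 7190],
    [3074, 5127, 6155, 7186],
    [1540, 2568, 4108, 7708],
    [1538, 3593, 5133, 7706],
    [2563, 3589, 6156, 7702],
    [4098, 5124, 6152, 7698],
    [512, 4622, 5652, 6680],
    [1025, 4618, 5648, 7193],
    [2048, 4614, 6673, 7189],
    [3073, 5639, 6667, 7183],
    [1536, 4616, 5644, 7704],
    [2561, 4612, 6669, 7700],
    [4096, 5637, 6665, 7694],
    [3584, 4610, 7180, 7696],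
    [5121, 5635, 7176, 7690],
    [6144, 6658, 7172, 7686]] : List (List ℕ))

/-- The neighbours, step D0. -/
def nbD0 : List (List ℕ) :=
  ([[15362, 15877, 16392, 16909, 17414, 17931, 18448, 18958, 19477, 19992],
    [4608, 11780, 12297, 12812, 13830, 14347, 14864, 18962, 19479, 19994],
    [4097, 8194, 10760, 11277, 13318, 14351, 14868, 17938, 18455, 19996],
    [2560, 6146, 6660, 10762, 11281, 12302, 12821, 16402, 16919, 19998],
    [3584, 7683, 9220, 10252, 13322, 13839, 14872, 17426, 18459, 19484],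
    [2049, 5635, 6664, 9222, 10256, 11790, 12825, 15890, 16923, 19486],
    [3073, 7170, 8709, 9736, 13328, 13845, 14360, 17430, 17947, 18972],
    [1024, 5637, 6153, 7686, 8202, 10260, 11288, 15378, 16925, 18462],
    [1536, 5122, 6668, 8711, 9738, 11796, 12313, 15894, 16411, 18974],
    [1026, 2052, 2568, 3590, 4106, 4622, 10262, 11290, 12828, 14878],
    [513, 5124, 6157, 7175, 8208, 9742, 10776, 15382, 16413, 17950],
    [515, 1541, 2572, 3079, 4112, 4628, 9746, 10778, 12316, 14366],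
    [0, 5128, 5644, 7179, 7697, 8718, 9236, 15386, 15901, 17438],
    [2, 1545, 2061, 3083, 3601, 4632, 8722, 9238, 11804, 13854],
    [4, 520, 1036, 3087, 3605, 4121, 7186, 7702, 8218, 13342],
    [6, 522, 1040, 1550, 2068, 2584, 5138, 5654, 6170, 6684]] : List (List ℕ))

/-- The spreading moves, step D0. -/
def btD0 : List (List ℕ) :=
  ([[0, 0, 0, 0, 0, 0, 0, 0, 0, 10760498203, 0, 10219432475, 0, 9145689111, 7535074839, 5387589143],
    [0, 0, 0, 0, 0, 0, 0, 10758401049, 0, 0, 10215238169, 0, 9141494805, 0, 3236957718, 1625294869],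
    [0, 0, 0, 0, 0, 10754208282, 0, 0, 10211045402, 0, 0, 0, 7527734802, 3232763410, 0, 547357713],
    [0, 0, 0, 0, 10750016025, 0, 10208950297, 0, 0, 0, 0, 0, 5377103373, 1620051982, 545260557, 0],
    [0, 0, 0, 11828998678, 0, 0, 0, 0, 9134157333, 0, 7523541009, 3228569617, 0, 0, 0, 6292497],
    [0, 0, 11824806421, 0, 0, 0, 9132062230, 0, 0, 0, 5372909582, 1615858189, 0, 0, 4195341, 0],
    [0, 0, 0, 11284787215, 0, 9669979663, 0, 8059363339, 0, 3764391947, 0, 0, 0, 0, 0, 6291979],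
    [0, 13434370577, 0, 0, 0, 0, 7518303249, 0, 5370812941, 0, 0, 540019213, 0, 2099214, 0, 0],
    [0, 0, 11282692112, 0, 9667884560, 0, 0, 5910829066, 0, 2151680521, 0, 0, 0, 0, 4194825, 0],
    [17730390033, 0, 0, 0, 0, 0, 3222287377, 0, 1610619405, 0, 537925646, 0, 5645, 0, 0, 0],
    [0, 12894353420, 0, 0, 8056222731, 5908732425, 0, 0, 0, 1075841545, 0, 0, 0, 2098698, 0, 0],
    [17188275724, 0, 0, 0, 3758109707, 2148538889, 0, 1073747978, 0, 0, 0, 0, 5129, 0, 0, 0],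
    [0, 12352239111, 8592045063, 6444554757, 0, 0, 0, 0, 0, 1075841029, 0, 540018182, 0, 0, 0, 0],
    [16648258567, 0, 4296029191, 2684361221, 0, 0, 0, 1073747462, 0, 0, 537924613, 0, 0, 0, 0, 0],
    [16108241927, 4831852039, 0, 2684360707, 0, 2148537860, 0, 0, 1610617859, 0, 0, 0, 0, 0, 0, 0],
    [16108240390, 4831849989, 4296024067, 0, 3758104068, 0, 3222281219, 0, 0, 0, 0, 0, 0, 0, 0, 0]] : List (List ℕ))

/-- The tables, step D0. -/
def tabD0 : Tab 16 40 where
  P k := (PD0.getD k []).map (tri 16 16)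
  nb i := (nbD0.getD i []).map (tri 40 16)
  bt i j := duo 40 16 ((btD0.getD i []).getD j 0)

theorem nilD0 : ∀ k, Nil2 (tabD0.P k) := by decide +kernel

theorem nbOkD0_0 : ∀ i : Fin 16, (i : ℕ) / 64 = 0 → NbAt tabD0 10 i := by
  decide +kernel

theorem nbOkD0 : ∀ i : Fin 16, NbAt tabD0 10 i := fun i => by
  have := i.isLt
  obtain h : (i : ℕ) / 64 = 0 := by omega
  · exact nbOkD0_0 i h

theorem reachOkD0_0 : ∀ i : Fin 16, (i : ℕ) / 64 = 0 → reachB tabD0 i = true := by
  decide +kernel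

theorem reachOkD0 : ∀ i : Fin 16, reachB tabD0 i = true := fun i => by
  have := i.isLt
  obtain h : (i : ℕ) / 64 = 0 := by omega
  · exact reachOkD0_0 i h

theorem sprOkD0_0 : ∀ i : Fin 16, (i : ℕ) / 64 = 0 → sprB tabD0 i = true := by
  decide +kernel

theorem sprOkD0 : ∀ i : Fin 16, sprB tabD0 i = true := fun i => by
  have := i.isLt
  obtain h : (i : ℕ) / 64 = 0 := by omega
  · exact sprOkD0_0 i h

theorem okD0 : tabD0.Ok 10 := ok_of nilD0 nbOkD0 reachOkD0 sprOkD0

theorem memYD0 : ∀ i, YD0 i ∈ (List.ofFn alC) := by decide +kernel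

theorem memD0 : ∀ k, alD0 k ∈ (List.ofFn alC) := by decide +kernel

theorem abD0_0 : ∀ i : Fin 16, (i : ℕ) / 64 = 0 → AbAt ent 240 YD0 i := by
  decide +kernel

theorem abD0 : ∀ i : Fin 16, AbAt ent 240 YD0 i := fun i => by
  have := i.isLt
  obtain h : (i : ℕ) / 64 = 0 := by omega
  · exact abD0_0 i h

theorem lkD0_0 : ∀ i : Fin 40, (i : ℕ) / 128 = 0 → LinkAt ent 240 YD0 alD0 tabD0 i := by
  decide +kernel

theorem lkD0 : ∀ i : Fin 40, LinkAt ent 240 YD0 alD0 tabD0 i := fun i => by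
  have := i.isLt
  obtain h : (i : ℕ) / 128 = 0 := by omega
  · exact lkD0_0 i h

theorem linkD0 : LinkOk chevE8 (List.ofFn alC) YD0 alD0 tabD0 :=
  link_of commTerms_E8 memYD0 memD0 abD0 lkD0

theorem moveD0 : tabD0.MoveOk 4 39 := by decide +kernel

theorem sidesD0 : ∀ μ : Fin 16, 4 ≤ (μ : ℕ) → SideAt ent 240 alD0 tabD0 39 μ := by
  decide +kernel

theorem sideD0 : SideOk chevE8 alD0 tabD0 4 39 := side_of commTerms_E8 moveD0 sidesD0

/-- Commutators fixing the weights, step D0. -/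
def comD0 : Fin 16 → Fin 40 × Fin 40 × ℤ :=
  fun i => ([(0, 0, 0), (0, 0, 0), (0, 0, 0), (0, 0, 0), (22, 37, -1), (22, 37, -1), (21, 38, 1), (21, 38, 1), (21, 38, 1), (21, 38, 1), (22, 37, -1), (22, 37, -1), (21, 38, 1), (21, 38, 1), (21, 38, 1), (21, 38, 1)] : List _).getD i (0, 0, 0)

theorem comD0_ok : ∀ μ : Fin 16, 4 ≤ (μ : ℕ) →
    ComOk chevE8 alD0 tabD0 39 μ (comD0 μ) := by
  decide +kernel

theorem adjD0 : AdjOk chevE8 (List.ofFn alC) YD0 alD0 39
    (162, 3, -1, -1) := by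
  decide +kernel

/-- Roots of the abelian set, step D1. -/
def YD1 : Fin 10 → ℕ := fun i => ([156, 153, 149, 152, 144, 148, 143, 147, 142, 141] : List (ℕ)).getD i 0

/-- Roots of the next Levi set, step D1. -/
def alD1 : Fin 20 → ℕ := fun i => ([101, 102, 103, 104, 107, 108, 109, 112, 113, 116, 123, 126, 127, 130, 131, 132, 135, 136, 137, 138] : List (ℕ)).getD i 0

/-- The moves, step D1. -/
def PD1 : List (List ℕ) :=
  ([[13, 529, 1043],
    [8, 1553, 2579],
    [520, 1548, 3603],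
    [1032, 2572, 3600],
    [11, 527, 2066],
    [4, 1551, 3090],
    [516, 1546, 4114],
    [7, 1038, 2064],
    [2, 2574, 3088],
    [518, 1034, 2060],
    [1538, 2564, 3080],
    [512, 3594, 4108],
    [1537, 3588, 4104],
    [1026, 2566, 4624],
    [1024, 3591, 4620],
    [2561, 3587, 4616],
    [2052, 3082, 4110],
    [2050, 3078, 4623],
    [2048, 4103, 4619],
    [3073, 4099, 4613]] : List (List ℕ))

/-- The neighbours, step D1. -/
def nbD1 : List (List ℕ) :=
  ([[5634, 6151, 7172, 7691, 9224, 9741],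
    [4096, 5126, 6660, 7695, 8712, 9745],
    [2560, 3074, 5130, 6158, 8200, 9747],
    [3585, 4610, 6666, 7183, 8716, 9233],
    [512, 1026, 1540, 5132, 6160, 7698],
    [2049, 3078, 4612, 5646, 8204, 9235],
    [1, 1030, 1546, 4616, 5648, 7186],
    [2051, 2567, 3588, 4106, 8208, 8723],
    [3, 519, 1550, 3592, 4108, 6674],
    [5, 523, 1039, 2056, 2572, 3088]] : List (List ℕ))

/-- The spreading moves, step D1. -/
def btD1 : List (List ℕ) :=
  ([[0, 0, 0, 0, 0, 0, 0, 8606720532, 1625299475, 1089473553],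
    [0, 0, 0, 0, 0, 8602526740, 1621105683, 0, 0, 548407821],
    [0, 0, 0, 9139397650, 0, 0, 1080038929, 0, 544215053, 0],
    [0, 0, 8598332948, 0, 1614814739, 0, 0, 0, 0, 5244937],
    [0, 0, 0, 6989814800, 0, 3227522575, 0, 2691698699, 0, 0],
    [0, 9135203858, 0, 0, 1075845137, 0, 0, 0, 3149321, 0],
    [0, 6983523856, 3223328783, 0, 0, 0, 0, 2150632965, 0, 0],
    [9672074766, 0, 0, 0, 536876045, 0, 1053193, 0, 0, 0],
    [7520394764, 0, 2684359691, 0, 0, 2148536837, 0, 0, 0, 0],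
    [5907683336, 4294972423, 0, 3759149571, 0, 0, 0, 0, 0, 0]] : List (List ℕ))

/-- The tables, step D1. -/
def tabD1 : Tab 10 20 where
  P k := (PD1.getD k []).map (tri 10 10)
  nb i := (nbD1.getD i []).map (tri 20 10)
  bt i j := duo 20 10 ((btD1.getD i []).getD j 0)

theorem nilD1 : ∀ k, Nil2 (tabD1.P k) := by decide +kernel

theorem nbOkD1_0 : ∀ i : Fin 10, (i : ℕ) / 64 = 0 → NbAt tabD1 6 i := by
  decide +kernel

theorem nbOkD1 : ∀ i : Fin 10, NbAt tabD1 6 i := fun i => by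
  have := i.isLt
  obtain h : (i : ℕ) / 64 = 0 := by omega
  · exact nbOkD1_0 i h

theorem reachOkD1_0 : ∀ i : Fin 10, (i : ℕ) / 64 = 0 → reachB tabD1 i = true := by
  decide +kernel

theorem reachOkD1 : ∀ i : Fin 10, reachB tabD1 i = true := fun i => by
  have := i.isLt
  obtain h : (i : ℕ) / 64 = 0 := by omega
  · exact reachOkD1_0 i h

theorem sprOkD1_0 : ∀ i : Fin 10, (i : ℕ) / 64 = 0 → sprB tabD1 i = true := by
  decide +kernel

theorem sprOkD1 : ∀ i : Fin 10, sprB tabD1 i = true := fun i => by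
  have := i.isLt
  obtain h : (i : ℕ) / 64 = 0 := by omega
  · exact sprOkD1_0 i h

theorem okD1 : tabD1.Ok 6 := ok_of nilD1 nbOkD1 reachOkD1 sprOkD1

theorem memYD1 : ∀ i, YD1 i ∈ (List.ofFn alD0) := by decide +kernel

theorem memD1 : ∀ k, alD1 k ∈ (List.ofFn alD0) := by decide +kernel

theorem abD1_0 : ∀ i : Fin 10, (i : ℕ) / 64 = 0 → AbAt ent 240 YD1 i := by
  decide +kernel

theorem abD1 : ∀ i : Fin 10, AbAt ent 240 YD1 i := fun i => by
  have := i.isLt
  obtain h : (i : ℕ) / 64 = 0 := by omega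
  · exact abD1_0 i h

theorem lkD1_0 : ∀ i : Fin 20, (i : ℕ) / 128 = 0 → LinkAt ent 240 YD1 alD1 tabD1 i := by
  decide +kernel

theorem lkD1 : ∀ i : Fin 20, LinkAt ent 240 YD1 alD1 tabD1 i := fun i => by
  have := i.isLt
  obtain h : (i : ℕ) / 128 = 0 := by omega
  · exact lkD1_0 i h

theorem linkD1 : LinkOk chevE8 (List.ofFn alD0) YD1 alD1 tabD1 :=
  link_of commTerms_E8 memYD1 memD1 abD1 lkD1

theorem moveD1 : tabD1.MoveOk 3 19 := by decide +kernel

theorem sidesD1 : ∀ μ : Fin 10, 3 ≤ (μ : ℕ) → SideAt ent 240 alD1 tabD1 19 μ := by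
  decide +kernel

theorem sideD1 : SideOk chevE8 alD1 tabD1 3 19 := side_of commTerms_E8 moveD1 sidesD1

/-- Coroots fixing the weights, step D1. -/
def torD1 : Fin 10 → ℕ := fun i => ([0, 0, 0, 121, 162, 121, 121, 121, 121, 121] : List (ℕ)).getD i 0

theorem torD1_ok : ∀ μ : Fin 10, 3 ≤ (μ : ℕ) →
    TorOk chevE8 YD1 alD1 19 μ (torD1 μ) := by
  decide +kernel

theorem adjD1 : AdjOk chevE8 (List.ofFn alD0) YD1 alD1 19
    (141, 2, 1, 1) := by
  decide +kernel

/-- Roots of the abelian set, step D2. -/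
def YD2 : Fin 4 → ℕ := fun i => ([138, 137, 136, 135] : List (ℕ)).getD i 0

/-- Roots of the next Levi set, step D2. -/
def alD2 : Fin 12 → ℕ := fun i => ([107, 108, 109, 112, 113, 116, 123, 126, 127, 130, 131, 132] : List (ℕ)).getD i 0

/-- The moves, step D2. -/
def PD2 : List (List ℕ) :=
  ([[6],
    [518],
    [1030],
    [4],
    [516],
    [2],
    [512],
    [1026],
    [1024],
    [1540],
    [1538],
    [1536]] : List (List ℕ))

/-- The neighbours, step D2. -/
def nbD2 : List (List ℕ) :=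
  ([[3074, 4100, 5638],
    [2560, 3588, 5126],
    [1536, 2050, 4614],
    [0, 514, 1028]] : List (List ℕ))

/-- The spreading moves, step D2. -/
def btD2 : List (List ℕ) :=
  ([[0, 0, 0, 0],
    [0, 0, 0, 0],
    [0, 0, 0, 0],
    [0, 0, 0, 0]] : List (List ℕ))

/-- The tables, step D2. -/
def tabD2 : Tab 4 12 where
  P k := (PD2.getD k []).map (tri 4 4)
  nb i := (nbD2.getD i []).map (tri 12 4)
  bt i j := duo 12 4 ((btD2.getD i []).getD j 0)

theorem nilD2 : ∀ k, Nil2 (tabD2.P k) := by decide +kernel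

theorem nbOkD2_0 : ∀ i : Fin 4, (i : ℕ) / 64 = 0 → NbAt tabD2 3 i := by
  decide +kernel

theorem nbOkD2 : ∀ i : Fin 4, NbAt tabD2 3 i := fun i => by
  have := i.isLt
  obtain h : (i : ℕ) / 64 = 0 := by omega
  · exact nbOkD2_0 i h

theorem reachOkD2_0 : ∀ i : Fin 4, (i : ℕ) / 64 = 0 → reachB tabD2 i = true := by
  decide +kernel

theorem reachOkD2 : ∀ i : Fin 4, reachB tabD2 i = true := fun i => by
  have := i.isLt
  obtain h : (i : ℕ) / 64 = 0 := by omega
  · exact reachOkD2_0 i h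

theorem sprOkD2_0 : ∀ i : Fin 4, (i : ℕ) / 64 = 0 → sprB tabD2 i = true := by
  decide +kernel

theorem sprOkD2 : ∀ i : Fin 4, sprB tabD2 i = true := fun i => by
  have := i.isLt
  obtain h : (i : ℕ) / 64 = 0 := by omega
  · exact sprOkD2_0 i h

theorem okD2 : tabD2.Ok 3 := ok_of nilD2 nbOkD2 reachOkD2 sprOkD2

theorem memYD2 : ∀ i, YD2 i ∈ (List.ofFn alD1) := by decide +kernel

theorem memD2 : ∀ k, alD2 k ∈ (List.ofFn alD1) := by decide +kernel

theorem abD2_0 : ∀ i : Fin 4, (i : ℕ) / 64 = 0 → AbAt ent 240 YD2 i := by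
  decide +kernel

theorem abD2 : ∀ i : Fin 4, AbAt ent 240 YD2 i := fun i => by
  have := i.isLt
  obtain h : (i : ℕ) / 64 = 0 := by omega
  · exact abD2_0 i h

theorem lkD2_0 : ∀ i : Fin 12, (i : ℕ) / 128 = 0 → LinkAt ent 240 YD2 alD2 tabD2 i := by
  decide +kernel

theorem lkD2 : ∀ i : Fin 12, LinkAt ent 240 YD2 alD2 tabD2 i := fun i => by
  have := i.isLt
  obtain h : (i : ℕ) / 128 = 0 := by omega
  · exact lkD2_0 i h

theorem linkD2 : LinkOk chevE8 (List.ofFn alD1) YD2 alD2 tabD2 :=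
  link_of commTerms_E8 memYD2 memD2 abD2 lkD2

theorem moveD2 : tabD2.MoveOk 1 11 := by decide +kernel

theorem sidesD2 : ∀ μ : Fin 4, 1 ≤ (μ : ℕ) → SideAt ent 240 alD2 tabD2 11 μ := by
  decide +kernel

theorem sideD2 : SideOk chevE8 alD2 tabD2 1 11 := side_of commTerms_E8 moveD2 sidesD2

/-- Coroots fixing the weights, step D2. -/
def torD2 : Fin 4 → ℕ := fun i => ([0, 121, 121, 121] : List (ℕ)).getD i 0

theorem torD2_ok : ∀ μ : Fin 4, 1 ≤ (μ : ℕ) →
    TorOk chevE8 YD2 alD2 11 μ (torD2 μ) := by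
  decide +kernel

theorem adjD2 : AdjOk chevE8 (List.ofFn alD1) YD2 alD2 11
    (135, 0, -1, -1) := by
  decide +kernel

/-- Roots of the abelian set, step D3. -/
def YD3 : Fin 3 → ℕ := fun i => ([132, 131, 130] : List (ℕ)).getD i 0

/-- Roots of the next Levi set, step D3. -/
def alD3 : Fin 6 → ℕ := fun i => ([112, 113, 116, 123, 126, 127] : List (ℕ)).getD i 0

/-- The moves, step D3. -/
def PD3 : List (List ℕ) :=
  ([[4],
    [516],
    [2],
    [512],
    [1026],
    [1024]] : List (List ℕ))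

/-- The neighbours, step D3. -/
def nbD3 : List (List ℕ) :=
  ([[1538, 2564],
    [1024, 2052],
    [0, 514]] : List (List ℕ))

/-- The spreading moves, step D3. -/
def btD3 : List (List ℕ) :=
  ([[0, 0, 0],
    [0, 0, 0],
    [0, 0, 0]] : List (List ℕ))

/-- The tables, step D3. -/
def tabD3 : Tab 3 6 where
  P k := (PD3.getD k []).map (tri 3 3)
  nb i := (nbD3.getD i []).map (tri 6 3)
  bt i j := duo 6 3 ((btD3.getD i []).getD j 0)

theorem nilD3 : ∀ k, Nil2 (tabD3.P k) := by decide +kernel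

theorem nbOkD3_0 : ∀ i : Fin 3, (i : ℕ) / 64 = 0 → NbAt tabD3 2 i := by
  decide +kernel

theorem nbOkD3 : ∀ i : Fin 3, NbAt tabD3 2 i := fun i => by
  have := i.isLt
  obtain h : (i : ℕ) / 64 = 0 := by omega
  · exact nbOkD3_0 i h

theorem reachOkD3_0 : ∀ i : Fin 3, (i : ℕ) / 64 = 0 → reachB tabD3 i = true := by
  decide +kernel

theorem reachOkD3 : ∀ i : Fin 3, reachB tabD3 i = true := fun i => by
  have := i.isLt
  obtain h : (i : ℕ) / 64 = 0 := by omega
  · exact reachOkD3_0 i h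

theorem sprOkD3_0 : ∀ i : Fin 3, (i : ℕ) / 64 = 0 → sprB tabD3 i = true := by
  decide +kernel

theorem sprOkD3 : ∀ i : Fin 3, sprB tabD3 i = true := fun i => by
  have := i.isLt
  obtain h : (i : ℕ) / 64 = 0 := by omega
  · exact sprOkD3_0 i h

theorem okD3 : tabD3.Ok 2 := ok_of nilD3 nbOkD3 reachOkD3 sprOkD3

theorem memYD3 : ∀ i, YD3 i ∈ (List.ofFn alD2) := by decide +kernel

theorem memD3 : ∀ k, alD3 k ∈ (List.ofFn alD2) := by decide +kernel

theorem abD3_0 : ∀ i : Fin 3, (i : ℕ) / 64 = 0 → AbAt ent 240 YD3 i := by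
  decide +kernel

theorem abD3 : ∀ i : Fin 3, AbAt ent 240 YD3 i := fun i => by
  have := i.isLt
  obtain h : (i : ℕ) / 64 = 0 := by omega
  · exact abD3_0 i h

theorem lkD3_0 : ∀ i : Fin 6, (i : ℕ) / 128 = 0 → LinkAt ent 240 YD3 alD3 tabD3 i := by
  decide +kernel

theorem lkD3 : ∀ i : Fin 6, LinkAt ent 240 YD3 alD3 tabD3 i := fun i => by
  have := i.isLt
  obtain h : (i : ℕ) / 128 = 0 := by omega
  · exact lkD3_0 i h

theorem linkD3 : LinkOk chevE8 (List.ofFn alD2) YD3 alD3 tabD3 :=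
  link_of commTerms_E8 memYD3 memD3 abD3 lkD3

theorem moveD3 : tabD3.MoveOk 1 5 := by decide +kernel

theorem sidesD3 : ∀ μ : Fin 3, 1 ≤ (μ : ℕ) → SideAt ent 240 alD3 tabD3 5 μ := by
  decide +kernel

theorem sideD3 : SideOk chevE8 alD3 tabD3 1 5 := side_of commTerms_E8 moveD3 sidesD3

/-- Coroots fixing the weights, step D3. -/
def torD3 : Fin 3 → ℕ := fun i => ([0, 121, 121] : List (ℕ)).getD i 0

theorem torD3_ok : ∀ μ : Fin 3, 1 ≤ (μ : ℕ) →
    TorOk chevE8 YD3 alD3 5 μ (torD3 μ) := by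
  decide +kernel

theorem adjD3 : AdjOk chevE8 (List.ofFn alD2) YD3 alD3 5
    (130, 0, -1, -1) := by
  decide +kernel

/-- Roots of the abelian set, step D4. -/
def YD4 : Fin 2 → ℕ := fun i => ([127, 126] : List (ℕ)).getD i 0

/-- Roots of the next Levi set, step D4. -/
def alD4 : Fin 2 → ℕ := fun i => ([116, 123] : List (ℕ)).getD i 0

/-- The moves, step D4. -/
def PD4 : List (List ℕ) :=
  ([[2],
    [512]] : List (List ℕ))

/-- The neighbours, step D4. -/
def nbD4 : List (List ℕ) :=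
  ([[514],
    [0]] : List (List ℕ))

/-- The spreading moves, step D4. -/
def btD4 : List (List ℕ) :=
  ([[0, 0],
    [0, 0]] : List (List ℕ))

/-- The tables, step D4. -/
def tabD4 : Tab 2 2 where
  P k := (PD4.getD k []).map (tri 2 2)
  nb i := (nbD4.getD i []).map (tri 2 2)
  bt i j := duo 2 2 ((btD4.getD i []).getD j 0)

theorem nilD4 : ∀ k, Nil2 (tabD4.P k) := by decide +kernel

theorem nbOkD4_0 : ∀ i : Fin 2, (i : ℕ) / 64 = 0 → NbAt tabD4 1 i := by
  decide +kernel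

theorem nbOkD4 : ∀ i : Fin 2, NbAt tabD4 1 i := fun i => by
  have := i.isLt
  obtain h : (i : ℕ) / 64 = 0 := by omega
  · exact nbOkD4_0 i h

theorem reachOkD4_0 : ∀ i : Fin 2, (i : ℕ) / 64 = 0 → reachB tabD4 i = true := by
  decide +kernel

theorem reachOkD4 : ∀ i : Fin 2, reachB tabD4 i = true := fun i => by
  have := i.isLt
  obtain h : (i : ℕ) / 64 = 0 := by omega
  · exact reachOkD4_0 i h

theorem sprOkD4_0 : ∀ i : Fin 2, (i : ℕ) / 64 = 0 → sprB tabD4 i = true := by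
  decide +kernel

theorem sprOkD4 : ∀ i : Fin 2, sprB tabD4 i = true := fun i => by
  have := i.isLt
  obtain h : (i : ℕ) / 64 = 0 := by omega
  · exact sprOkD4_0 i h

theorem okD4 : tabD4.Ok 1 := ok_of nilD4 nbOkD4 reachOkD4 sprOkD4

theorem memYD4 : ∀ i, YD4 i ∈ (List.ofFn alD3) := by decide +kernel

theorem memD4 : ∀ k, alD4 k ∈ (List.ofFn alD3) := by decide +kernel

theorem abD4_0 : ∀ i : Fin 2, (i : ℕ) / 64 = 0 → AbAt ent 240 YD4 i := by
  decide +kernel

theorem abD4 : ∀ i : Fin 2, AbAt ent 240 YD4 i := fun i => by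
  have := i.isLt
  obtain h : (i : ℕ) / 64 = 0 := by omega
  · exact abD4_0 i h

theorem lkD4_0 : ∀ i : Fin 2, (i : ℕ) / 128 = 0 → LinkAt ent 240 YD4 alD4 tabD4 i := by
  decide +kernel

theorem lkD4 : ∀ i : Fin 2, LinkAt ent 240 YD4 alD4 tabD4 i := fun i => by
  have := i.isLt
  obtain h : (i : ℕ) / 128 = 0 := by omega
  · exact lkD4_0 i h

theorem linkD4 : LinkOk chevE8 (List.ofFn alD3) YD4 alD4 tabD4 :=
  link_of commTerms_E8 memYD4 memD4 abD4 lkD4

theorem moveD4 : tabD4.MoveOk 1 1 := by decide +kernel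

theorem sidesD4 : ∀ μ : Fin 2, 1 ≤ (μ : ℕ) → SideAt ent 240 alD4 tabD4 1 μ := by
  decide +kernel

theorem sideD4 : SideOk chevE8 alD4 tabD4 1 1 := side_of commTerms_E8 moveD4 sidesD4

/-- Coroots fixing the weights, step D4. -/
def torD4 : Fin 2 → ℕ := fun i => ([0, 121] : List (ℕ)).getD i 0

theorem torD4_ok : ∀ μ : Fin 2, 1 ≤ (μ : ℕ) →
    TorOk chevE8 YD4 alD4 1 μ (torD4 μ) := by
  decide +kernel

theorem adjD4 : AdjOk chevE8 (List.ofFn alD3) YD4 alD4 1
    (126, 0, -1, -1) := by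
  decide +kernel

end CfsgLib.EEightDegree
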