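import Cfsg.Agent.EEightDegree.Cut
import Cfsg.Agent.EEightDegree.TablesD
import Cfsg.Agent.EEightDegree.Arith
import Cfsg.Agent.RootWeight.Descend
import Cfsg.Agent.RepBounds.Restrict
import Cfsg.Agent.RepBounds.FieldChar
import Cfsg.Agent.S1065

/-!
# Every irreducible representation of `E₈(q)` of degree at least two has degree at least
`q (q¹² + 1)(q¹⁰ + 1)(q⁶ + 1)`

The weights on the highest root group give `(q - 1) q²⁸`, the chain of abelian radicals below gives
the rest up to `8`, and the degree divides `|G| q²⁹`.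
-/

set_option autoImplicit false
set_option linter.unusedSectionVars false
set_option maxRecDepth 100000
set_option maxHeartbeats 1000000

namespace CfsgLib.EEightDegree

open Module Cfsg.Lie CfsgLib.Chevalley CfsgLib.RootWeight CfsgLib.RepBounds

variable {F : Type*} [Field F] [Fintype F] {W : Type*} [AddCommGroup W] [Module ℂ W]
  [FiniteDimensional ℂ W] {ψ : AddChar F ℂ}

theorem noTopB : ∀ k, ∀ e ∈ chains.get (alB k), ∀ x ∈ e.2, x.1 ≠ 239 := by decide +kernel

theorem cent_levi {r s : ℕ} (hr : r ∈ List.ofFn alB) : cent r s = ent r s := by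
  obtain ⟨k, rfl⟩ := List.mem_ofFn.1 hr
  rw [cent, List.filter_eq_self]
  intro x hx
  rw [ent] at hx
  rcases he : (chains.get (alB k)).find? (fun e => e.1 == s) with _ | e
  · rw [he] at hx; simp at hx
  · rw [he] at hx
    simpa using noTopB k e (List.mem_of_find?_eq_some he) x hx

/-- The operators of the Levi group of type `E₇` satisfy the relations of `E₈`. -/
noncomputable def uncut (S : RRep cutDatum F W (List.ofFn alB)) : RRep chevE8 F W (List.ofFn alB) where
  T := S.T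
  H := S.H
  comm0 r hr s hs h1 h2 hc t u :=
    S.comm0 r hr s hs h1 h2 (by rw [commTerms_cut, cent_levi hr, ← commTerms_E8]; exact hc) t u
  comm1 r hr s hs k hk c h1 h2 hc t u :=
    S.comm1 r hr s hs k hk c h1 h2 (by rw [commTerms_cut, cent_levi hr, ← commTerms_E8]; exact hc) t u
  scale := S.scale
  H_inv := S.H_inv

theorem mem_alB : ∀ k, alB k ∈ phiB := memB

theorem lo_B : ((Finset.univ.filter fun μ : Fin 56 => (μ : ℕ) < 12).val.map fun μ => (tabB.Lo μ).card :
      Multiset ℕ) = ↑[27, 26, 25, 24, 23, 22, 22, 21, 20, 19, 18, 17] := by decide +kernel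

theorem side_lo_C : (((Finset.univ.filter fun μ : Fin 27 => (μ : ℕ) < 6).val.map fun μ => (tabC.Lo μ).card) :
      Multiset ℕ) = ↑[16, 15, 14, 13, 12, 11] := by decide +kernel

theorem side_lo_D0 : (((Finset.univ.filter fun μ : Fin 16 => (μ : ℕ) < 4).val.map fun μ => (tabD0.Lo μ).card) :
      Multiset ℕ) = ↑[10, 9, 8, 7] := by decide +kernel

theorem side_lo_D1 : (((Finset.univ.filter fun μ : Fin 10 => (μ : ℕ) < 3).val.map fun μ => (tabD1.Lo μ).card) :
      Multiset ℕ) = ↑[6, 5, 4] := by decide +kernel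

theorem side_lo_D2 : (((Finset.univ.filter fun μ : Fin 4 => (μ : ℕ) < 1).val.map fun μ => (tabD2.Lo μ).card) :
      Multiset ℕ) = ↑[3] := by decide +kernel

theorem side_lo_D3 : (((Finset.univ.filter fun μ : Fin 3 => (μ : ℕ) < 1).val.map fun μ => (tabD3.Lo μ).card) :
      Multiset ℕ) = ↑[2] := by decide +kernel

theorem side_lo_D4 : (((Finset.univ.filter fun μ : Fin 2 => (μ : ℕ) < 1).val.map fun μ => (tabD4.Lo μ).card) :
      Multiset ℕ) = ↑[1] := by decide +kernel

/-- The exponents of all the cells of the radical modulo its centre. -/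
def cellsB : List ℕ :=
  [27, 26, 25, 24, 23, 22, 22, 21, 21, 20, 20, 19, 19, 18, 18, 18, 17, 17, 17, 16, 16, 16, 15, 15, 15,
    14, 14, 14, 13, 13, 13, 12, 12, 12, 11, 11, 11, 10, 10, 10, 9, 9, 9, 8, 8, 7, 7, 6, 6, 5, 5, 4, 3, 2, 1, 0]

theorem lo_B_all : (((Finset.univ : Finset (Fin 56)).val.map fun μ => (tabB.Lo μ).card) :
      Multiset ℕ) = ↑cellsB := by decide +kernel

theorem cellsB_sum (x : ℤ) : (x - 1) * (cellsB.map fun e => x ^ e).sum =
    x ^ 28 + x ^ 23 + x ^ 19 - x ^ 9 - x ^ 5 - 1 := by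
  simp only [cellsB, List.map_cons, List.map_nil, List.sum_cons, List.sum_nil]
  ring

theorem lo_C_all : (((Finset.univ : Finset (Fin 27)).val.map fun μ => (tabC.Lo μ).card) :
      Multiset ℕ) = ↑[16, 15, 14, 13, 12, 12, 11, 11, 10, 10, 9, 9, 8, 8, 8, 7, 7, 6, 6, 5, 5, 4, 4, 3, 2, 1, 0] := by
  decide +kernel

theorem lo_D0_all : (((Finset.univ : Finset (Fin 16)).val.map fun μ => (tabD0.Lo μ).card) :
      Multiset ℕ) = ↑[10, 9, 8, 7, 7, 6, 6, 5, 5, 4, 4, 3, 3, 2, 1, 0] := by decide +kernel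

theorem lo_D1_all : (((Finset.univ : Finset (Fin 10)).val.map fun μ => (tabD1.Lo μ).card) :
      Multiset ℕ) = ↑[6, 5, 4, 4, 3, 3, 2, 2, 1, 0] := by decide +kernel

theorem lo_D2_all : (((Finset.univ : Finset (Fin 4)).val.map fun μ => (tabD2.Lo μ).card) :
      Multiset ℕ) = ↑[3, 2, 1, 0] := by decide +kernel

theorem lo_D3_all : (((Finset.univ : Finset (Fin 3)).val.map fun μ => (tabD3.Lo μ).card) :
      Multiset ℕ) = ↑[2, 1, 0] := by decide +kernel

theorem lo_D4_all : (((Finset.univ : Finset (Fin 2)).val.map fun μ => (tabD4.Lo μ).card) :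
      Multiset ℕ) = ↑[1, 0] := by decide +kernel

theorem hit_B : ∃ i, YB i = YA 1 := by decide +kernel
theorem half_mem : YA 1 ∈ phiB := by decide +kernel
theorem levi_mem : alA 99 ∈ phiB := by decide +kernel
theorem levi_eq : alA 99 = alB 125 := by decide +kernel
theorem hit_C : ∃ i, YC i = alB 125 := by decide +kernel
theorem hit_D0 : ∃ i, YD0 i = alC 71 := by decide +kernel
theorem hit_D1 : ∃ i, YD1 i = alD0 39 := by decide +kernel
theorem hit_D2 : ∃ i, YD2 i = alD1 19 := by decide +kernel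
theorem hit_D3 : ∃ i, YD3 i = alD2 11 := by decide +kernel
theorem hit_D4 : ∃ i, YD4 i = alD3 5 := by decide +kernel

/-- Non-triviality moves to the coordinates of the next step. -/
theorem nt_of {D : ChevalleyDatum} {Φ : List ℕ} (S : RRep D F W Φ) {m : ℕ} {Y : Fin m → ℕ} {r : ℕ}
    (h : ∃ i, Y i = r) (h1 : ∃ t, S.T r t ≠ 1) : ∃ i t, S.T (Y i) t ≠ 1 := by
  obtain ⟨i, hi⟩ := h; obtain ⟨t, ht⟩ := h1; exact ⟨i, t, hi ▸ ht⟩

theorem eq_one_of_trace {W : Type*} [AddCommGroup W] [Module ℂ W] [FiniteDimensional ℂ W]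
    (α : AddChar F (End ℂ W)) (h : ∀ t, LinearMap.trace ℂ W (α t) = finrank ℂ W) (t : F) : α t = 1 := by
  classical
  have h1 : (mult α 0 : ℂ) = finrank ℂ W := by
    rw [← trace_proj, proj, map_smul, map_sum]
    simp only [map_smul, AddChar.zero_apply, smul_eq_mul, one_mul, h, Finset.sum_const, Finset.card_univ,
      nsmul_eq_mul]
    rw [← mul_assoc, inv_mul_cancel₀ (Nat.cast_ne_zero.2 Fintype.card_ne_zero), one_mul]
  have h2 : mult α 0 = ∑ χ, mult α χ := by rw [sum_mult]; exact_mod_cast h1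
  rw [← Finset.add_sum_erase _ _ (Finset.mem_univ (0 : AddChar F ℂ))] at h2
  refine eq_one_of_mult_eq_zero α (fun χ hχ => ?_) t
  exact Finset.sum_eq_zero_iff.1 (by omega : ∑ x ∈ Finset.univ.erase (0 : AddChar F ℂ), mult α x = 0) χ
    (Finset.mem_erase.2 ⟨hχ, Finset.mem_univ _⟩)

theorem boundD4 (S : RRep chevE8 F W (List.ofFn alD3)) (hψ : ψ.IsPrimitive)
    (hn : ∃ t, S.T (alD3 5) t ≠ 1) (h3q : 2 < Fintype.card F) {x : ℤ} (hx : x = Fintype.card F) :
    x ^ 2 + x - 2 ≤ (finrank ℂ W : ℤ) := by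
  classical
  have hx3 : 3 ≤ x := by omega
  have st : ∀ i : ℕ, 3 * x ^ i ≤ x ^ (i + 1) := fun i => by
    rw [pow_succ' x i]; exact mul_le_mul_of_nonneg_right hx3 (by positivity)
  have s1 := st 1; have s2 := st 2; have s3 := st 3; have s4 := st 4; have s5 := st 5; have s6 := st 6
  have s7 := st 7
  norm_num at s1 s2 s3 s4 s5 s6 s7
  rcases S.descend linkD4 okD4 hψ (nt_of S hit_D4 hn) sideD4 _ adjD4
      (phase_of_tor _ linkD4 okD4 torD4 torD4_ok moveD4 h3q) _ _ 1 side_lo_D4 lo_D4_all (by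
        simp only [List.map_cons, List.map_nil, List.sum_cons, List.sum_nil]; ring) with h | h | ⟨hd, n, h⟩
  · rw [← hx] at h; norm_num at h; linarith
  · simp only [List.map_cons, List.map_nil, List.sum_cons, List.sum_nil, ← hx] at h
    ring_nf at h ⊢
    linarith
  simp only [List.map_cons, List.map_nil, List.sum_cons, List.sum_nil, ← hx] at h
  have h1 := (S.next linkD4 okD4.1 ψ).last hψ (alD4 1) (fun t ht => by rw [hd t ht, pow_one])
  have h1' : x - 1 ≤ (finrank ℂ (LinearMap.range (pr ψ (S.P linkD4) 0)) : ℤ) := by omega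
  ring_nf at h h1' ⊢
  linarith

theorem boundD3 (S : RRep chevE8 F W (List.ofFn alD2)) (hψ : ψ.IsPrimitive)
    (hn : ∃ t, S.T (alD2 11) t ≠ 1) (h3q : 2 < Fintype.card F) {x : ℤ} (hx : x = Fintype.card F) :
    x ^ 3 + x ^ 2 + x - 3 ≤ (finrank ℂ W : ℤ) := by
  classical
  have hx3 : 3 ≤ x := by omega
  have st : ∀ i : ℕ, 3 * x ^ i ≤ x ^ (i + 1) := fun i => by
    rw [pow_succ' x i]; exact mul_le_mul_of_nonneg_right hx3 (by positivity)
  have s1 := st 1; have s2 := st 2; have s3 := st 3; have s4 := st 4; have s5 := st 5; have s6 := st 6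
  have s7 := st 7
  norm_num at s1 s2 s3 s4 s5 s6 s7
  rcases S.descend linkD3 okD3 hψ (nt_of S hit_D3 hn) sideD3 _ adjD3
      (phase_of_tor _ linkD3 okD3 torD3 torD3_ok moveD3 h3q) _ _ 2 side_lo_D3 lo_D3_all (by
        simp only [List.map_cons, List.map_nil, List.sum_cons, List.sum_nil]; ring) with h | h | ⟨hd, n, h⟩
  · rw [← hx] at h; norm_num at h; linarith
  · simp only [List.map_cons, List.map_nil, List.sum_cons, List.sum_nil, ← hx] at h
    ring_nf at h ⊢
    linarith
  simp only [List.map_cons, List.map_nil, List.sum_cons, List.sum_nil, ← hx] at h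
  have h1 := boundD4 _ hψ n h3q hx
  ring_nf at h h1 ⊢
  linarith

theorem boundD2 (S : RRep chevE8 F W (List.ofFn alD1)) (hψ : ψ.IsPrimitive)
    (hn : ∃ t, S.T (alD1 19) t ≠ 1) (h3q : 2 < Fintype.card F) {x : ℤ} (hx : x = Fintype.card F) :
    x ^ 4 + x ^ 3 + x ^ 2 + x - 4 ≤ (finrank ℂ W : ℤ) := by
  classical
  have hx3 : 3 ≤ x := by omega
  have st : ∀ i : ℕ, 3 * x ^ i ≤ x ^ (i + 1) := fun i => by
    rw [pow_succ' x i]; exact mul_le_mul_of_nonneg_right hx3 (by positivity)
  have s1 := st 1; have s2 := st 2; have s3 := st 3; have s4 := st 4; have s5 := st 5; have s6 := st 6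
  have s7 := st 7
  norm_num at s1 s2 s3 s4 s5 s6 s7
  rcases S.descend linkD2 okD2 hψ (nt_of S hit_D2 hn) sideD2 _ adjD2
      (phase_of_tor _ linkD2 okD2 torD2 torD2_ok moveD2 h3q) _ _ 3 side_lo_D2 lo_D2_all (by
        simp only [List.map_cons, List.map_nil, List.sum_cons, List.sum_nil]; ring) with h | h | ⟨hd, n, h⟩
  · rw [← hx] at h; norm_num at h; linarith
  · simp only [List.map_cons, List.map_nil, List.sum_cons, List.sum_nil, ← hx] at h
    ring_nf at h ⊢
    linarith
  simp only [List.map_cons, List.map_nil, List.sum_cons, List.sum_nil, ← hx] at h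
  have h1 := boundD3 _ hψ n h3q hx
  ring_nf at h h1 ⊢
  linarith

theorem boundD1 (S : RRep chevE8 F W (List.ofFn alD0)) (hψ : ψ.IsPrimitive)
    (hn : ∃ t, S.T (alD0 39) t ≠ 1) (h3q : 2 < Fintype.card F) {x : ℤ} (hx : x = Fintype.card F) :
    x ^ 7 + x ^ 5 + x ^ 4 + x ^ 3 + x - 5 ≤ (finrank ℂ W : ℤ) := by
  classical
  have hx3 : 3 ≤ x := by omega
  have st : ∀ i : ℕ, 3 * x ^ i ≤ x ^ (i + 1) := fun i => by
    rw [pow_succ' x i]; exact mul_le_mul_of_nonneg_right hx3 (by positivity)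
  have s1 := st 1; have s2 := st 2; have s3 := st 3; have s4 := st 4; have s5 := st 5; have s6 := st 6
  have s7 := st 7
  norm_num at s1 s2 s3 s4 s5 s6 s7
  rcases S.descend linkD1 okD1 hψ (nt_of S hit_D1 hn) sideD1 _ adjD1
      (phase_of_tor _ linkD1 okD1 torD1 torD1_ok moveD1 h3q) _ _ 4 side_lo_D1 lo_D1_all (by
        simp only [List.map_cons, List.map_nil, List.sum_cons, List.sum_nil]; ring) with h | h | ⟨hd, n, h⟩
  · rw [← hx] at h; norm_num at h; linarith
  · simp only [List.map_cons, List.map_nil, List.sum_cons, List.sum_nil, ← hx] at h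
    ring_nf at h ⊢
    linarith
  simp only [List.map_cons, List.map_nil, List.sum_cons, List.sum_nil, ← hx] at h
  have h1 := boundD2 _ hψ n h3q hx
  ring_nf at h h1 ⊢
  linarith

/-- What the chain gives from the radical of `E₆`. -/
def lowD0 (q : ℕ) (x : ℤ) : ℤ :=
  if q = 2 then x ^ 11 + x ^ 8 - x ^ 3 - 1 else x ^ 11 + x ^ 8 + x ^ 7 + x ^ 5 + x ^ 4 + x - 6

theorem boundD0 (S : RRep chevE8 F W (List.ofFn alC)) (hψ : ψ.IsPrimitive)
    (hn : ∃ t, S.T (alC 71) t ≠ 1) {x : ℤ} (hx : x = Fintype.card F) :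
    lowD0 (Fintype.card F) x ≤ (finrank ℂ W : ℤ) := by
  classical
  have hx2 : 2 ≤ x := by have := Fintype.one_lt_card (α := F); omega
  have st : ∀ i : ℕ, 2 * x ^ i ≤ x ^ (i + 1) := fun i => by
    rw [pow_succ' x i]; exact mul_le_mul_of_nonneg_right hx2 (by positivity)
  have s1 := st 1; have s2 := st 2; have s3 := st 3; have s4 := st 4; have s5 := st 5; have s6 := st 6
  have s7 := st 7; have s8 := st 8; have s9 := st 9; have s10 := st 10; have s11 := st 11; have s12 := st 12; have s13 := st 13; have s14 := st 14; have s15 := st 15; have s16 := st 16; have s17 := st 17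
  norm_num at s17 s1 s2 s3 s4 s5 s6 s7 s8 s9 s10 s11 s12 s13 s14 s15 s16
  rcases S.descend linkD0 okD0 hψ (nt_of S hit_D0 hn) sideD0 _ adjD0
      (phase_of_com _ linkD0 okD0 comD0 comD0_ok) _ _ 7 side_lo_D0 lo_D0_all (by
        simp only [List.map_cons, List.map_nil, List.sum_cons, List.sum_nil]; ring) with h | h | ⟨-, n, h⟩
  · rw [← hx] at h; norm_num at h; unfold lowD0; split_ifs <;> linarith
  · simp only [List.map_cons, List.map_nil, List.sum_cons, List.sum_nil, ← hx] at h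
    ring_nf at h
    unfold lowD0; split_ifs <;> linarith
  simp only [List.map_cons, List.map_nil, List.sum_cons, List.sum_nil, ← hx] at h
  ring_nf at h
  have hw := Int.natCast_nonneg (finrank ℂ (LinearMap.range (pr ψ (S.P linkD0) 0)))
  unfold lowD0
  split_ifs with hq
  · linarith
  · have h1 := boundD1 _ hψ n (by omega) hx
    ring_nf at h1 ⊢
    linarith

/-- What the chain gives from the abelian radical of `E₇`. -/
def lowC (q : ℕ) (x : ℤ) : ℤ :=
  lowD0 q x + (x ^ 17 + x ^ 13 + x ^ 9 - x ^ 8 - x ^ 4 - 1)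

theorem boundC (S : RRep chevE8 F W (List.ofFn alB)) (hψ : ψ.IsPrimitive)
    (hn : ∃ t, S.T (alB 125) t ≠ 1) {x : ℤ} (hx : x = Fintype.card F) :
    lowC (Fintype.card F) x ≤ (finrank ℂ W : ℤ) := by
  classical
  have hx2 : 2 ≤ x := by have := Fintype.one_lt_card (α := F); omega
  have st : ∀ i : ℕ, 2 * x ^ i ≤ x ^ (i + 1) := fun i => by
    rw [pow_succ' x i]; exact mul_le_mul_of_nonneg_right hx2 (by positivity)
  have s1 := st 1; have s2 := st 2; have s3 := st 3; have s4 := st 4; have s5 := st 5; have s6 := st 6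
  have s7 := st 7; have s8 := st 8; have s9 := st 9; have s10 := st 10; have s11 := st 11; have s12 := st 12; have s13 := st 13; have s14 := st 14; have s15 := st 15; have s16 := st 16; have s17 := st 17
  norm_num at s17 s1 s2 s3 s4 s5 s6 s7 s8 s9 s10 s11 s12 s13 s14 s15 s16
  rcases S.descend linkC okC hψ (nt_of S hit_C hn) sideC _ adjC
      (phase_of_com _ linkC okC comC comC_ok) _ _ 11 side_lo_C lo_C_all (by
        simp only [List.map_cons, List.map_nil, List.sum_cons, List.sum_nil]; ring) with h | h | ⟨-, n, h⟩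
  · rw [← hx] at h; norm_num at h; unfold lowC lowD0; split_ifs <;> linarith
  · simp only [List.map_cons, List.map_nil, List.sum_cons, List.sum_nil, ← hx] at h
    ring_nf at h
    unfold lowC lowD0; split_ifs <;> linarith
  simp only [List.map_cons, List.map_nil, List.sum_cons, List.sum_nil, ← hx] at h
  ring_nf at h
  have h1 := boundD0 _ hψ n hx
  unfold lowC
  linarith

/-- The bound for operators with a non-trivial highest root. -/
theorem chain_bound (R : RRep chevE8 F W (List.range chevE8.nroots)) (hψ : ψ.IsPrimitive)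
    (hm : mA R ψ ≠ 0) :
    (tgt (Fintype.card F) : ℤ) ≤ finrank ℂ W ∨
      mA R ψ = 1 ∧ (tgt (Fintype.card F) : ℤ) -
        (if Fintype.card F = 2 then 2048 else 8) ≤ (finrank ℂ W : ℤ) := by
  classical
  set q := Fintype.card F with hq
  have hq2 : 2 ≤ q := Fintype.one_lt_card
  obtain ⟨x, hx⟩ : ∃ x : ℤ, x = (q : ℤ) := ⟨_, rfl⟩
  have ht : (tgt q : ℤ) = x ^ 29 + x ^ 23 + x ^ 19 + x ^ 17 + x ^ 13 + x ^ 11 + x ^ 7 + x := by
    rw [hx, tgt]; push_cast; ring
  have hx2 : 2 ≤ x := by omega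
  have st : ∀ i : ℕ, 2 * x ^ i ≤ x ^ (i + 1) := fun i => by
    rw [pow_succ' x i]; exact mul_le_mul_of_nonneg_right hx2 (by positivity)
  have pp : ∀ i : ℕ, 0 ≤ x ^ i := fun i => by positivity
  have s1 := st 1; have s2 := st 2; have s3 := st 3; have s4 := st 4; have s5 := st 5; have s6 := st 6
  have s7 := st 7; have s8 := st 8; have s9 := st 9; have s10 := st 10; have s11 := st 11
  have s12 := st 12; have s13 := st 13; have s14 := st 14; have s15 := st 15; have s16 := st 16
  have s17 := st 17; have s18 := st 18; have s19 := st 19; have s20 := st 20; have s21 := st 21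
  have s22 := st 22; have s23 := st 23; have s24 := st 24; have s25 := st 25; have s26 := st 26
  have s27 := st 27; have s28 := st 28
  norm_num at s1 s2 s3 s4 s5 s6 s7 s8 s9 s10 s11 s12 s13 s14 s15 s16 s17 s18 s19 s20 s21 s22 s23 s24 s25 s26 s27 s28
  have hsplit : (finrank ℂ (LinearMap.range (eT R ψ)) : ℤ) + mA R ψ * ((x - 1) * x ^ 28) = finrank ℂ W := by
    have h : ((finrank ℂ (LinearMap.range (eT R ψ)) + mA R ψ * ((q - 1) * q ^ 28) : ℕ) : ℤ) =
        ((finrank ℂ W : ℕ) : ℤ) := by exact_mod_cast finrank_split R hψ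
    push_cast [Nat.cast_sub (show 1 ≤ q by omega), ← hx] at h
    exact h
  have hq0 : (q : ℂ) ≠ 0 := Nat.cast_ne_zero.2 (by omega)
  set R1 := fixedRep R ψ with hR1
  have hnt : ∃ i t, R1.T (YB i) t ≠ 1 := nt_of R1 hit_B ⟨1, fun h => by
    have h1 := defect_half R hψ (j := 1) (by decide) (one_ne_zero (α := F))
    rw [← trace_fixedRep R half_mem, show (fixedRep R ψ).T (YA 1) 1 = 1 from h, LinearMap.trace_one,
      sub_self] at h1
    exact mul_ne_zero (Nat.cast_ne_zero.2 hm) (pow_ne_zero _ hq0) h1.symm⟩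
  have hcB : (Fintype.card (tabB.Par F) : ℤ) = x ^ 28 + x ^ 23 + x ^ 19 - x ^ 9 - x ^ 5 - 1 := by
    rw [card_par_all okB cellsB lo_B_all, cellsB_sum, hx]
  have hm1 : (1 : ℤ) ≤ mA R ψ := by exact_mod_cast Nat.one_le_iff_ne_zero.2 hm
  have hpos : 0 ≤ (x - 1) * x ^ 28 := mul_nonneg (by linarith) (pp _)
  have hlow : x ^ 29 - x ^ 28 ≤ (mA R ψ : ℤ) * ((x - 1) * x ^ 28) := by
    calc x ^ 29 - x ^ 28 = 1 * ((x - 1) * x ^ 28) := by ring
      _ ≤ _ := mul_le_mul_of_nonneg_right hm1 hpos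
  rcases R1.step linkB okB hψ hnt with h | h | ⟨hE, h⟩
  · left
    have h' : x ^ 29 ≤ (finrank ℂ (LinearMap.range (eT R ψ)) : ℤ) := by rw [hx]; exact_mod_cast h
    rw [ht]; linarith [pp 1]
  · left
    have h' : 2 * (Fintype.card (tabB.Par F) : ℤ) ≤ (finrank ℂ (LinearMap.range (eT R ψ)) : ℤ) := by
      exact_mod_cast h
    rw [hcB] at h'
    rw [ht]; linarith [pp 1]
  set R2 := R1.next linkB okB.1 ψ with hR2
  have hB : (finrank ℂ (LinearMap.range (eT R ψ)) : ℤ) =
      (finrank ℂ (LinearMap.range (pr ψ (R1.P linkB) 0)) : ℤ) + (x ^ 28 + x ^ 23 + x ^ 19 - x ^ 9 - x ^ 5 - 1) := by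
    rw [← hcB]; exact_mod_cast h
  by_cases h2m : 2 ≤ mA R ψ
  · left
    have h2' : 2 * ((x - 1) * x ^ 28) ≤ (mA R ψ : ℤ) * ((x - 1) * x ^ 28) :=
      mul_le_mul_of_nonneg_right (by exact_mod_cast h2m) hpos
    have e : (x - 1) * x ^ 28 = x ^ 29 - x ^ 28 := by ring
    rw [e] at h2' hsplit
    rw [ht]; linarith [pp 1, (Int.natCast_nonneg (finrank ℂ (LinearMap.range (pr ψ (R1.P linkB) 0))))]
  have hm' : mA R ψ = 1 := by omega
  suffices hgoal : (tgt q : ℤ) - (if q = 2 then 2048 else 8) ≤ finrank ℂ W from Or.inr ⟨hm', hgoal⟩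
  rw [hm', Nat.cast_one, one_mul] at hsplit
  have hR2t : ∀ t : F, t ≠ 0 → (finrank ℂ (LinearMap.range (pr ψ (R1.P linkB) 0)) : ℂ) -
      LinearMap.trace ℂ _ ((uncut R2).T (alB 125) t) = (q : ℂ) ^ 17 := fun t htn => by
    have h1 := R1.next_defect linkB okB hψ hE sideB (phase_of_com R1 linkB okB comB comB_ok) htn
    rw [hR1, trace_fixedRep R (mem_alB 125), ← levi_eq, defect_levi R hψ hm' htn] at h1
    have h2 := okB.card_cells (F := F) (fun μ => (μ : ℕ) < 12) _ lo_B
    have h3 : (((Finset.univ.filter fun x : tabB.Par F => (x.1 : ℕ) < 12).card : ℕ) : ℂ) =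
        (q : ℂ) ^ 28 + (q : ℂ) ^ 23 - (q : ℂ) ^ 22 - (q : ℂ) ^ 17 := by
      have := congrArg (Int.cast : ℤ → ℂ) h2
      rw [Int.cast_natCast] at this
      rw [this]
      simp only [List.map_cons, List.map_nil, List.sum_cons, List.sum_nil]
      push_cast
      ring
    rw [h3] at h1
    show (_ : ℂ) - LinearMap.trace ℂ _ (R2.T (alB 125) t) = _
    rw [hR2, ← levi_eq]
    rw [h1]
    ring
  have n0 : ∃ t, (uncut R2).T (alB 125) t ≠ 1 := ⟨1, fun h => by
    have h1 := hR2t 1 one_ne_zero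
    rw [h, LinearMap.trace_one, sub_self] at h1
    exact pow_ne_zero _ hq0 h1.symm⟩
  have hC := boundC (uncut R2) hψ n0 hx
  unfold lowC lowD0 at hC
  rw [← hq] at hC
  rw [ht]
  split_ifs at hC ⊢ with hq'
  · have hx' : x = 2 := by omega
    subst hx'
    norm_num at hsplit hB hC ⊢
    linarith
  · linarith

theorem x_eq_xR_mat (hD : Good chevE8) (r : Root chevE8) (t : F) :
    chevE8.xMat F r t = xR chevE8 F r t := by
  rw [← x_eq_xR hD, ChevalleyDatum.x, dif_pos r.isLt]

variable {V : Type*} [AddCommGroup V] [Module ℂ V] [FiniteDimensional ℂ V]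

/-- The degree bound. -/
theorem degree_bound (ρ : Representation ℂ ↥(chevE8.group F) V) (hρ : ρ.IsIrreducible)
    (hk : 2 ≤ finrank ℂ V) : tgt (Fintype.card F) ≤ finrank ℂ V := by
  classical
  have hW : GoodWeyl chevE8 := goodWeyl_of_mem (by simp)
  have hC : GoodComm chevE8 := goodComm_of_mem (by simp)
  set R := RRep.ofRep hW hC ρ
  obtain ⟨ψ, hψ⟩ : ∃ ψ : AddChar F ℂ, ψ.IsPrimitive := by
    obtain ⟨p, _⟩ := CharP.exists F
    have : Fact p.Prime := ⟨(CharP.char_is_prime_or_zero F p).resolve_right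
      (CharP.char_ne_zero_of_finite F p)⟩
    obtain ⟨ψ, hψ, -⟩ := exists_frobenius_char F p
    exact ⟨ψ, hψ⟩
  have hn : chevE8.nroots = 240 := by decide +kernel
  have hm : mA R ψ ≠ 0 := fun h0 => by
    obtain ⟨g, hg⟩ := exists_ne_one ρ hρ hk
    refine hg ?_
    have hroot : ∀ (r : ℕ) (hr : r < chevE8.nroots) (t : F), ρ (rootMem hW r t) = 1 := by
      intro r hr t
      refine eq_one_of_trace (R.T r) (fun s => ?_) t
      rcases eq_or_ne s 0 with rfl | hs
      · rw [AddChar.map_zero_eq_one, LinearMap.trace_one]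
      · have h1 := defect_all R hψ (hn ▸ hr) hs
        rw [h0, Nat.cast_zero, zero_mul, sub_eq_zero] at h1
        exact h1.symm
    have hker : ∀ (y : GL chevE8.Idx F) (hy : y ∈ chevE8.group F), ρ ⟨y, hy⟩ = 1 := by
      intro y hy
      induction hy using Subgroup.closure_induction with
      | mem y hy' =>
        obtain ⟨r, t, hyt⟩ := hy'
        have e : (⟨y, Subgroup.subset_closure ⟨r, t, hyt⟩⟩ : ↥(chevE8.group F)) = rootMem hW r t := by
          refine Subtype.ext (Units.ext ?_)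
          rw [coe_rootMem hW r.isLt, coe_X]
          exact hyt.trans (x_eq_xR_mat hW.good r t)
        exact (congrArg ρ e).trans (hroot r r.isLt t)
      | one => exact map_one ρ
      | mul a b ha hb h1 h2 => rw [show (⟨a * b, _⟩ : ↥(chevE8.group F)) = ⟨a, ha⟩ * ⟨b, hb⟩ from rfl,
          map_mul, h1, h2, one_mul]
      | inv a ha h1 =>
        have h2 : ρ (⟨a, ha⟩⁻¹ * ⟨a, ha⟩) = 1 := by rw [inv_mul_cancel, map_one]
        rw [map_mul, h1, mul_one] at h2
        exact h2
    exact hker g g.2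
  rcases chain_bound R hψ hm with h | ⟨h1, hb⟩
  · exact_mod_cast h
  by_contra hlt
  push Not at hlt
  set k := finrank ℂ V
  set q := Fintype.card F with hq
  have hdef : (k : ℂ) - LinearMap.trace ℂ V (R.T 239 1) = ((q ^ 29 : ℕ) : ℂ) := by
    rw [defect_top R hψ one_ne_zero, h1, Nat.cast_one, one_mul, Nat.cast_pow]
  have hdvd := finrank_dvd_mul_defect hW hC ρ 239 1 (q ^ 29) hdef
  have hord : Nat.card ↥(chevE8.group F) * q ^ 29 = bigN q := by
    rw [Cfsg.Agent.S1065.result (q := q) rfl, bigN, degProd]; ring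
  rw [hord] at hdvd
  have hk' : tgt q - (tgt q - k) = k := by omega
  by_cases hq2 : q = 2
  · rw [if_pos hq2] at hb
    rw [hq2] at hdvd hb hlt hk'
    exact no_dvd_two (tgt 2 - k) (by omega) (by omega) (Nat.mod_eq_zero_of_dvd (hk'.symm ▸ hdvd))
  · rw [if_neg hq2] at hb
    have := Fintype.one_lt_card (α := F)
    exact no_dvd (FiniteField.isPrimePow_card F) (by omega) (D := tgt q - k) (by omega) (by omega)
      (hk'.symm ▸ hdvd)

end CfsgLib.EEightDegree
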