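import Cfsg.Agent.EEightDegree.Fast
import Cfsg.Agent.EEightDegree.TablesB

/-!
# The tables of the centre of the radical with a Lagrangian half (generated, checked by the kernel)
-/

set_option autoImplicit false
set_option maxRecDepth 100000
set_option maxHeartbeats 4000000

namespace CfsgLib.EEightDegree

open Cfsg.Lie CfsgLib.Chevalley CfsgLib.RootWeight

/-- Roots of the abelian set: the highest root, then the half. -/
def YA : Fin 29 → ℕ := fun i => ([239, 238, 237, 236, 235, 234, 233, 225, 224, 223, 218, 222, 217, 221, 213, 216, 220, 212, 215, 209, 211, 208, 206, 161, 160, 158, 155, 151, 146] : List (ℕ)).getD i 0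

/-- The roots of the other half, then roots preserving both halves. -/
def alA : Fin 100 → ℕ := fun i => ([120, 122, 125, 129, 134, 140, 168, 173, 177, 187, 180, 190, 182, 196, 192, 183, 198, 193, 201, 199, 202, 203, 227, 228, 229, 230, 231, 232, 13, 39, 42, 44, 45, 48, 50, 51, 53, 54, 55, 58, 60, 61, 63, 64, 65, 67, 68, 69, 70, 100, 101, 102, 103, 104, 106, 107, 108, 109, 111, 112, 113, 115, 116, 118, 121, 123, 124, 126, 127, 128, 130, 131, 132, 133, 135, 136, 137, 138, 139, 169, 170, 171, 172, 174, 175, 176, 178, 179, 181, 184, 185, 186, 188, 189, 191, 194, 195, 197, 200, 226] : List (ℕ)).getD i 0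

/-- The moves, step A. -/
def PA : List (List ℕ) :=
  ([[512],
    [1024],
    [1536],
    [2048],
    [2560],
    [3072],
    [3584],
    [4097],
    [4608],
    [5121],
    [5633],
    [6144],
    [6656],
    [7169],
    [7681],
    [8193],
    [8704],
    [9216],
    [9729],
    [10241],
    [10752],
    [11265],
    [11776],
    [12289],
    [12800],
    [13313],
    [13824],
    [14337],
    [558, 1072, 1586, 2100, 2614, 3128],
    [551, 1067, 1581, 4148, 4662, 5176],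
    [546, 1064, 2093, 4147, 5686, 6200],
    [541, 1576, 2090, 4144, 6710, 7736],
    [1053, 1571, 2087, 4143, 8246, 9272],
    [543, 1061, 2605, 4659, 5685, 7224],
    [536, 1573, 2602, 4656, 6709, 8760],
    [1048, 1566, 2599, 4655, 8245, 10296],
    [533, 2085, 2601, 5680, 6706, 9784],
    [1045, 2078, 2594, 5679, 8242, 10808],
    [1557, 2073, 2589, 6703, 8241, 11320],
    [538, 1056, 3117, 5171, 6197, 7223],
    [535, 1568, 3114, 5168, 7733, 8759],
    [1047, 1563, 3111, 5167, 9269, 10295],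
    [530, 2080, 3113, 6192, 7730, 9783],
    [1042, 2075, 3106, 6191, 9266, 10807],
    [1554, 2070, 3101, 7727, 9265, 11319],
    [529, 2592, 3108, 7216, 8754, 9780],
    [1041, 2587, 3103, 7215, 10290, 10804],
    [1553, 2582, 3096, 8751, 10289, 11316],
    [2065, 2579, 3093, 9775, 10801, 11315],
    [524, 4133, 4649, 5675, 6701, 11832],
    [1036, 4126, 4642, 5670, 8237, 12344],
    [1548, 4121, 4637, 6694, 8234, 12856],
    [2060, 4116, 5661, 6691, 8233, 13368],
    [2572, 4628, 5656, 6686, 8228, 13880],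
    [522, 4129, 5160, 6186, 7724, 11830],
    [1034, 4122, 5155, 6183, 9260, 12342],
    [1546, 4119, 5148, 7719, 9259, 12854],
    [2058, 4114, 6172, 7714, 9256, 13366],
    [520, 4640, 5156, 7211, 8749, 11828],
    [1032, 4635, 5151, 7206, 10285, 12340],
    [1544, 4630, 5144, 8742, 10282, 12852],
    [518, 5665, 6181, 7209, 9772, 11826],
    [1030, 5658, 6174, 7202, 10796, 12338],
    [516, 6688, 7716, 8744, 9770, 11824],
    [1026, 8218, 9246, 10274, 10790, 12334],
    [1540, 6678, 7704, 8732, 11306, 12848],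
    [1538, 8215, 9241, 10269, 11302, 12846],
    [2054, 5650, 6164, 9762, 10792, 13362],
    [2052, 6675, 7701, 9756, 11305, 13360],
    [2050, 8210, 9236, 10781, 11299, 13358],
    [2568, 4624, 7192, 8734, 10276, 13876],
    [2566, 5649, 7188, 9759, 10789, 13874],
    [2564, 6672, 8725, 9753, 11300, 13872],
    [2562, 8209, 10260, 10776, 11294, 13870],
    [3082, 5138, 6166, 7706, 9248, 14390],
    [3080, 5136, 7191, 8731, 10273, 14388],
    [3078, 6161, 7187, 9754, 10784, 14386],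
    [3076, 7696, 8722, 9750, 11297, 14384],
    [3074, 9233, 10259, 10775, 11291, 14382],
    [4105, 4619, 5133, 11815, 12331, 12845],
    [4103, 5642, 6156, 11811, 12329, 13356],
    [4101, 6667, 7693, 11805, 12840, 13354],
    [4099, 8202, 9228, 12316, 12834, 13350],
    [4614, 5640, 7181, 11807, 12325, 13869],
    [4612, 6665, 8716, 11801, 12836, 13867],
    [4610, 8200, 10253, 12312, 12830, 13863],
    [5637, 6663, 9741, 11797, 13349, 13865],
    [5635, 8198, 10764, 12308, 13343, 13859],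
    [6658, 8196, 11277, 12821, 13337, 13853],
    [5127, 6153, 7179, 11803, 12321, 14380],
    [5125, 7688, 8714, 11799, 12832, 14378],
    [5123, 9225, 10251, 12310, 12826, 14374],
    [6148, 7686, 9739, 11795, 13345, 14376],
    [6146, 9223, 10762, 12306, 13339, 14370],
    [7683, 9221, 11275, 12819, 13335, 14364],
    [7173, 8711, 9737, 11793, 13856, 14372],
    [7171, 10246, 10760, 12304, 13850, 14366],
    [8706, 10244, 11273, 12817, 13846, 14360],
    [9731, 10757, 11271, 13328, 13842, 14356],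
    [11778, 12292, 12806, 13320, 13834, 14348]] : List (List ℕ))

/-- The neighbours, step A. -/
def nbA : List (List ℕ) :=
  ([[2, 516, 1030, 1544, 2058, 2572, 3086, 3601, 4114, 4629, 5143, 5656, 6170, 6685, 7199, 7713, 8226, 8740, 9255, 9769, 10282, 10797, 11310, 11825, 12338, 12853, 13366, 13881],
    [],
    [],
    [],
    [],
    [],
    [],
    [],
    [],
    [],
    [],
    [],
    [],
    [],
    [],
    [],
    [],
    [],
    [],
    [],
    [],
    [],
    [],
    [],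
    [],
    [],
    [],
    [],
    []] : List (List ℕ))

/-- The spreading moves, step A. -/
def btA : List (List ℕ) :=
  ([[],
    [],
    [],
    [],
    [],
    [],
    [],
    [],
    [],
    [],
    [],
    [],
    [],
    [],
    [],
    [],
    [],
    [],
    [],
    [],
    [],
    [],
    [],
    [],
    [],
    [],
    [],
    [],
    []] : List (List ℕ))

/-- The tables, step A. -/
def tabA : Tab 29 100 where
  P k := (PA.getD k []).map (tri 29 29)
  nb i := (nbA.getD i []).map (tri 100 29)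
  bt i j := duo 100 29 ((btA.getD i []).getD j 0)

theorem nilA : ∀ k, Nil2 (tabA.P k) := by decide +kernel

theorem cleanA : Clean tabA.P 0 (tabA.nb 0) ∧ tgts (tabA.nb 0) = List.ofFn fun j : Fin 28 => j.succ := by
  decide +kernel

theorem memYA : ∀ i, YA i ∈ List.range chevE8.nroots := by decide +kernel

theorem memA : ∀ k, alA k ∈ List.range chevE8.nroots := by decide +kernel

theorem abA_0 : ∀ i : Fin 29, (i : ℕ) / 64 = 0 → AbAt ent 240 YA i := by
  decide +kernel

theorem abA : ∀ i : Fin 29, AbAt ent 240 YA i := fun i => by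
  have := i.isLt
  obtain h : (i : ℕ) / 64 = 0 := by omega
  · exact abA_0 i h

theorem lkA_0 : ∀ i : Fin 100, (i : ℕ) / 128 = 0 → LinkAt ent 240 YA alA tabA i := by
  decide +kernel

theorem lkA : ∀ i : Fin 100, LinkAt ent 240 YA alA tabA i := fun i => by
  have := i.isLt
  obtain h : (i : ℕ) / 128 = 0 := by omega
  · exact lkA_0 i h

theorem linkA : LinkOk chevE8 (List.range chevE8.nroots) YA alA tabA :=
  link_of commTerms_E8 memYA memA abA lkA

/-- The coordinates moved by the root of `E₇`. -/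
def srcA : Finset (Fin 29) := {1, 2, 3, 4, 5, 6}

theorem moveA : ((tabA.P 99).map fun e => e.1).Nodup ∧
    (∀ e ∈ tabA.P 99, e.2.2 * e.2.2 = 1 ∧ e.2.1 ∈ srcA) ∧
    (∀ j ∈ srcA, ∃ e ∈ tabA.P 99, e.2.1 = j) ∧ (0 : Fin 29) ∉ srcA ∧ srcA.card = 6 ∧
    outOf (tabA.P 99) 0 = [] := by
  decide +kernel

theorem sideA : ∀ e ∈ tabA.nb 0, e.2.1 ∈ srcA ∨
    (alA e.1 ≠ alA 99 ∧ alA e.1 ≠ 239 - alA 99 ∧ ent (alA 99) (alA e.1) = []) := by
  decide +kernel

theorem comA : outOf (tabA.P 79) 0 = [] ∧ outOf (tabA.P 98) 0 = [] ∧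
    alA 98 ≠ alA 79 ∧ alA 98 ≠ 239 - alA 79 ∧
    chevE8.commTerms (alA 79) (alA 98) = [(alA 99, -1, 1, 1)] := by
  decide +kernel

/-- The roots commuting with the highest root, other than itself. -/
def alT : Fin 182 → ℕ := fun i => ([13, 20, 25, 29, 32, 34, 35, 39, 42, 44, 45, 48, 50, 51, 53, 54, 55, 58, 60, 61, 63, 64, 65, 67, 68, 69, 70, 72, 73, 74, 75, 76, 77, 80, 82, 83, 85, 86, 87, 89, 90, 91, 92, 94, 95, 96, 97, 98, 100, 101, 102, 103, 104, 106, 107, 108, 109, 111, 112, 113, 115, 116, 118, 120, 121, 122, 123, 124, 125, 126, 127, 128, 129, 130, 131, 132, 133, 134, 135, 136, 137, 138, 139, 140, 141, 142, 143, 144, 145, 146, 147, 148, 149, 150, 151, 152, 153, 154, 155, 156, 157, 158, 159, 160, 161, 162, 163, 164, 165, 166, 167, 168, 169, 170, 171, 172, 173, 174, 175, 176, 177, 178, 179, 180, 181, 182, 183, 184, 185, 186, 187, 188, 189, 190, 191, 192, 193, 194, 195, 196, 197, 198, 199, 200, 201, 202, 203, 204, 205, 206, 207, 208, 209, 210,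 211, 212, 213, 214, 215, 216, 217, 218, 219, 220, 221, 222, 223, 224, 225, 226, 227, 228, 229, 230, 231, 232, 233, 234, 235, 236, 237, 238] : List (ℕ)).getD i 0

/-- The highest root alone. -/
def tabT : Tab 1 182 where
  P _ := []
  nb _ := []
  bt _ _ := []

theorem alT_eq : List.ofFn alT = phiB := by decide +kernel

theorem abT_0 : ∀ i : Fin 1, (i : ℕ) / 64 = 0 → AbAt ent 240 (fun _ => 239) i := by
  decide +kernel

theorem abT : ∀ i : Fin 1, AbAt ent 240 (fun _ => 239) i := fun i => by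
  have := i.isLt
  obtain h : (i : ℕ) / 64 = 0 := by omega
  · exact abT_0 i h

theorem lkT_0 : ∀ i : Fin 182, (i : ℕ) / 64 = 0 → LinkAt ent 240 (fun _ : Fin 1 => 239) alT tabT i := by
  decide +kernel

theorem lkT_1 : ∀ i : Fin 182, (i : ℕ) / 64 = 1 → LinkAt ent 240 (fun _ : Fin 1 => 239) alT tabT i := by
  decide +kernel

theorem lkT_2 : ∀ i : Fin 182, (i : ℕ) / 64 = 2 → LinkAt ent 240 (fun _ : Fin 1 => 239) alT tabT i := by
  decide +kernel

theorem lkT : ∀ i : Fin 182, LinkAt ent 240 (fun _ : Fin 1 => 239) alT tabT i := fun i => by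
  have := i.isLt
  obtain h | h | h : (i : ℕ) / 64 = 0 ∨ (i : ℕ) / 64 = 1 ∨ (i : ℕ) / 64 = 2 := by omega
  · exact lkT_0 i h
  · exact lkT_1 i h
  · exact lkT_2 i h

theorem linkT : LinkOk chevE8 (List.range chevE8.nroots) (fun _ : Fin 1 => 239) alT tabT :=
  link_of commTerms_E8 (by decide +kernel) (by decide +kernel) abT lkT

/-- A root joining each root to a higher one. -/
def up : Fin 239 → ℕ × ℕ × ℤ × ℤ := fun i => ([(120, 1, -1, -1), (121, 2, -1, -1), (123, 3, -1, -1), (126, 4, -1, -1), (130, 5, -1, -1), (135, 6, -1, -1), (141, 8, -1, -1), (135, 8, -1, -1), (130, 9, -1, -1), (126, 10, -1, -1), (123, 11, -1, -1), (121, 12, -1, -1), (120, 13, -1, -1), (162, 20, -1, -1), (141, 15, -1, -1), (130, 16, -1, -1), (126, 17, -1, -1), (123, 18, -1, -1), (121, 19, -1, -1), (120, 20, -1, -1), (135, 25, -1, -1), (126, 22, -1, -1), (123, 23, -1, -1), (121, 24, -1, -1), (120, 25, -1, -1), (130, 29, -1, -1), (123, 27, -1, -1), (121, 28, -1, -1), (120, 29,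 -1, -1), (126, 32, -1, -1), (121, 31, -1, -1), (120, 32, -1, -1), (123, 34, -1, -1), (120, 34, -1, -1), (121, 35, -1, -1), (141, 45, -1, -1), (123, 37, -1, -1), (121, 38, -1, -1), (120, 39, -1, -1), (126, 42, -1, -1), (121, 41, -1, -1), (120, 42, -1, -1), (123, 44, -1, -1), (120, 44, -1, -1), (121, 45, -1, -1), (130, 51, -1, -1), (121, 47, -1, -1), (120, 48, -1, -1), (123, 50, -1, -1), (120, 50, -1, -1), (121, 51, -1, -1), (126, 54, -1, -1), (120, 53, -1, -1), (121, 54, -1, -1), (123, 55, -1, -1), (135, 65, -1, -1), (121, 57, -1, -1), (120, 58, -1, -1), (123, 60, -1, -1), (120, 60, -1, -1), (121, 61, -1, -1), (126, 64, -1, -1), (120, 63, -1, -1), (121, 64, -1, -1), (123, 65, -1, -1), (130, 69, -1, -1), (120, 67, -1, -1), (121, 68, -1, -1), (123, 69, -1, -1), (126, 70, -1, -1), (141, 75, -1, -1), (120, 72, -1, -1), (121, 73, -1, -1), (123, 74, -1, -1), (126, 75, -1, -1), (130, 76, -1, -1), (135, 77, -1, -1), (163, 135, 1, 1), (121, 79, -1, -1),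 (120, 80, -1, -1), (123, 82, -1, -1), (120, 82, -1, -1), (121, 83, -1, -1), (126, 86, -1, -1), (120, 85, -1, -1), (121, 86, -1, -1), (123, 87, -1, -1), (130, 91, -1, -1), (120, 89, -1, -1), (121, 90, -1, -1), (123, 91, -1, -1), (126, 92, -1, -1), (135, 97, -1, -1), (120, 94, -1, -1), (121, 95, -1, -1), (123, 96, -1, -1), (126, 97, -1, -1), (130, 98, -1, -1), (142, 130, 1, 1), (120, 100, -1, -1), (121, 101, -1, -1), (123, 102, -1, -1), (126, 103, -1, -1), (130, 104, -1, -1), (136, 130, 1, 1), (120, 106, -1, -1), (121, 107, -1, -1), (123, 108, -1, -1), (126, 109, -1, -1), (131, 126, 1, 1), (120, 111, -1, -1), (121, 112, -1, -1), (123, 113, -1, -1), (127, 123, 1, 1), (120, 115, -1, -1), (121, 116, -1, -1), (124, 121, 1, 1), (120, 118, -1, -1), (122, 120, 1, 1), (122, 121, -1, -1), (121, 122, -1, -1), (120, 122, 1, 1), (123, 125, -1, -1), (121, 124, 1, 1), (120, 125, 1, 1), (126, 129, -1, -1), (123, 127, 1, 1), (121, 128, 1, 1), (120, 129, 1, 1),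 (130, 134, -1, -1), (126, 131, 1, 1), (123, 132, 1, 1), (121, 133, 1, 1), (120, 134, 1, 1), (135, 140, -1, -1), (130, 136, 1, 1), (126, 137, 1, 1), (123, 138, 1, 1), (121, 139, 1, 1), (120, 140, 1, 1), (141, 151, 1, 1), (130, 142, 1, 1), (126, 143, 1, 1), (123, 144, 1, 1), (121, 145, 1, 1), (120, 146, 1, 1), (135, 151, 1, 1), (126, 148, 1, 1), (123, 149, 1, 1), (121, 150, 1, 1), (120, 151, 1, 1), (130, 155, 1, 1), (123, 153, 1, 1), (121, 154, 1, 1), (120, 155, 1, 1), (126, 158, 1, 1), (121, 157, 1, 1), (120, 158, 1, 1), (123, 160, 1, 1), (120, 160, 1, 1), (121, 161, 1, 1), (162, 183, -1, -1), (135, 163, 1, 1), (130, 164, 1, 1), (126, 165, 1, 1), (123, 166, 1, 1), (121, 167, 1, 1), (120, 168, 1, 1), (141, 173, 1, 1), (126, 170, 1, 1), (123, 171, 1, 1), (121, 172, 1, 1), (120, 173, 1, 1), (130, 177, 1, 1), (123, 175, 1, 1), (121, 176, 1, 1), (120, 177, 1, 1), (126, 180, 1, 1), (121, 179, 1, 1), (120, 180, 1, 1), (123, 182, 1, 1), (120, 182, 1, 1),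 (121, 183, 1, 1), (135, 193, 1, 1), (123, 185, 1, 1), (121, 186, 1, 1), (120, 187, 1, 1), (126, 190, 1, 1), (121, 189, 1, 1), (120, 190, 1, 1), (123, 192, 1, 1), (120, 192, 1, 1), (121, 193, 1, 1), (130, 199, 1, 1), (121, 195, 1, 1), (120, 196, 1, 1), (123, 198, 1, 1), (120, 198, 1, 1), (121, 199, 1, 1), (126, 202, 1, 1), (120, 201, 1, 1), (121, 202, 1, 1), (123, 203, 1, 1), (141, 213, 1, 1), (121, 205, 1, 1), (120, 206, 1, 1), (123, 208, 1, 1), (120, 208, 1, 1), (121, 209, 1, 1), (126, 212, 1, 1), (120, 211, 1, 1), (121, 212, 1, 1), (123, 213, 1, 1), (130, 217, 1, 1), (120, 215, 1, 1), (121, 216, 1, 1), (123, 217, 1, 1), (126, 218, 1, 1), (135, 223, 1, 1), (120, 220, 1, 1), (121, 221, 1, 1), (123, 222, 1, 1), (126, 223, 1, 1), (130, 224, 1, 1), (141, 225, 1, 1), (162, 233, 1, 1), (120, 227, 1, 1), (121, 228, 1, 1), (123, 229, 1, 1), (126, 230, 1, 1), (130, 231, 1, 1), (135, 232, 1, 1), (141, 234, 1, 1), (135, 234, 1, 1), (130, 235, 1, 1), (126,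 236, 1, 1), (123, 237, 1, 1), (121, 238, 1, 1), (120, 239, 1, 1)] : List (ℕ × ℕ × ℤ × ℤ)).getD i (0, 0, 0, 0)

/-- The check of `up`. -/
def UpAt (r : Fin 239) : Prop :=
  (r : ℕ) < (up r).2.1 ∧ (up r).2.1 < 240 ∧ (up r).1 < 240 ∧ (up r).2.2.1 * (up r).2.2.1 = 1 ∧
    (up r).2.2.2 * (up r).2.2.2 = 1 ∧
    ((r : ℕ) ≠ (up r).1 ∧ (r : ℕ) ≠ 239 - (up r).1 ∧ ent (up r).1 r = [((up r).2.1, (up r).2.2.1)]) ∧
    ((r : ℕ) ≠ 239 - (up r).1 ∧ (r : ℕ) ≠ 239 - (239 - (up r).1) ∧ ent (239 - (up r).1) r = []) ∧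
    ((up r).2.1 ≠ 239 - (up r).1 ∧ (up r).2.1 ≠ 239 - (239 - (up r).1) ∧
      ent (239 - (up r).1) (up r).2.1 = [((r : ℕ), (up r).2.2.2)]) ∧
    ((up r).2.1 ≠ (up r).1 ∧ (up r).2.1 ≠ 239 - (up r).1 ∧ ent (up r).1 (up r).2.1 = []) ∧
    ((up r).2.1 ≠ (r : ℕ) ∧ (up r).2.1 ≠ 239 - (r : ℕ) ∧ ent r (up r).2.1 = [])

instance (r : Fin 239) : Decidable (UpAt r) := by unfold UpAt; infer_instance

theorem upOk_0 : ∀ i : Fin 239, (i : ℕ) / 20 = 0 → UpAt i := by
  decide +kernel

theorem upOk_1 : ∀ i : Fin 239, (i : ℕ) / 20 = 1 → UpAt i := by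
  decide +kernel

theorem upOk_2 : ∀ i : Fin 239, (i : ℕ) / 20 = 2 → UpAt i := by
  decide +kernel

theorem upOk_3 : ∀ i : Fin 239, (i : ℕ) / 20 = 3 → UpAt i := by
  decide +kernel

theorem upOk_4 : ∀ i : Fin 239, (i : ℕ) / 20 = 4 → UpAt i := by
  decide +kernel

theorem upOk_5 : ∀ i : Fin 239, (i : ℕ) / 20 = 5 → UpAt i := by
  decide +kernel

theorem upOk_6 : ∀ i : Fin 239, (i : ℕ) / 20 = 6 → UpAt i := by
  decide +kernel

theorem upOk_7 : ∀ i : Fin 239, (i : ℕ) / 20 = 7 → UpAt i := by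
  decide +kernel

theorem upOk_8 : ∀ i : Fin 239, (i : ℕ) / 20 = 8 → UpAt i := by
  decide +kernel

theorem upOk_9 : ∀ i : Fin 239, (i : ℕ) / 20 = 9 → UpAt i := by
  decide +kernel

theorem upOk_10 : ∀ i : Fin 239, (i : ℕ) / 20 = 10 → UpAt i := by
  decide +kernel

theorem upOk_11 : ∀ i : Fin 239, (i : ℕ) / 20 = 11 → UpAt i := by
  decide +kernel

theorem upOk : ∀ i : Fin 239, UpAt i := fun i => by
  have := i.isLt
  obtain h | h | h | h | h | h | h | h | h | h | h | h : (i : ℕ) / 20 = 0 ∨ (i : ℕ) / 20 = 1 ∨ (i : ℕ) / 20 = 2 ∨ (i : ℕ) / 20 = 3 ∨ (i : ℕ) / 20 = 4 ∨ (i : ℕ) / 20 = 5 ∨ (i : ℕ) / 20 = 6 ∨ (i : ℕ) / 20 = 7 ∨ (i : ℕ) / 20 = 8 ∨ (i : ℕ) / 20 = 9 ∨ (i : ℕ) / 20 = 10 ∨ (i : ℕ) / 20 = 11 := by omega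
  · exact upOk_0 i h
  · exact upOk_1 i h
  · exact upOk_2 i h
  · exact upOk_3 i h
  · exact upOk_4 i h
  · exact upOk_5 i h
  · exact upOk_6 i h
  · exact upOk_7 i h
  · exact upOk_8 i h
  · exact upOk_9 i h
  · exact upOk_10 i h
  · exact upOk_11 i h

end CfsgLib.EEightDegree
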